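import Mathlib
import Cfsg.Agent.Lib.Invol.Order95040.Counting

/-!
Lists of pairwise non-conjugate elements: their length is at most the number of classes, and a full list gives
the class equation.
-/

set_option autoImplicit false
set_option linter.style.haveILetI false
set_option linter.unusedSectionVars false

namespace Cfsg.Agent.Invol.M23Ord

open Cfsg Cfsg.Agent.Block Cfsg.Agent.Char Cfsg.Agent.Invol.M12Ord

universe u

variable {G : Type u} [Group G]

/-- A list of pairwise non-conjugate elements. -/
def Sep (L : List G) : Prop := L.Pairwise fun a b => ¬ IsConj a b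

theorem conj_orderOf {a b : G} (h : IsConj a b) : orderOf a = orderOf b := by
  obtain ⟨g, rfl⟩ := isConj_iff.1 h
  exact ((MulAut.conj g).orderOf_eq a).symm

theorem nconj_of_order {a b : G} (h : orderOf a ≠ orderOf b) : ¬ IsConj a b := fun hc => h (conj_orderOf hc)

theorem conj_pow_of {a b : G} (h : IsConj a b) (k : ℕ) : IsConj (a ^ k) (b ^ k) := by
  obtain ⟨g, rfl⟩ := isConj_iff.1 h
  exact isConj_iff.2 ⟨g, by rw [conj_pow]⟩

variable [Finite G]

theorem cn_inv (g : G) : cn g⁻¹ = cn g := by
  show Nat.card (Subgroup.centralizer ({g⁻¹} : Set G)) = Nat.card (Subgroup.centralizer ({g} : Set G))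
  rw [← Subgroup.centralizer_closure, ← Subgroup.zpowers_eq_closure, Subgroup.zpowers_inv,
    Subgroup.zpowers_eq_closure, Subgroup.centralizer_closure]

theorem cn_dvd_pow (g : G) (k : ℕ) : cn g ∣ cn (g ^ k) :=
  Subgroup.card_dvd_of_le fun x hx => Subgroup.mem_centralizer_singleton_iff.2
    ((Commute.pow_right (Subgroup.mem_centralizer_singleton_iff.1 hx : Commute x g) k).eq)

theorem Sep.nodup_mk {L : List G} (h : Sep L) : (L.map ConjClasses.mk).Nodup :=
  List.pairwise_map.2 (h.imp fun {a b} hab (e : ConjClasses.mk a = ConjClasses.mk b) =>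
    hab (ConjClasses.mk_eq_mk_iff_isConj.1 e))

theorem Sep.length_le {L : List G} (h : Sep L) : L.length ≤ Nat.card (ConjClasses G) := by
  classical
  haveI := Fintype.ofFinite (ConjClasses G)
  rw [← List.length_map (f := ConjClasses.mk) (as := L), ← List.toFinset_card_of_nodup h.nodup_mk,
    Nat.card_eq_fintype_card]
  exact Finset.card_le_univ _

theorem exists_not_conj (L : List G) (h : L.length < Nat.card (ConjClasses G)) :
    ∃ g : G, ∀ r ∈ L, ¬ IsConj r g := by
  classical
  haveI := Fintype.ofFinite (ConjClasses G)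
  rw [Nat.card_eq_fintype_card] at h
  obtain ⟨c, hc⟩ : ∃ c, c ∉ (L.map ConjClasses.mk).toFinset := by
    by_contra hc
    push Not at hc
    have h1 := (List.toFinset_card_le (L.map ConjClasses.mk))
    rw [List.length_map, Finset.eq_univ_iff_forall.2 hc, Finset.card_univ] at h1
    omega
  obtain ⟨g, rfl⟩ := ConjClasses.mk_surjective c
  exact ⟨g, fun r hr hrg => hc (List.mem_toFinset.2 (List.mem_map.2 ⟨r, hr, ConjClasses.mk_eq_mk_iff_isConj.2 hrg⟩))⟩

theorem Sep.complete {L : List G} (h : Sep L) (hk : L.length = Nat.card (ConjClasses G)) :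
    (∀ g : G, ∃ r ∈ L, IsConj r g) ∧ (L.map fun r => Nat.card G / cn r).sum = Nat.card G := by
  classical
  haveI := Fintype.ofFinite (ConjClasses G)
  haveI := Fintype.ofFinite G
  have huniv : (L.map ConjClasses.mk).toFinset = Finset.univ := by
    refine Finset.eq_univ_of_card _ ?_
    rw [List.toFinset_card_of_nodup h.nodup_mk, List.length_map, hk, Nat.card_eq_fintype_card]
  refine ⟨fun g => ?_, ?_⟩
  · have hg : ConjClasses.mk g ∈ (L.map ConjClasses.mk).toFinset := by rw [huniv]; exact Finset.mem_univ _
    obtain ⟨r, hr, he⟩ := List.mem_map.1 (List.mem_toFinset.1 hg)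
    exact ⟨r, hr, ConjClasses.mk_eq_mk_iff_isConj.1 he⟩
  · haveI : ∀ x : ConjClasses G, Fintype x.carrier := fun x => Fintype.ofFinite _
    have heq := sum_conjClasses_card_eq_card (G := G)
    rw [← huniv, List.sum_toFinset _ h.nodup_mk, List.map_map, ← Nat.card_eq_fintype_card] at heq
    refine Eq.trans (congrArg List.sum (List.map_congr_left fun r _ => ?_)) heq
    show Nat.card G / cn r = (ConjClasses.mk r).carrier.toFinset.card
    rw [← Set.ncard_eq_toFinset_card', show (ConjClasses.mk r).carrier = {x : G | IsConj x r} from Set.ext fun x => by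
      rw [ConjClasses.mem_carrier_iff_mk_eq, ConjClasses.mk_eq_mk_iff_isConj]; rfl]
    exact Nat.div_eq_of_eq_mul_left (cn_pos r) (ncard_class r).symm

/-- A group of order a power of two at least sixteen has at least five classes. -/
theorem five_le_classes {H : Type*} [Group H] [Finite H] {a : ℕ} (ha : 4 ≤ a) (hH : Nat.card H = 2 ^ a) :
    5 ≤ Nat.card (ConjClasses H) := by
  classical
  haveI : Fact (Nat.Prime 2) := ⟨Nat.prime_two⟩
  haveI := Fintype.ofFinite H
  haveI := Fintype.ofFinite (ConjClasses H)
  obtain ⟨j, hj, hZ⟩ := IsPGroup.card_center_eq_prime_pow hH (by omega)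
  have heq := Group.nat_card_center_add_sum_card_noncenter_eq_card H
  have h16 : 16 ≤ 2 ^ a := le_trans (by norm_num) (Nat.pow_le_pow_right (by norm_num) ha)
  have hZ2 : 2 ≤ Nat.card (Subgroup.center H) := by
    rw [hZ]; exact le_trans (by norm_num) (Nat.pow_le_pow_right (by norm_num) hj)
  rw [hH] at heq
  have hcls : ∀ x ∈ ConjClasses.noncenter H, 4 * Nat.card x.carrier ≤ 2 ^ a := by
    intro x hx
    obtain ⟨h, rfl⟩ := ConjClasses.mk_surjective x
    have hc : Nat.card (ConjClasses.mk h).carrier * cn h = 2 ^ a := by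
      rw [← hH, ← ncard_class h, Nat.card_coe_set_eq]
      congr 2
      exact Set.ext fun y => by
        rw [ConjClasses.mem_carrier_iff_mk_eq, ConjClasses.mk_eq_mk_iff_isConj]; rfl
    have hzc : Subgroup.center H < Subgroup.centralizer ({h} : Set H) := by
      refine lt_of_le_not_ge (Subgroup.center_le_centralizer _) fun hle => ?_
      have hm : h ∈ Subgroup.center H := hle (Subgroup.mem_centralizer_singleton_iff.2 rfl)
      have hs : (ConjClasses.mk h).carrier = {h} := Set.ext fun y => by
        rw [ConjClasses.mem_carrier_iff_mk_eq, ConjClasses.mk_eq_mk_iff_isConj, Set.mem_singleton_iff]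
        refine ⟨fun hy => ?_, fun hy => hy ▸ IsConj.refl _⟩
        obtain ⟨g, hg⟩ := isConj_iff.1 hy.symm
        rw [← hg, Subgroup.mem_center_iff.1 hm g, mul_inv_cancel_right]
      rw [ConjClasses.mem_noncenter] at hx
      rw [hs] at hx
      exact Set.not_nontrivial_singleton hx
    obtain ⟨i, -, hi⟩ := (Nat.dvd_prime_pow Nat.prime_two).1 (hH ▸ cn_dvd_card h)
    have hlt : Nat.card (Subgroup.center H) < cn h := by
      exact lt_of_le_of_ne (Nat.le_of_dvd (cn_pos h) (Subgroup.card_dvd_of_le hzc.le)) fun e =>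
        hzc.ne (Subgroup.eq_of_le_of_card_ge hzc.le e.ge)
    rcases i with _ | _ | i
    · omega
    · omega
    · rw [← hc, hi, mul_comm (Nat.card _)]
      exact Nat.mul_le_mul_right _ (by rw [pow_add, pow_add]; have := Nat.two_pow_pos i; omega)
  have hle : 4 * ∑ᶠ x ∈ ConjClasses.noncenter H, Nat.card x.carrier ≤
      (ConjClasses.noncenter H).toFinset.card * 2 ^ a := by
    rw [finsum_mem_eq_toFinset_sum, Finset.mul_sum]
    exact Finset.sum_le_card_nsmul _ _ _ (fun x hx => hcls x (Set.mem_toFinset.1 hx)) |>.trans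
      (le_of_eq (smul_eq_mul _ _))
  have hk : Nat.card (Subgroup.center H) + (ConjClasses.noncenter H).toFinset.card ≤ Nat.card (ConjClasses H) := by
    have hinj : Function.Injective fun z : Subgroup.center H => ConjClasses.mk (z : H) := fun y z hyz => by
      obtain ⟨g, hg⟩ := isConj_iff.1 (ConjClasses.mk_eq_mk_iff_isConj.1 hyz)
      refine Subtype.ext ?_
      rw [← hg, Subgroup.mem_center_iff.1 y.2 g, mul_inv_cancel_right]
    set Zc := (Finset.univ : Finset (Subgroup.center H)).image fun z : Subgroup.center H => ConjClasses.mk (z : H) with hZc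
    have hd : Disjoint Zc (ConjClasses.noncenter H).toFinset := by
      refine Finset.disjoint_left.2 fun x hx hx' => ?_
      obtain ⟨z, -, rfl⟩ := Finset.mem_image.1 hx
      rw [Set.mem_toFinset, ConjClasses.mem_noncenter] at hx'
      obtain ⟨y, hy, hyz⟩ := hx'.exists_ne (z : H)
      rw [ConjClasses.mem_carrier_iff_mk_eq, ConjClasses.mk_eq_mk_iff_isConj] at hy
      obtain ⟨g, hg⟩ := isConj_iff.1 hy.symm
      exact hyz (by rw [← hg, Subgroup.mem_center_iff.1 z.2 g, mul_inv_cancel_right])
    have h1 := Finset.card_le_univ (Zc ∪ (ConjClasses.noncenter H).toFinset)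
    rw [Finset.card_union_of_disjoint hd, hZc, Finset.card_image_of_injective _ hinj, Finset.card_univ,
      ← Nat.card_eq_fintype_card, ← Nat.card_eq_fintype_card (α := ConjClasses H)] at h1
    exact h1
  generalize (∑ᶠ x ∈ ConjClasses.noncenter H, Nat.card x.carrier) = s at heq hle
  generalize (ConjClasses.noncenter H).toFinset.card = m at hle hk
  generalize Nat.card (Subgroup.center H) = z at heq hk hZ2
  generalize Nat.card (ConjClasses H) = k at hk ⊢
  by_contra hc
  have hm : m ≤ 4 - z := by omega
  have h1 : 4 * s ≤ (4 - z) * 2 ^ a := hle.trans (Nat.mul_le_mul_right _ hm)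
  have h2 : z ≤ 4 := by omega
  interval_cases z <;> omega

end Cfsg.Agent.Invol.M23Ord
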