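import Mathlib
import Cfsg.Agent.Lib.Invol.Order443520.Arith

/-!
Order 10200960: the computable lists of possible values and of possible degrees in a principal block.
-/

set_option autoImplicit false

namespace Cfsg.Agent.Invol.M23Ord

open Cfsg.Agent.Invol.M22Ord (Row msets wdeg)

/-- Whether `a` may be the value of a character of degree `d` at an involution with centralizer order `h`. -/
def okv (h d : ℕ) (a : ℤ) : Bool :=
  Nat.blt a.natAbs d && Nat.blt (a.natAbs * a.natAbs) h && Nat.beq (Int.natAbs (a - d) % 4) 0 &&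
    Nat.beq ((10200960 / h * a.natAbs) % d) 0

theorem okv_iff {h d : ℕ} {a : ℤ} : okv h d a = true ↔ -(d : ℤ) < a ∧ a < (d : ℤ) ∧ a * a < (h : ℤ) ∧
    (4 : ℤ) ∣ a - d ∧ (d : ℤ) ∣ ((10200960 / h : ℕ) : ℤ) * a := by
  simp only [okv, Bool.and_eq_true, Nat.blt_eq, Nat.beq_eq]
  have h1 : (Int.natAbs (a - d) % 4 = 0) ↔ (4 : ℤ) ∣ a - d := by
    rw [← Nat.dvd_iff_mod_eq_zero, show (4 : ℤ) = ((4 : ℕ) : ℤ) from rfl, Int.natCast_dvd]
  have h2 : ((10200960 / h * a.natAbs) % d = 0) ↔ (d : ℤ) ∣ ((10200960 / h : ℕ) : ℤ) * a := by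
    rw [← Nat.dvd_iff_mod_eq_zero, Int.natCast_dvd, Int.natAbs_mul, Int.natAbs_natCast]
  have h3 : a.natAbs * a.natAbs < h ↔ a * a < (h : ℤ) := by
    rw [← Int.natAbs_mul_self (a := a)]; exact Int.ofNat_lt.symm
  rw [h1, h2, h3]
  constructor
  · rintro ⟨⟨⟨e1, e2⟩, e3⟩, e4⟩; exact ⟨by omega, by omega, e2, e3, e4⟩
  · rintro ⟨e1, e1', e2, e3, e4⟩; exact ⟨⟨⟨by omega, e2⟩, e3⟩, e4⟩

/-- A bound on the absolute values whose squares are less than `h`. -/
def rootBound (h d : ℕ) : ℕ :=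
  ([8, 12, 16, 24, 32, 48, 64, 96, 128, 192, 256, 384, 512, 768].find? fun r => Nat.ble h (r * r)).getD d

/-- The multiples of the least step allowed by integrality, up to the bound. -/
def stepList (h d : ℕ) : List ℤ :=
  let q := d / Nat.gcd d (10200960 / h)
  let k := min (d - 1) (rootBound h d) / q
  (List.range (2 * k + 1)).map fun i : ℕ => ((i : ℤ) - k) * q

theorem mem_stepList {h d : ℕ} {a : ℤ} (h1 : -(d : ℤ) < a) (h2 : a < (d : ℤ)) (h3 : a * a < (h : ℤ))
    (h5 : (d : ℤ) ∣ ((10200960 / h : ℕ) : ℤ) * a) : a ∈ stepList h d := by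
  set g := Nat.gcd d (10200960 / h) with hg
  set q := d / g with hq
  set k := min (d - 1) (rootBound h d) / q with hk
  have hd : 0 < d := by omega
  have hg0 : 0 < g := Nat.gcd_pos_of_pos_left _ hd
  have hq0 : 0 < q := Nat.div_pos (Nat.le_of_dvd hd (Nat.gcd_dvd_left _ _)) hg0
  have hqa : q ∣ a.natAbs := by
    have h6 : d ∣ 10200960 / h * a.natAbs := by
      rw [← Int.natCast_dvd_natCast, Nat.cast_mul, Int.natCast_natAbs]
      rcases abs_choice a with e | e <;> rw [e]
      · exact h5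
      · rw [mul_neg]; exact dvd_neg.2 h5
    refine (Nat.coprime_div_gcd_div_gcd hg0).dvd_of_dvd_mul_left ?_
    have h7 := Nat.div_dvd_div (Nat.gcd_dvd_left d (10200960 / h)) h6
    rwa [Nat.mul_comm, Nat.mul_div_assoc _ (Nat.gcd_dvd_right _ _), Nat.mul_comm] at h7
  have hb : a.natAbs ≤ min (d - 1) (rootBound h d) := by
    refine le_min (by omega) ?_
    unfold rootBound
    cases hf : [8, 12, 16, 24, 32, 48, 64, 96, 128, 192, 256, 384, 512, 768].find? (fun r => Nat.ble h (r * r)) with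
    | none => simp only [Option.getD_none]; omega
    | some r =>
      have hr : h ≤ r * r := by simpa using List.find?_some hf
      simp only [Option.getD_some]
      by_contra hlt
      have h8 : r * r ≤ a.natAbs * a.natAbs := Nat.mul_le_mul (by omega) (by omega)
      rw [← Int.natAbs_mul_self (a := a)] at h3
      omega
  obtain ⟨i, hi⟩ := hqa
  have hik : i ≤ k := (Nat.le_div_iff_mul_le hq0).2 (by rw [Nat.mul_comm, ← hi]; exact hb)
  show a ∈ (List.range (2 * k + 1)).map fun j : ℕ => ((j : ℤ) - k) * q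
  rw [List.mem_map]
  rcases Int.natAbs_eq a with e | e
  · refine ⟨k + i, List.mem_range.2 (by omega), ?_⟩
    rw [e, hi]; push_cast; ring
  · refine ⟨k - i, List.mem_range.2 (by omega), ?_⟩
    rw [e, hi]; push_cast [Nat.cast_sub hik]; ring

/-- The values at an involution, with the congruence at `p` if asked. -/
def cand (p h : ℕ) (cg : Bool) (x : ℤ × ℤ) : List ℤ :=
  (stepList h x.1.toNat).filter fun a =>
    okv h x.1.toNat a && (!cg || Nat.beq ((a - x.2).natAbs % p) 0)

theorem mem_cand {p h d : ℕ} {cg : Bool} {s a : ℤ} (_hp : 0 < p) (ha : okv h d a = true)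
    (hc : cg = true → (p : ℤ) ∣ a - s) : a ∈ cand p h cg ((d : ℤ), s) := by
  simp only [cand, Int.toNat_natCast]
  obtain ⟨h1, h2, h3, -, h5⟩ := okv_iff.1 ha
  refine List.mem_filter.2 ⟨mem_stepList h1 h2 h3 h5, ?_⟩
  cases cg
  · simp [ha]
  · simp only [ha, Bool.not_true, Bool.false_or, Bool.true_and, Nat.beq_eq, ← Nat.dvd_iff_mod_eq_zero,
      ← Int.natCast_dvd]
    exact hc rfl

/-- The possible degrees other than one. -/
def degList : List ℕ :=
  [2, 3, 4, 5, 6, 7, 8, 9, 10, 11, 12, 14, 15, 16, 18, 20, 21, 22, 23, 24, 28, 30, 32, 33, 35, 36, 40, 42, 44, 45, 46,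
   48, 55, 56, 60, 63, 64, 66, 69, 70, 72, 77, 80, 84, 88, 90, 92, 96, 99, 105, 110, 112, 115, 120, 126, 128, 132, 138,
   140, 144, 154, 160, 161, 165, 168, 176, 180, 184, 192, 198, 207, 210, 220, 224, 230, 231, 240, 252, 253, 264, 276,
   280, 288, 308, 315, 320, 322, 330, 336, 345, 352, 360, 368, 384, 385, 396, 414, 420, 440, 448, 460, 462, 480, 483,
   495, 504, 506, 528, 552, 560, 576, 616, 630, 640, 644, 660, 672, 690, 693, 704, 720, 736, 759, 770, 792, 805, 828,
   840, 880, 896, 920, 924, 960, 966, 990, 1008, 1012, 1035, 1056, 1104, 1120, 1152, 1155, 1232, 1260, 1265, 1288,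
   1320, 1344, 1380, 1386, 1408, 1440, 1449, 1472, 1518, 1540, 1584, 1610, 1656, 1680, 1760, 1771, 1840, 1848, 1920,
   1932, 1980, 2016, 2024, 2070, 2112, 2208, 2240, 2277, 2310, 2415, 2464, 2520, 2530, 2576, 2640, 2688, 2760, 2772,
   2880, 2898, 2944, 3036, 3080, 3168]

theorem mem_degList {d : ℕ} (h2 : 2 ≤ d) (h : d ≤ 3193) (hd : d ∣ 10200960) : d ∈ degList := by
  have key : ((List.range 3194).all fun n => Nat.blt n 2 || !Nat.beq (10200960 % n) 0 || degList.contains n) = true := by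
    decide +kernel
  have h1 := List.all_eq_true.1 key d (List.mem_range.2 (by omega))
  rcases (by simpa [← Bool.not_eq_true, Nat.beq_eq] using h1 : (d < 2 ∨ 10200960 % d ≠ 0) ∨ d ∈ degList) with (h1 | h1) | h1
  · omega
  · exact absurd (Nat.mod_eq_zero_of_dvd hd) h1
  · exact h1

/-- The possible signed degrees in the principal block at `p`. -/
def sdegs (p : ℕ) (big : Bool) (pre : ℕ → Bool) : List (ℤ × ℤ) :=
  degList.flatMap fun d =>
    if 2 ≤ d && 10200960 % d == 0 && pre d then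
      if d % p == 1 && (!big || decide (2 * p + 1 ≤ d)) then [((d : ℤ), (1 : ℤ))]
      else if d % p == p - 1 && (!big || decide (3 * p - 1 ≤ d)) then [((d : ℤ), (-1 : ℤ))] else []
    else []

theorem mem_sdegs {p : ℕ} {big : Bool} {pre : ℕ → Bool} (hp : 3 ≤ p) {d : ℕ} {s : ℤ} (h2 : 2 ≤ d) (h665 : d ≤ 3193)
    (hd : d ∣ 10200960) (hpre : pre d = true) (hs : s = 1 ∨ s = -1) (hm : (p : ℤ) ∣ (d : ℤ) - s)
    (hbig : big = true → (d % p = 1 ∧ 2 * p + 1 ≤ d) ∨ (d % p = p - 1 ∧ 3 * p - 1 ≤ d)) :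
    ((d : ℤ), s) ∈ sdegs p big pre := by
  refine List.mem_flatMap.2 ⟨d, mem_degList h2 h665 hd, ?_⟩
  rw [if_pos (by simp [h2, Nat.mod_eq_zero_of_dvd hd, hpre])]
  have hcase : (s = 1 → d % p = 1) ∧ (s = -1 → d % p = p - 1) := by
    constructor <;> rintro rfl
    · have h1 : (1 : ℤ) ≡ (d : ℤ) [ZMOD p] := Int.modEq_iff_dvd.2 hm
      rw [show (1 : ℤ) = ((1 : ℕ) : ℤ) from rfl, Int.natCast_modEq_iff] at h1
      rw [← h1]; exact Nat.mod_eq_of_lt (by omega)
    · have h1 : ((p - 1 : ℕ) : ℤ) ≡ (d : ℤ) [ZMOD p] := by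
        refine Int.modEq_iff_dvd.2 ?_
        rw [show (d : ℤ) - ((p - 1 : ℕ) : ℤ) = ((d : ℤ) - -1) - (p : ℤ) by
          push_cast [Nat.cast_sub (show 1 ≤ p by omega)]; ring]
        exact dvd_sub hm dvd_rfl
      rw [Int.natCast_modEq_iff] at h1
      rw [← h1]; exact Nat.mod_eq_of_lt (by omega)
  rcases hs with rfl | rfl
  · have := hcase.1 rfl
    rw [if_pos ?_]
    · simp
    cases big
    · simp [this]
    · rcases hbig rfl with ⟨-, h⟩ | ⟨h, -⟩
      · simp [this, h]
      · omega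
  · have := hcase.2 rfl
    rw [if_neg (by simp [this]; omega), if_pos ?_]
    · simp
    cases big
    · simp [this]
    · rcases hbig rfl with ⟨h, -⟩ | ⟨-, h⟩
      · omega
      · simp [this, h]

/-- Complete a list of signed degrees with the exceptional degree, if possible. -/
def complete (p e : ℕ) (pre : ℕ → Bool) (X : List (ℤ × ℤ)) : List Row :=
  let S := 1 + (X.map fun x => x.2 * x.1).sum
  let ε : ℤ := if 0 < S then 1 else -1
  let y := ε * S
  let t : ℤ := (((p - 1) / e : ℕ) : ℤ)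
  if decide (2 ≤ y) && (10200960 : ℤ) % y == 0 && (y - ε * (e : ℤ)) % (p : ℤ) == 0 && pre y.toNat &&
      decide (1 + (X.map fun x => x.1 * x.1).sum + t * (y * y) ≤ 10200960) &&
      (e + 1 != p || X.all fun x => decide (x.1 ≤ y))
  then [(X, ε, y)] else []

/-- The possible principal blocks at `p` with automizer of order `e`. -/
def rows (p e : ℕ) (big : Bool) (pre : ℕ → Bool) : List Row :=
  (msets wdeg (sdegs p big pre) (e - 1) 10200960).flatMap (complete p e pre)

/-- The possible principal blocks with the signed degrees of the unexceptional part restricted further. -/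
def rowsSel (p e : ℕ) (big : Bool) (pre : ℕ → Bool) (sel : ℤ × ℤ → Bool) : List Row :=
  (msets wdeg ((sdegs p big pre).filter sel) (e - 1) 10200960).flatMap (complete p e pre)

theorem rowsSel_all (p e : ℕ) (big : Bool) (pre : ℕ → Bool) :
    rowsSel p e big pre (fun _ => true) = rows p e big pre := by
  simp [rowsSel, rows]

end Cfsg.Agent.Invol.M23Ord
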