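import Mathlib
import Cfsg.Agent.Lib.Invol.Order95040.Counting
import Cfsg.Agent.Lib.Block.SmallFaith.Main
import Cfsg.Agent.Lib.Block.SmallOrd.Degrees
import Cfsg.Agent.Lib.Invol.Order7920Unique

/-!
Simple groups of order 10200960: general facts on centralizers, degrees and character values.
-/

set_option autoImplicit false
set_option linter.style.haveILetI false
set_option linter.unusedSectionVars false

namespace Cfsg.Agent.Invol.M23Ord

open scoped ComplexConjugate
open Cfsg Cfsg.Agent.Block Cfsg.Agent.Char Cfsg.Agent.Invol.M12Ord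

universe u

variable {G : Type u} [Group G] [Finite G]

theorem sum_sq (hG : Nat.card G = 10200960) : ∑ χ : IrrCharacter G, dg χ ^ 2 = 10200960 := by
  classical
  apply Nat.cast_injective (R := ℂ)
  have h := sum_irr_mul_conj (1 : G) 1
  rw [if_pos (IsConj.refl _), centralizer_one_eq_top, Subgroup.card_top, hG] at h
  simp only [value_one, map_natCast] at h
  push_cast
  simpa [pow_two] using h

theorem sum_sq_le (hG : Nat.card G = 10200960) (S : Finset (IrrCharacter G)) :
    ∑ χ ∈ S, dg χ ^ 2 ≤ 10200960 := by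
  rw [← sum_sq hG]
  exact Finset.sum_le_univ_sum_of_nonneg fun χ => Nat.zero_le _

theorem dg_dvd (hG : Nat.card G = 10200960) (χ : IrrCharacter G) : dg χ ∣ 10200960 := hG ▸ charDeg_dvd χ

theorem dg_le (hG : Nat.card G = 10200960) (χ : IrrCharacter G) : dg χ ≤ 3193 := by
  have h := sum_sq_le hG {χ}
  rw [Finset.sum_singleton] at h
  by_contra hc
  have h' : 3194 ≤ dg χ := by omega
  have := Nat.pow_le_pow_left h' 2
  omega

theorem index_eq (hG : Nat.card G = 10200960) (g : G) :
    (Subgroup.centralizer ({g} : Set G)).index = 10200960 / cn g := by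
  rw [← hG, ← Subgroup.index_mul_card (Subgroup.centralizer ({g} : Set G)),
    Nat.mul_div_cancel _ (cn_pos g)]

/-- Divisibility of a rational value times the class length by the degree. -/
theorem idx_mod (hG : Nat.card G = 10200960) (χ : IrrCharacter G) {g : G} {a : ℤ}
    (ha : (χ : G → ℂ) g = a) : (((10200960 / cn g : ℕ) : ℤ) * a) % (dg χ : ℤ) = 0 := by
  have h := OrdP.index_dvd χ ha
  rw [index_eq hG] at h
  exact Int.emod_eq_zero_of_dvd h

theorem fact_one {p : ℕ} (hp : p = 5 ∨ p = 7 ∨ p = 11 ∨ p = 23) : (10200960 : ℕ).factorization p = 1 := by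
  have h : ∀ q m : ℕ, q.Prime → 10200960 = q * m → ¬ q ∣ m → (10200960 : ℕ).factorization q = 1 := by
    intro q m hq he hm
    rw [he, Nat.factorization_mul hq.ne_zero (fun h => hm (by rw [h]; exact dvd_zero q)), Finsupp.add_apply,
      hq.factorization_self, Nat.factorization_eq_zero_of_not_dvd hm]
  rcases hp with rfl | rfl | rfl | rfl
  · exact h 5 2040192 (by norm_num) (by norm_num) (by norm_num)
  · exact h 7 1457280 (by norm_num) (by norm_num) (by norm_num)
  · exact h 11 927360 (by norm_num) (by norm_num) (by norm_num)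
  · exact h 23 443520 (by norm_num) (by norm_num) (by norm_num)

theorem fact_three : (10200960 : ℕ).factorization 3 = 2 := by
  rw [show (10200960 : ℕ) = 3 ^ 2 * 1133440 by norm_num, Nat.factorization_mul (by norm_num) (by norm_num),
    Finsupp.add_apply, Nat.Prime.factorization_pow (by norm_num : Nat.Prime 3), Finsupp.single_eq_same,
    Nat.factorization_eq_zero_of_not_dvd (by norm_num : ¬ 3 ∣ 1133440)]

/-- The primes of the order and the powers whose divisibility gives defect zero. -/
def fullPow (q : ℕ) : ℕ := if q = 3 then 9 else q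

/-- A character of degree divisible by the full power of a prime vanishes at the singular elements. -/
theorem vanish (hG : Nat.card G = 10200960) {q : ℕ} [Fact q.Prime] (hq : q = 3 ∨ q = 5 ∨ q = 7 ∨ q = 11 ∨ q = 23)
    (χ : IrrCharacter G) (hd : fullPow q ∣ dg χ) {g : G} (hg : q ∣ orderOf g) : (χ : G → ℂ) g = 0 := by
  obtain ⟨M, hM⟩ := exists_isPModular q Fact.out
  refine defectZero_vanish hM χ ?_ hg
  have hpos : dg χ ≠ 0 := Nat.pos_iff_ne_zero.1 (charDeg_pos χ)
  have h2 := (Nat.factorization_le_iff_dvd hpos (by norm_num)).2 (dg_dvd hG χ) q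
  rw [hG]
  change (dg χ).factorization q = _
  rcases eq_or_ne q 3 with rfl | h3
  · have h1 := (Nat.Prime.pow_dvd_iff_le_factorization (p := 3) (k := 2) Fact.out hpos).1 (by simpa [fullPow] using hd)
    rw [fact_three] at h2 ⊢
    omega
  · have hq' := hq.resolve_left h3
    have h1 := (Nat.Prime.dvd_iff_one_le_factorization (Fact.out : q.Prime) hpos).1 (by simpa [fullPow, h3] using hd)
    rw [fact_one hq'] at h2 ⊢
    omega

variable [IsSimpleGroup G]

theorem not_comm (hG : Nat.card G = 10200960) : ¬ IsMulCommutative G := fun h => by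
  have h1 := card_prime_of_simple_of_comm (G := G) fun a b => h.1.1 a b
  rw [hG] at h1
  norm_num at h1

theorem cn_lt (hG : Nat.card G = 10200960) {g : G} (hg : g ≠ 1) : cn g < 10200960 := by
  refine lt_of_le_of_ne (Nat.le_of_dvd (by norm_num) (hG ▸ cn_dvd_card g)) fun h => ?_
  refine not_comm hG ⟨⟨comm_of_central_ne_one hg ?_⟩⟩
  have ht : Subgroup.centralizer ({g} : Set G) = ⊤ :=
    Subgroup.eq_top_of_card_eq _ (h.trans hG.symm)
  exact Subgroup.mem_center_iff.2 fun k =>
    Subgroup.mem_centralizer_singleton_iff.1 (ht ▸ Subgroup.mem_top k)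

theorem two_le (hG : Nat.card G = 10200960) {χ : IrrCharacter G} (h : χ ≠ trivialIrr G) : 2 ≤ dg χ :=
  OrdP.two_le_deg (not_comm hG) h

/-- No nontrivial element acts by a scalar in a nontrivial irreducible representation. -/
theorem norm_value_ne (hG : Nat.card G = 10200960) {χ : IrrCharacter G} (hne : χ ≠ trivialIrr G) {v : G}
    (hv : v ≠ 1) : ‖(χ : G → ℂ) v‖ ≠ (dg χ : ℝ) := by
  intro hn
  refine not_comm hG ⟨⟨comm_of_central_ne_one hv (Subgroup.mem_center_iff.2 fun g => ?_)⟩⟩
  obtain ⟨n, ρ, hρ, hρχ, hn', -⟩ := IsIrr.exists_rep χ.2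
  have hnd : n = dg χ := Nat.cast_injective (R := ℂ) (hn'.symm.trans (charDeg_spec' χ))
  obtain ⟨ω, hω⟩ := (norm_character_eq_iff ρ v).1 (by
    rw [show ρ.character v = (χ : G → ℂ) v by rw [← hρχ], Module.finrank_fin_fun, hnd]
    exact hn)
  have hcomm : ρ (g * v) = ρ (v * g) := by
    rw [map_mul, map_mul, hω, ← Module.End.one_eq_id, mul_smul_comm, smul_mul_assoc, mul_one, one_mul]
  have h1 : ρ (v * g * (g * v)⁻¹) = 1 := by
    rw [map_mul, ← hcomm, ← map_mul, mul_inv_cancel, map_one]
  have h2 : v * g * (g * v)⁻¹ = 1 := OrdP.eq_one_of_value hne (by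
    rw [← hρχ]
    show LinearMap.trace ℂ _ (ρ _) = LinearMap.trace ℂ _ (ρ 1)
    exact congrArg _ (h1.trans (map_one ρ).symm))
  exact (mul_inv_eq_one.1 h2).symm

/-- A rational value of a nontrivial character at a nontrivial element is smaller than the degree. -/
theorem value_lt (hG : Nat.card G = 10200960) {χ : IrrCharacter G} (hne : χ ≠ trivialIrr G) {v : G}
    (hv : v ≠ 1) {a : ℤ} (ha : (χ : G → ℂ) v = a) : -(dg χ : ℤ) < a ∧ a < (dg χ : ℤ) := by
  have hb := OrdP.norm_value_le χ v
  have hne' := norm_value_ne hG hne hv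
  rw [ha, Complex.norm_intCast] at hb hne'
  have hlt : |a| < (dg χ : ℤ) := by
    have := lt_of_le_of_ne hb hne'
    exact_mod_cast this
  exact abs_lt.1 hlt

/-- The value of a nontrivial irreducible character at an involution. -/
theorem inv_value (hG : Nat.card G = 10200960) {t : G} (ht : orderOf t = 2) :
    ∃ a : IrrCharacter G → ℤ, (∀ χ : IrrCharacter G, (χ : G → ℂ) t = a χ) ∧ a (trivialIrr G) = 1 ∧
      ∀ χ : IrrCharacter G, χ ≠ trivialIrr G →
        (4 : ℤ) ∣ (dg χ : ℤ) - a χ ∧ -(dg χ : ℤ) < a χ ∧ a χ < (dg χ : ℤ) := by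
  have hna := not_comm hG
  have ht2 : t ^ 2 = 1 := by rw [← ht]; exact pow_orderOf_eq_one t
  choose a ha h4 using fun χ : IrrCharacter G => OrdP.involution_value hna χ ht2
  refine ⟨a, ha, ?_, fun χ hχ => ⟨h4 χ, value_lt hG hχ (ne_one_of_orderOf ht (by norm_num)) (ha χ)⟩⟩
  apply Int.cast_injective (α := ℂ)
  rw [← ha, Int.cast_one]
  rfl

theorem natCard_psl23 : Nat.card (Matrix.ProjectiveSpecialLinearGroup (Fin 2) (ZMod 23)) = 6072 := by
  haveI : Fact (Nat.Prime 23) := ⟨by norm_num⟩
  have h := Classical.natCard_PSL_mul (F := ZMod 23) 2 (by norm_num)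
  have h1 : Nat.card (Matrix.SpecialLinearGroup (Fin 2) (ZMod 23)) = 12144 := by
    rw [Fus.PSLTwo.natCard_SL_two (F := ZMod 23), ZMod.card]
  have h2 : Nat.card (ZMod 23)ˣ = 22 := by rw [Classical.natCard_units_field (F := ZMod 23), ZMod.card]
  rw [h1, h2, show Nat.gcd 2 22 = 2 from rfl] at h
  omega

/-- A nontrivial character has degree at least twenty-one. -/
theorem deg_ge (hG : Nat.card G = 10200960) {χ : IrrCharacter G} (hne : χ ≠ trivialIrr G) : 21 ≤ dg χ := by
  by_contra hc
  haveI : Fact (Nat.Prime 23) := ⟨by norm_num⟩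
  obtain ⟨P⟩ : Nonempty (Sylow 23 G) := inferInstance
  have hP : Nat.card P = 23 := by
    rw [P.card_eq_multiplicity, hG, fact_one (Or.inr (Or.inr (Or.inr rfl))), pow_one]
  have hnn : ¬ (P : Subgroup G).Normal := fun hn => by
    have h1 : Nat.card (P : Subgroup G) = 23 := hP
    rcases hn.eq_bot_or_eq_top with h | h
    · rw [h, Subgroup.card_bot] at h1; norm_num at h1
    · rw [h, Subgroup.card_top, hG] at h1; norm_num at h1
  have hd : charDegree (χ : G → ℂ) = dg χ := rfl
  haveI := Fintype.ofFinite G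
  obtain ⟨u, R, -, hcase⟩ := Cfsg.Agent.Block.SmallFaith.exists_cases (p := 23) (by norm_num) P hP hnn χ
    (fun g hg => OrdP.eq_one_of_value hne hg) (by omega)
  rcases hcase with ⟨⟨e⟩, -, -⟩ | ⟨ω, y, t, -, ht, ht3, hR, hdeg⟩
  · have hz : Subgroup.center G = ⊥ :=
      (Subgroup.Normal.eq_bot_or_eq_top inferInstance).resolve_right fun h =>
        not_comm hG ⟨⟨fun a b => (Subgroup.mem_center_iff.1 (h ▸ Subgroup.mem_top b) a)⟩⟩
    have h1 := Nat.card_congr e.toEquiv
    rw [← Subgroup.index_eq_card, hz, Subgroup.index_bot, hG, natCard_psl23] at h1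
    norm_num at h1
  · rw [hd] at hdeg
    have h1 : Nat.card R ∣ 22 := ⟨t, by omega⟩
    have h2 : Nat.card R ∈ Nat.divisors 22 := Nat.mem_divisors.2 ⟨h1, by norm_num⟩
    rw [show Nat.divisors 22 = {1, 2, 11, 22} by decide] at h2
    simp only [Finset.mem_insert, Finset.mem_singleton] at h2
    rcases h2 with h | h | h | h <;> rw [h] at ht hdeg hR <;> omega

/-- A proper subgroup has index at least twenty-three. -/
theorem index_ge (hG : Nat.card G = 10200960) {H : Subgroup G} (hH : H ≠ ⊤) : 23 ≤ H.index := by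
  classical
  by_contra hc
  have hinj : Function.Injective (MulAction.toPermHom G (G ⧸ H)) := by
    rw [← MonoidHom.ker_eq_bot_iff]
    refine (Subgroup.Normal.eq_bot_or_eq_top (MonoidHom.normal_ker _)).resolve_right fun h => hH (eq_top_iff.2 fun g _ => ?_)
    have h1 : MulAction.toPermHom G (G ⧸ H) g = 1 := MonoidHom.mem_ker.1 (h ▸ Subgroup.mem_top g)
    have h2 := congrArg (fun f : Equiv.Perm (G ⧸ H) => f (QuotientGroup.mk 1)) h1
    simp only [Equiv.Perm.one_apply] at h2
    have h3 : (g : G ⧸ H) = ((1 : G) : G ⧸ H) := by simpa using h2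
    have h4 := QuotientGroup.eq.1 h3
    simpa using inv_mem h4
  have h1 := Subgroup.card_dvd_of_injective _ hinj
  rw [Nat.card_perm, hG, ← Subgroup.index_eq_card] at h1
  have h2 : 23 ∣ H.index.factorial := dvd_trans (by norm_num) h1
  have := (Nat.Prime.dvd_factorial (by norm_num : Nat.Prime 23)).1 h2
  omega

/-- The centralizer of a nontrivial element has index at least twenty-three. -/
theorem cn_le (hG : Nat.card G = 10200960) {g : G} (hg : g ≠ 1) : cn g * 23 ≤ 10200960 := by
  have hne : Subgroup.centralizer ({g} : Set G) ≠ ⊤ := fun h => by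
    have h1 := M23Ord.cn_lt hG hg
    rw [show cn g = Nat.card (Subgroup.centralizer ({g} : Set G)) from rfl, h, Subgroup.card_top, hG] at h1
    exact lt_irrefl _ h1
  have h := index_ge hG hne
  rw [← hG, ← Subgroup.card_mul_index (Subgroup.centralizer ({g} : Set G))]
  exact Nat.mul_le_mul_left _ h

end Cfsg.Agent.Invol.M23Ord
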