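import Mathlib
import Cfsg.Agent.Lib.Invol.Order443520.States
import Cfsg.Agent.Lib.Invol.Order10200960.Base
import Cfsg.Agent.Lib.Invol.Order10200960.Arith

/-!
Order 10200960: the principal block at a prime appears among the listed rows, with the listed values.
-/

set_option autoImplicit false
set_option linter.style.haveILetI false
set_option linter.unusedSectionVars false

namespace Cfsg.Agent.Invol.M22Ord.PBlk

open scoped ComplexConjugate
open Cfsg Cfsg.Agent.Block Cfsg.Agent.Char Cfsg.Agent.Invol.M12Ord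
open Cfsg.Agent.Invol

universe u

variable {G : Type u} [Group G] [Finite G] [IsSimpleGroup G] {p e : ℕ} [Fact p.Prime]


variable (B : PBlk G p e)

/-- The sum of the squares of the degrees in the block. -/
theorem sum_deg_le23 (hG : Nat.card G = 10200960) :
    1 + ∑ χ ∈ B.X, dg χ ^ 2 + B.Y.card * dg B.y ^ 2 ≤ 10200960 := by
  classical
  have h := M23Ord.sum_sq_le hG (insert (trivialIrr G) (B.X ∪ B.Y))
  rw [Finset.sum_insert (by simp [B.triv_X, B.triv_Y]), Finset.sum_union B.disj, dg_trivial,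
    Finset.sum_congr rfl (s₁ := B.Y) (g := fun _ => dg B.y ^ 2) fun ψ hψ => by rw [B.dg_Y hψ],
    Finset.sum_const, smul_eq_mul, one_pow, ← add_assoc] at h
  exact h

include B in
theorem big_X23 (hG : Nat.card G = 10200960) {c m : ℕ} (hn : 10200960 = p * m) (hpm : ¬ p ∣ m) (hcm : c ∣ m)
    (hC : Nat.card B.C = p * c) (hc : c ≠ 1) {χ : IrrCharacter G} (hχ : χ ∈ B.X) :
    (dg χ % p = 1 ∧ 2 * p + 1 ≤ dg χ) ∨ (dg χ % p = p - 1 ∧ 3 * p - 1 ≤ dg χ) := by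
  obtain ⟨M, hM⟩ := exists_isPModular p (Fact.out : p.Prime)
  obtain ⟨q, v, hq, hqp, hv, hov⟩ := OrdP.exists_prime_elem (p := p) hpm hC hcm hc
  obtain ⟨x, hx, hx1, -⟩ := exists_gen B.P B.hP
  refine OrdP.deg_large (C := B.C) (M23Ord.not_comm hG) hM (χ := χ) (fun h => B.triv_X (h ▸ hχ))
    (B.s_sign χ hχ) (Int.modEq_iff_dvd.2 (by
      rw [show (B.s χ : ℤ) - (dg χ : ℤ) = -((dg χ : ℤ) - B.s χ) by ring]
      exact dvd_neg.2 (B.deg_X χ hχ))) ?_ hq hqp hv hov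
  exact fun w hw hwr => OrdP.congr_of_value hM χ (B.pow_p hx) (B.comm hx hw) hwr (B.valX χ hχ x hx hx1 w hw hwr)

theorem exists_rowSel (hG : Nat.card G = 10200960) (hp3 : 3 ≤ p) (big : Bool) (pre : ℕ → Bool)
    (sel : ℤ × ℤ → Bool) (hsel : ∀ χ ∈ B.X, sel ((dg χ : ℤ), B.s χ) = true)
    (hbig : big = true → ∀ χ ∈ B.X, (dg χ % p = 1 ∧ 2 * p + 1 ≤ dg χ) ∨ (dg χ % p = p - 1 ∧ 3 * p - 1 ≤ dg χ))
    (hpre : ∀ χ : IrrCharacter G, χ ∈ B.X ∨ χ = B.y → pre (dg χ) = true)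
    (hmax : e + 1 = p → ∀ χ ∈ B.X, dg χ ≤ dg B.y) :
    ∃ r ∈ M23Ord.rowsSel p e big pre sel, B.IsRow r := by
  classical
  set m := B.X.val.map (fun χ => ((dg χ : ℤ), B.s χ)) with hm
  have hne : ∀ χ ∈ B.X, χ ≠ trivialIrr G := fun χ hχ h => B.triv_X (h ▸ hχ)
  have hsum := B.sum_deg_le23 hG
  have hw : (m.map wdeg).sum = ∑ χ ∈ B.X, dg χ ^ 2 := by
    rw [hm, Multiset.map_map]
    refine congrArg Multiset.sum (Multiset.map_congr rfl fun χ _ => ?_)
    simp only [Function.comp_apply, wdeg, Int.natAbs_natCast, sq]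
  obtain ⟨l, hl, hlm⟩ := exists_msets wdeg ((M23Ord.sdegs p big pre).filter sel) m 10200960 (fun x hx => by
    obtain ⟨χ, hχ, rfl⟩ := Multiset.mem_map.1 hx
    have hχ' : χ ∈ B.X := hχ
    refine List.mem_filter.2 ⟨?_, hsel χ hχ'⟩
    exact M23Ord.mem_sdegs hp3 (M23Ord.two_le hG (hne χ hχ')) (M23Ord.dg_le hG χ) (M23Ord.dg_dvd hG χ)
      (hpre χ (Or.inl hχ')) (B.s_sign χ hχ') (B.deg_X χ hχ') fun hb => hbig hb χ hχ') (by rw [hw]; omega)
  have hcard : Multiset.card m = e - 1 := by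
    have := B.card_X
    rw [hm, Multiset.card_map]
    change B.X.card = e - 1
    omega
  rw [hcard] at hl
  have hS : (l.map fun x => x.2 * x.1).sum = ∑ χ ∈ B.X, B.s χ * (dg χ : ℤ) := by
    have : ((l : Multiset (ℤ × ℤ)).map fun x => x.2 * x.1).sum = (l.map fun x => x.2 * x.1).sum := by simp
    rw [← this, hlm, hm, Multiset.map_map]
    rfl
  have hSS : (l.map fun x => x.1 * x.1).sum = ∑ χ ∈ B.X, (dg χ : ℤ) * (dg χ : ℤ) := by
    have : ((l : Multiset (ℤ × ℤ)).map fun x => x.1 * x.1).sum = (l.map fun x => x.1 * x.1).sum := by simp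
    rw [← this, hlm, hm, Multiset.map_map]
    rfl
  have hy2 : 2 ≤ dg B.y := M23Ord.two_le hG B.y_ne
  have hS' : 1 + (l.map fun x => x.2 * x.1).sum = B.ε * (dg B.y : ℤ) := by rw [hS, B.deg_rel]
  have hε : (if 0 < 1 + (l.map fun x => x.2 * x.1).sum then (1 : ℤ) else -1) = B.ε := by
    rw [hS']
    rcases B.ε_sign with h | h <;> rw [h]
    · rw [if_pos (by omega)]
    · rw [if_neg (by omega)]
  have hy : B.ε * (1 + (l.map fun x => x.2 * x.1).sum) = (dg B.y : ℤ) := by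
    rw [hS', ← mul_assoc, B.εε, one_mul]
  refine ⟨(l, B.ε, (dg B.y : ℤ)), List.mem_flatMap.2 ⟨l, hl, ?_⟩, hlm, rfl, rfl⟩
  simp only [M23Ord.complete]
  rw [hε, hy, if_pos ?_, List.mem_singleton]
  simp only [Bool.and_eq_true, decide_eq_true_eq, beq_iff_eq, Bool.or_eq_true, bne_iff_ne, ne_eq,
    List.all_eq_true, Int.toNat_natCast]
  refine ⟨⟨⟨⟨⟨by omega, ?_⟩, ?_⟩, hpre B.y (Or.inr rfl)⟩, ?_⟩, ?_⟩
  · exact_mod_cast Nat.mod_eq_zero_of_dvd (M23Ord.dg_dvd hG B.y)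
  · exact Int.emod_eq_zero_of_dvd (B.deg_Y B.y B.y_mem)
  · have ht : (p - 1) / e = B.Y.card := by
      have h := B.card_Y
      rw [← h, Nat.mul_div_cancel _ (show 0 < e by have := B.card_X; omega)]
    rw [hSS, ht]
    simp only [sq] at hsum
    exact_mod_cast hsum
  · by_cases h : e + 1 = p
    · refine Or.inr fun x hx => ?_
      have hx' : x ∈ (l : Multiset (ℤ × ℤ)) := hx
      rw [hlm, hm, Multiset.mem_map] at hx'
      obtain ⟨χ, hχ, rfl⟩ := hx'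
      show (dg χ : ℤ) ≤ (dg B.y : ℤ)
      exact_mod_cast hmax h χ hχ
    · exact Or.inl h


theorem exists_row23 (hG : Nat.card G = 10200960) (hp3 : 3 ≤ p) (big : Bool) (pre : ℕ → Bool)
    (hbig : big = true → ∀ χ ∈ B.X, (dg χ % p = 1 ∧ 2 * p + 1 ≤ dg χ) ∨ (dg χ % p = p - 1 ∧ 3 * p - 1 ≤ dg χ))
    (hpre : ∀ χ : IrrCharacter G, χ ∈ B.X ∨ χ = B.y → pre (dg χ) = true)
    (hmax : e + 1 = p → ∀ χ ∈ B.X, dg χ ≤ dg B.y) :
    ∃ r ∈ M23Ord.rows p e big pre, B.IsRow r := by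
  have h := B.exists_rowSel hG hp3 big pre (fun _ => true) (fun _ _ => rfl) hbig hpre hmax
  rwa [M23Ord.rowsSel_all] at h

end Cfsg.Agent.Invol.M22Ord.PBlk
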