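import Mathlib
import Cfsg.Agent.Lib.Invol.Order10200960.Rows

/-!
Order 10200960: the values in a principal block at an involution.
-/

set_option autoImplicit false
set_option linter.style.haveILetI false
set_option linter.unusedSectionVars false

namespace Cfsg.Agent.Invol.M23Ord

open scoped ComplexConjugate
open Cfsg Cfsg.Agent.Block Cfsg.Agent.Char Cfsg.Agent.Invol.M12Ord
open Cfsg.Agent.Invol.M22Ord (Row assigns wval aY normOf blockChars norm_insert_le)

/-- The admissible values in the block described by a row. -/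
def blockVals (p e h : ℕ) (cg : Bool) (r : Row) : List (List ((ℤ × ℤ) × ℤ)) :=
  (assigns wval (r.1.map fun x => (x, cand p h cg x)) (h - 1)).filter fun l =>
    okv h r.2.2.toNat (aY r l) && decide (normOf (blockChars ((p - 1) / e) r l) ≤ (h : ℤ)) &&
      (!cg || (aY r l - r.2.1 * (e : ℤ)) % (p : ℤ) == 0)

universe u

variable {G : Type u} [Group G] [Finite G] [IsSimpleGroup G]

theorem okv_of (hG : Nat.card G = 10200960) {v : G} (hv : orderOf v = 2) {h : ℕ} (hh : cn v = h)
    {χ : IrrCharacter G} (hne : χ ≠ trivialIrr G) {a : ℤ} (ha : (χ : G → ℂ) v = a) :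
    okv h (dg χ) a = true := by
  classical
  obtain ⟨b, hb, hb1, hbd⟩ := M23Ord.inv_value hG hv
  have hab : a = b χ := Int.cast_injective (α := ℂ) (ha.symm.trans (hb χ))
  subst hab
  obtain ⟨h4, hlo, hhi⟩ := hbd χ hne
  have hi := M23Ord.idx_mod hG χ (hb χ)
  rw [hh] at hi
  have hn := norm_insert_le {χ} (by simp [hne.symm]) b hb
  rw [Finset.sum_singleton, hh] at hn
  exact okv_iff.2 ⟨hlo, hhi, by omega, by simpa using dvd_neg.2 h4, Int.dvd_of_emod_eq_zero hi⟩

end Cfsg.Agent.Invol.M23Ord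

namespace Cfsg.Agent.Invol.M22Ord.PBlk

open scoped ComplexConjugate
open Cfsg Cfsg.Agent.Block Cfsg.Agent.Char Cfsg.Agent.Invol.M12Ord
open Cfsg.Agent.Invol

universe u

variable {G : Type u} [Group G] [Finite G] [IsSimpleGroup G] {p e : ℕ} [Fact p.Prime] (B : PBlk G p e)

/-- The values in the block at an involution are among the listed ones. -/
theorem exists_vals23 (hG : Nat.card G = 10200960) (hp2 : p ≠ 2) {v : G} (hv : orderOf v = 2) {h : ℕ} (hh : cn v = h)
    {a : IrrCharacter G → ℤ} (ha : ∀ χ : IrrCharacter G, (χ : G → ℂ) v = a χ) {r : Row} (hr : B.IsRow r)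
    (cg : Bool) (hcg : cg = true → v ∈ B.C) :
    ∃ l ∈ M23Ord.blockVals p e h cg r,
      (l : Multiset ((ℤ × ℤ) × ℤ)) = B.X.val.map (fun χ => (((dg χ : ℤ), B.s χ), a χ)) ∧
      aY r l = a B.y ∧
      (blockChars ((p - 1) / e) r l : Multiset (ℤ × ℤ)) = B.members.val.map (fun χ => ((dg χ : ℤ), a χ)) ∧
      0 < (qfold (qsq r l)).2 ∧ ((qfold (qsq r l)).1 : ℂ) = ((qfold (qsq r l)).2 : ℂ) * B.Q a a := by
  classical
  obtain ⟨hrX, hrε, hry⟩ := hr
  have hp : p.Prime := Fact.out
  have hv2 : ¬ p ∣ orderOf v := fun hd =>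
    hp2 ((Nat.prime_dvd_prime_iff_eq hp Nat.prime_two).1 (hv ▸ hd))
  obtain ⟨l, hlm, hlr⟩ := exists_lift Prod.fst r.1
    (B.X.val.map (fun χ => (((dg χ : ℤ), B.s χ), a χ))) (by rw [Multiset.map_map, hrX]; rfl)
  have hmem : ∀ x ∈ l, ∃ χ ∈ B.X, ((((dg χ : ℤ), B.s χ), a χ) : (ℤ × ℤ) × ℤ) = x := fun x hx => by
    have hx' : x ∈ (l : Multiset _) := hx
    rw [hlm, Multiset.mem_map] at hx'
    exact hx'
  have hrel : B.ε * a B.y = 1 + ∑ χ ∈ B.X, B.s χ * a χ := by
    have h0 := B.rel B.y B.y_mem v hv2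
    simp only [ha] at h0
    apply Int.cast_injective (α := ℂ)
    push_cast
    exact h0
  have hY : aY r l = a B.y := by
    have : ((l : Multiset ((ℤ × ℤ) × ℤ)).map fun x => x.1.2 * x.2).sum = (l.map fun x => x.1.2 * x.2).sum := by
      simp
    rw [aY, ← this, hlm, Multiset.map_map, hrε]
    show B.ε * (1 + ∑ χ ∈ B.X, B.s χ * a χ) = a B.y
    rw [← hrel, ← mul_assoc, B.εε, one_mul]
  have ht : (p - 1) / e = B.Y.card := by
    rw [← B.card_Y, Nat.mul_div_cancel _ (show 0 < e by have := B.card_X; omega)]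
  have hchars : (blockChars ((p - 1) / e) r l : Multiset (ℤ × ℤ)) =
      B.members.val.map (fun χ => ((dg χ : ℤ), a χ)) := by
    rw [blockChars, ← Multiset.coe_add, ← Multiset.map_coe, hlm, Multiset.map_map, hry, hY, ht,
      Multiset.coe_replicate, members, Finset.disjUnion_val, Multiset.map_add]
    congr 1
    rw [Finset.card_def, ← Multiset.map_const' B.Y.val ((dg B.y : ℤ), a B.y)]
    refine Multiset.map_congr rfl fun ψ hψ => ?_
    rw [B.dg_Y hψ, show a ψ = a B.y from Int.cast_injective (α := ℂ) (by rw [← ha, ← ha]; exact B.eq_y hψ hv2)]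
  have hnorm : normOf (blockChars ((p - 1) / e) r l) ≤ (h : ℤ) := by
    have h1 : ((blockChars ((p - 1) / e) r l : Multiset (ℤ × ℤ)).map fun x => x.2 * x.2).sum =
        ((blockChars ((p - 1) / e) r l).map fun x => x.2 * x.2).sum := by simp
    rw [normOf, ← h1, hchars, Multiset.map_map]
    have := norm_insert_le B.members B.triv_members a ha
    rw [hh] at this
    exact this
  have hq := B.Q_eq_qfold a a (qsq r l) (by
    rw [qsq, hry, hY, hrε, ← Multiset.cons_coe, ← Multiset.map_coe, hlm, Multiset.map_map]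
    rfl)
  have hbudget : (l.map fun x => wval x.2).sum ≤ h - 1 := by
    have h1 : ((l : Multiset ((ℤ × ℤ) × ℤ)).map fun x => wval x.2).sum = (l.map fun x => wval x.2).sum := by simp
    rw [← h1, hlm, Multiset.map_map]
    have := norm_insert_le B.X B.triv_X a ha
    rw [hh] at this
    show ∑ χ ∈ B.X, wval (a χ) ≤ h - 1
    have h2 : ((∑ χ ∈ B.X, wval (a χ) : ℕ) : ℤ) = ∑ χ ∈ B.X, a χ * a χ := by
      push_cast [wval]
      exact Finset.sum_congr rfl fun χ _ => by rw [← Int.natAbs_mul_self (a := a χ)]; push_cast; rfl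
    omega
  refine ⟨l, List.mem_filter.2 ⟨?_, ?_⟩, hlm, hY, hchars, hq⟩
  · rw [← hlr]
    refine mem_assigns wval (M23Ord.cand p h cg) l (h - 1) (fun x hx => ?_) hbudget
    obtain ⟨χ, hχ, rfl⟩ := hmem x hx
    exact M23Ord.mem_cand hp.pos (M23Ord.okv_of hG hv hh (fun e0 => B.triv_X (e0 ▸ hχ)) (ha χ))
      fun hc => B.congr_X hχ (hcg hc) hv2 (ha χ)
  · simp only [Bool.and_eq_true, decide_eq_true_eq, hY]
    refine ⟨⟨by rw [hry, Int.toNat_natCast]; exact M23Ord.okv_of hG hv hh B.y_ne (ha B.y), hnorm⟩, ?_⟩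
    cases cg
    · rfl
    · simp only [Bool.not_true, Bool.false_or, beq_iff_eq, hrε]
      exact Int.emod_eq_zero_of_dvd (B.congr_Y (hcg rfl) hv2 (fun χ _ => ha χ) (ha B.y))

end Cfsg.Agent.Invol.M22Ord.PBlk
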