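import Mathlib
import Cfsg.Agent.Lib.Invol.Order10200960.States
import Cfsg.Agent.Lib.Invol.Order443520.CheckEleven
import Cfsg.Agent.Lib.Invol.Order443520.FastOptions

/-!
Order 10200960: the automizers and centralizers of Sylow subgroups of prime order, and the degrees allowed
by elements centralising them.
-/

set_option autoImplicit false
set_option linter.style.haveILetI false
set_option linter.unusedSectionVars false

namespace Cfsg.Agent.Invol.M23Ord

open Cfsg Cfsg.Agent.Block Cfsg.Agent.Invol.M22Ord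

/-- The test that the possible configurations at `p` are listed, when `m` is at most the square of `K + 1`. -/
def optTestTo (K p m : ℕ) (L : List (ℕ × ℕ)) : Bool :=
  (List.range (K + 1)).all fun i => !(Nat.blt 0 i && Nat.beq (m % i) 0) || (optAt p m L i && optAt p m L (m / i))

universe u

theorem optTestTo_sound {G : Type u} [Group G] [Finite G] [IsSimpleGroup G] (hna : ¬ IsMulCommutative G) {K p m : ℕ}
    [hp : Fact p.Prime] (h : Nat.card G = p * m) (hpm : ¬ p ∣ m) (hp2 : p ≠ 2) (hm : m < (K + 1) * (K + 1))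
    (hfac : ¬ 2 * (p * m) ∣ p * (p - 1) * (p + 1)) (L : List (ℕ × ℕ)) (ht : optTestTo K p m L = true)
    (P : Sylow p G) :
    ∃ e c : ℕ, (e, c) ∈ L ∧ Nat.card P = p ∧ c ∣ m ∧
      (Subgroup.centralizer ((P : Subgroup G) : Set G)).relIndex
        (Subgroup.normalizer ((P : Subgroup G) : Set G)) = e ∧
      Nat.card (Subgroup.centralizer ((P : Subgroup G) : Set G)) = p * c := by
  obtain ⟨e, k, c, hk1, hkm, he, he1, hep, hc, hprod⟩ := OrdP.exists_e' hna h hpm hp2 hfac P
  refine ⟨e, c, ?_, OrdP.card_sylow_eq h hpm P, ⟨e * (p * k + 1), by rw [← mul_assoc]; exact hprod.symm⟩, he, hc⟩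
  have hp1 := hp.out.two_le
  have hm0 : 0 < m := Nat.pos_of_ne_zero fun e => hpm (e ▸ dvd_zero p)
  set j := c * e with hj
  have hj0 : 0 < j := Nat.pos_of_ne_zero fun h0 => by rw [h0, zero_mul] at hprod; omega
  have hmj : m / j = p * k + 1 := by rw [← hprod, Nat.mul_div_cancel_left _ hj0]
  have hat : optAt p m L j = true := by
    by_cases hs : j ≤ K
    · have := List.all_eq_true.1 ht j (List.mem_range.2 (by omega))
      rw [Bool.or_eq_true, Bool.and_eq_true] at this
      refine (this.resolve_left ?_).1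
      simp [hj0, Nat.mod_eq_zero_of_dvd (⟨p * k + 1, hprod.symm⟩ : j ∣ m)]
    · set i := p * k + 1 with hi
      have hiK : i ≤ K := by
        by_contra hlt
        have : (K + 1) * (K + 1) ≤ j * i := Nat.mul_le_mul (by omega) (by omega)
        omega
      have := List.all_eq_true.1 ht i (List.mem_range.2 (by omega))
      rw [Bool.or_eq_true, Bool.and_eq_true] at this
      have h2 := (this.resolve_left (by
        simp [Nat.mod_eq_zero_of_dvd hkm, show 0 < i by omega])).2
      rwa [show m / i = j by rw [← hprod, Nat.mul_div_cancel _ (by omega)]] at h2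
  have hmod : (p * k + 1) % p = 1 := by rw [Nat.mul_add_mod]; exact Nat.mod_eq_of_lt hp.out.one_lt
  have hdiv : 1 < (p * k + 1) / p := by
    rw [Nat.mul_add_div (by omega), Nat.div_eq_of_lt hp.out.one_lt]; simpa using hk1
  simp only [optAt, hmj, hmod, Bool.or_eq_true, Bool.not_eq_true', Bool.and_eq_false_iff, List.all_eq_true,
    List.mem_range] at hat
  rcases hat with hat | hat
  · rw [show Nat.blt 1 ((p * k + 1) / p) = true by simp [Nat.blt]; omega] at hat
    simp at hat
  · have hep' : e < p := lt_of_le_of_lt (Nat.le_of_dvd (by omega) hep) (by omega)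
    rcases hat e hep' with h0 | h0
    · rw [show Nat.blt 1 e = true by simp [Nat.blt]; omega] at h0
      simp [Nat.mod_eq_zero_of_dvd hep, hj] at h0
    · rw [hj, Nat.mul_div_cancel _ (by omega)] at h0
      exact List.contains_iff_mem.1 h0

/-- Whether a degree is prime, up to defect zero, to each prime in the list. -/
def okDiv (qs : List ℕ) (d : ℕ) : Bool := qs.all fun q => !Nat.beq (d % fullPow q) 0

/-- The possible orders of the centralizer of an involution commuting with an element of order `p`. -/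
def invOrds (p : ℕ) : List ℕ :=
  ((List.range (443520 / (2 * p) + 1)).filter fun j => Nat.beq (10200960 % (2 * p * j)) 0).map fun j => 2 * p * j

end Cfsg.Agent.Invol.M23Ord

namespace Cfsg.Agent.Invol.M22Ord.PBlk

open scoped ComplexConjugate
open Cfsg Cfsg.Agent.Block Cfsg.Agent.Char Cfsg.Agent.Invol.M12Ord
open Cfsg.Agent.Invol

universe u

variable {G : Type u} [Group G] [Finite G] [IsSimpleGroup G] {p e : ℕ} [Fact p.Prime] (B : PBlk G p e)

include B in
theorem centralizer_gen {u : G} (hu : u ∈ (B.P : Subgroup G)) (hu1 : u ≠ 1) :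
    Subgroup.centralizer ({u} : Set G) = B.C := by
  have hz : Subgroup.zpowers u = (B.P : Subgroup G) :=
    Subgroup.eq_of_le_of_card_ge (Subgroup.zpowers_le.2 hu)
      (by rw [Nat.card_zpowers, B.orderOf_u hu hu1]; exact B.hP.le)
  rw [← Subgroup.centralizer_closure, ← Subgroup.zpowers_eq_closure, hz]

include B in
/-- An element of order `p` has a conjugate in the Sylow subgroup of the block. -/
theorem exists_conj_mem {x : G} (hx : orderOf x = p) : ∃ g : G, g * x * g⁻¹ ∈ (B.P : Subgroup G) := by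
  obtain ⟨Q, hQ⟩ := (IsPGroup.of_card (p := p) (G := ↥(Subgroup.zpowers x)) (n := 1)
    (by rw [Nat.card_zpowers, hx, pow_one])).exists_le_sylow
  obtain ⟨g, hg⟩ := MulAction.exists_smul_eq G Q B.P
  refine ⟨g, ?_⟩
  rw [← hg]
  exact Subgroup.smul_mem_pointwise_smul x (MulAut.conj g) (Q : Subgroup G) (hQ (Subgroup.mem_zpowers x))

include B in
/-- The elements of order `p` have centralizers of the same order. -/
theorem cn_sylow {x : G} (hx : orderOf x = p) : cn x = Nat.card B.C := by
  obtain ⟨g, hxg⟩ := B.exists_conj_mem hx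
  rw [cn_eq_of_isConj (isConj_iff.2 ⟨g, rfl⟩ : IsConj x (g * x * g⁻¹))]
  show Nat.card (Subgroup.centralizer ({g * x * g⁻¹} : Set G)) = _
  rw [B.centralizer_gen hxg fun h => ne_one_of_orderOf hx (Fact.out : p.Prime).one_lt.ne' (conj_eq_one_iff.1 h)]

include B in
/-- An element of prime order centralising the Sylow subgroup: no degree in the block has defect zero there. -/
theorem full_not_dvd (hG : Nat.card G = 10200960) {q : ℕ} [Fact q.Prime]
    (hq : q = 3 ∨ q = 5 ∨ q = 7 ∨ q = 11 ∨ q = 23) (hqp : q ≠ p) {x : G} (hx : orderOf x = q) (hxC : x ∈ B.C)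
    {χ : IrrCharacter G} (hχ : χ ∈ B.X ∨ χ = B.y) : ¬ M23Ord.fullPow q ∣ dg χ := by
  intro hd
  have hp : p.Prime := Fact.out
  obtain ⟨u, hu, hu1, -⟩ := exists_gen B.P B.hP
  have hr : ¬ p ∣ orderOf x := by
    rw [hx]
    exact fun h => hqp ((Nat.prime_dvd_prime_iff_eq hp (Fact.out : q.Prime)).1 h).symm
  have hcop : (orderOf u).Coprime (orderOf x) := by
    rw [B.orderOf_u hu hu1]; exact (hp.coprime_iff_not_dvd).2 hr
  have hdo : q ∣ orderOf (u * x) := by
    rw [(B.comm hu hxC).orderOf_mul_eq_mul_orderOf_of_coprime hcop, hx]; exact dvd_mul_left _ _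
  rcases hχ with hX | rfl
  · have h := B.valX χ hX u hu hu1 x hxC hr
    rw [M23Ord.vanish hG hq χ hd hdo] at h
    rcases B.s_sign χ hX with hs | hs <;> rw [hs] at h <;> norm_num at h
  · have h := B.sum_Y hu hu1 hxC hr
    rw [Finset.sum_eq_zero fun ψ hψ => M23Ord.vanish hG hq ψ (by rw [B.dg_Y hψ]; exact hd) hdo] at h
    rcases B.ε_sign with hs | hs <;> rw [hs] at h <;> norm_num at h

include B in
theorem exists_elem {q c : ℕ} [Fact q.Prime] (hC : Nat.card B.C = p * c) (hqc : q ∣ c) :
    ∃ x : G, orderOf x = q ∧ x ∈ B.C := by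
  obtain ⟨x, hx⟩ := exists_prime_orderOf_dvd_card' (G := B.C) q (hC ▸ dvd_mul_of_dvd_right hqc p)
  exact ⟨x, by rw [Subgroup.orderOf_coe, hx], x.2⟩

include B in
/-- The degrees in the block avoid defect zero at the primes dividing the centralizer index. -/
theorem okDiv_of (hG : Nat.card G = 10200960) {c : ℕ} (hC : Nat.card B.C = p * c) (qs : List ℕ)
    (hqs : ∀ q ∈ qs, (q = 3 ∨ q = 5 ∨ q = 7 ∨ q = 11 ∨ q = 23) ∧ q ≠ p ∧ q ∣ c)
    {χ : IrrCharacter G} (hχ : χ ∈ B.X ∨ χ = B.y) : M23Ord.okDiv qs (dg χ) = true := by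
  refine List.all_eq_true.2 fun q hq => ?_
  obtain ⟨h1, h2, h3⟩ := hqs q hq
  haveI : Fact q.Prime := ⟨by rcases h1 with rfl | rfl | rfl | rfl | rfl <;> norm_num⟩
  obtain ⟨x, hx, hxC⟩ := B.exists_elem hC h3
  have h := B.full_not_dvd hG h1 h2 hx hxC hχ
  rw [Bool.not_eq_true', ← Bool.not_eq_true, Nat.beq_eq]
  exact fun h0 => h (Nat.dvd_of_mod_eq_zero h0)

include B in
theorem mem_invOrds (hG : Nat.card G = 10200960) (hp2 : p ≠ 2) {v : G} (hv : orderOf v = 2) (hvC : v ∈ B.C) :
    cn v ∈ M23Ord.invOrds p := by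
  have hp : p.Prime := Fact.out
  obtain ⟨u, hu, -, huo, -⟩ := exists_gen B.P B.hP
  have h2 : 2 ∣ cn v := hv ▸ orderOf_dvd_cn (rfl : v * v = v * v)
  have h3 : p ∣ cn v := huo ▸ orderOf_dvd_cn (B.comm hu hvC).eq
  obtain ⟨j, hj⟩ : 2 * p ∣ cn v :=
    Nat.Coprime.mul_dvd_of_dvd_of_dvd ((Nat.coprime_primes Nat.prime_two hp).2 (Ne.symm hp2)) h2 h3
  have hle := M23Ord.cn_le hG (ne_one_of_orderOf hv (by norm_num))
  have hd : 2 * p * j ∣ 10200960 := hj ▸ hG ▸ cn_dvd_card v
  refine List.mem_map.2 ⟨j, List.mem_filter.2 ⟨List.mem_range.2 ?_, by rw [Nat.beq_eq]; exact Nat.mod_eq_zero_of_dvd hd⟩, hj.symm⟩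
  refine Nat.lt_succ_of_le ((Nat.le_div_iff_mul_le (by have := hp.pos; omega)).2 ?_)
  rw [Nat.mul_comm]
  omega

end Cfsg.Agent.Invol.M22Ord.PBlk
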