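import Mathlib
import Cfsg.Agent.Lib.Invol.Order10200960.Extra

/-!
Order 10200960: the exhaustive checks at an element of order twenty-three.
-/

set_option autoImplicit false

namespace Cfsg.Agent.Invol.M23Ord

open Cfsg.Agent.Invol.M22Ord (Row qfold qsq)

/-- The orders possible for the centralizer of an involution commuting with elements of orders 23 and 11. -/
def ordsTT : List ℕ :=
  ((List.range 877).filter fun j => Nat.beq (20160 % j) 0).map fun j => 506 * j

/-- Whether a signed degree admits a value at an involution with centralizer order `h`. -/
def liveTT (h : ℕ) (x : ℤ × ℤ) : Bool := !(cand 23 h true x).isEmpty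

/-- No involution centralises the Sylow subgroup when the automizer has order eleven. -/
def checkTT : Bool :=
  ordsTT.all fun h => (rowsSel 23 11 true (okDiv [3]) (liveTT h)).all fun r =>
    (blockVals 23 11 h true r).all fun l => decide ((qfold (qsq r l)).1 ≠ 0)

/-- No involution centralises the Sylow subgroup when the automizer is everything. -/
def checkTTFull : Bool :=
  ordsTT.all fun h => (rowsSel 23 22 true (okDiv [3]) (liveTT h)).all fun r => (blockVals 23 22 h true r).isEmpty

theorem checkTT_true : checkTT = true := by decide +kernel

theorem checkTTFull_true : checkTTFull = true := by decide +kernel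

theorem rows_tt_two : rows 23 2 true (fun _ => true) = [] := by decide +kernel

theorem rows_tt_seven_five : rows 23 11 true (okDiv [7, 5]) = [] := by decide +kernel

theorem rows_tt_seven : rows 23 22 true (okDiv [7]) = [] := by decide +kernel

end Cfsg.Agent.Invol.M23Ord
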