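import Mathlib
import Cfsg.Agent.Lib.Invol.Order10200960.Extra

/-!
An element of prime order of the automizer of a Sylow subgroup `P` of prime order fixes an involution of `C(P)`.
-/

set_option autoImplicit false
set_option linter.style.haveILetI false
set_option linter.unusedSectionVars false

namespace Cfsg.Agent.Invol.M23Ord

open scoped Pointwise

/-- A `q`-element normalising a subgroup of order `2 ^ a`, with `q` prime to `2 ^ a - 1`, centralises one of
its involutions. -/
theorem exists_inv_fixed {K : Type*} [Group K] [Finite K] {q a : ℕ} [Fact q.Prime] (hq2 : q ≠ 2) (S : Subgroup K)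
    (ha : 0 < a) (hS : Nat.card S = 2 ^ a) (hqa : ¬ q ∣ 2 ^ a - 1) {g : K} (hg : orderOf g = q)
    (hgS : g ∈ Subgroup.normalizer (S : Set K)) :
    ∃ v ∈ S, orderOf v = 2 ∧ g * v = v * g := by
  classical
  haveI : Fact (Nat.Prime 2) := ⟨Nat.prime_two⟩
  have hz : ∀ x : Subgroup.zpowers g, (x : K) ∈ Subgroup.normalizer (S : Set K) :=
    fun x => Subgroup.zpowers_le.2 hgS x.2
  letI : MulAction (Subgroup.zpowers g) S :=
    { smul := fun x s => ⟨(x : K) * s * (x : K)⁻¹, (Subgroup.mem_normalizer_iff.1 (hz x) _).1 s.2⟩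
      one_smul := fun s => Subtype.ext (by show ((1 : Subgroup.zpowers g) : K) * s * _ = _; simp)
      mul_smul := fun x y s => Subtype.ext (by
        show ((x * y : Subgroup.zpowers g) : K) * s * ((x * y : Subgroup.zpowers g) : K)⁻¹ =
          (x : K) * ((y : K) * s * (y : K)⁻¹) * (x : K)⁻¹
        simp [mul_assoc]) }
  have hpg : IsPGroup q (Subgroup.zpowers g) := IsPGroup.of_card (n := 1) (by rw [Nat.card_zpowers, hg, pow_one])
  have hmod := hpg.card_modEq_card_fixedPoints S
  have h1 : (1 : S) ∈ MulAction.fixedPoints (Subgroup.zpowers g) S := fun x => Subtype.ext (by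
    show (x : K) * ((1 : S) : K) * (x : K)⁻¹ = _; simp)
  obtain ⟨s, hs, hs1⟩ : ∃ s ∈ MulAction.fixedPoints (Subgroup.zpowers g) S, s ≠ 1 := by
    by_contra hne
    push Not at hne
    have h2 : MulAction.fixedPoints (Subgroup.zpowers g) S = {1} :=
      Set.Subset.antisymm (fun s hs => hne s hs) (Set.singleton_subset_iff.2 h1)
    rw [h2, hS, Nat.card_eq_fintype_card, Set.card_singleton] at hmod
    exact hqa ((Nat.modEq_iff_dvd' Nat.one_le_two_pow).1 hmod.symm)
  have hgs : Commute g (s : K) := by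
    have h := congrArg Subtype.val (hs ⟨g, Subgroup.mem_zpowers g⟩)
    exact mul_inv_eq_iff_eq_mul.1 h
  obtain ⟨k, hk, hks⟩ := (Nat.dvd_prime_pow Nat.prime_two).1 (hS ▸ orderOf_dvd_natCard s)
  have hso : orderOf (s : K) = 2 ^ k := by rw [Subgroup.orderOf_coe]; exact hks
  have hk0 : k ≠ 0 := fun h => hs1 (Subtype.ext (orderOf_eq_one_iff.1 (by rw [hso, h, pow_zero])))
  refine ⟨(s : K) ^ 2 ^ (k - 1), pow_mem s.2 _, ?_, (hgs.pow_right _).eq⟩
  rw [orderOf_pow' _ (pow_ne_zero _ two_ne_zero), hso, Nat.gcd_eq_right (Nat.pow_dvd_pow _ (Nat.sub_le _ _)),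
    Nat.pow_div (Nat.sub_le _ _) (by norm_num), show k - (k - 1) = 1 by omega, pow_one]

end Cfsg.Agent.Invol.M23Ord

namespace Cfsg.Agent.Invol.M22Ord.PBlk

open Cfsg Cfsg.Agent.Block Cfsg.Agent.Char Cfsg.Agent.Invol.M12Ord
open Cfsg.Agent.Invol

universe u

variable {G : Type u} [Group G] [Finite G] [IsSimpleGroup G] {p e : ℕ} [Fact p.Prime] (B : PBlk G p e)

include B in
/-- An element of prime order `q` dividing the automizer centralises an involution of `C(P)`. -/
theorem exists_inv_commute {q a m : ℕ} [Fact q.Prime] (hq2 : q ≠ 2) (hqp : q ≠ p) (hqe : q ∣ e) (ha : 0 < a)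
    (hm : ¬ 2 ∣ m) (hqm : ¬ q ∣ m) (hp2 : p ≠ 2) (hqa : ¬ q ∣ 2 ^ a - 1) (hC : Nat.card B.C = p * (2 ^ a * m)) :
    ∃ v g : G, orderOf v = 2 ∧ v ∈ B.C ∧ orderOf g = q ∧ g * v = v * g := by
  classical
  haveI : Fact (Nat.Prime 2) := ⟨Nat.prime_two⟩
  have hp : p.Prime := Fact.out
  set N := Subgroup.normalizer ((B.P : Subgroup G) : Set G) with hN
  have hCN : B.C ≤ N := Subgroup.centralizer_le_normalizer _
  set C' := B.C.subgroupOf N with hC'
  haveI : C'.Normal := Subgroup.normal_subgroupOf_of_le_normalizer fun x hx => by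
    refine Subgroup.mem_normalizer_iff.2 fun v => ?_
    have key : ∀ y : G, y ∈ N → ∀ v : G, v ∈ B.C → y * v * y⁻¹ ∈ B.C := fun y hy v hv => by
      refine Subgroup.mem_centralizer_iff.2 fun w hw => ?_
      have hw' : y⁻¹ * w * y ∈ (B.P : Subgroup G) :=
        (Subgroup.mem_normalizer_iff.1 hy _).2 (by group; exact hw)
      calc w * (y * v * y⁻¹) = y * ((y⁻¹ * w * y) * v) * y⁻¹ := by group
        _ = y * (v * (y⁻¹ * w * y)) * y⁻¹ := by rw [Subgroup.mem_centralizer_iff.1 hv _ hw']
        _ = y * v * y⁻¹ * w := by group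
    refine ⟨key x hx v, fun h => ?_⟩
    have h' := key x⁻¹ (inv_mem hx) _ h
    simpa [mul_assoc] using h'
  have hC'c : Nat.card C' = p * (2 ^ a * m) := by
    rw [← hC]; exact Nat.card_congr (Subgroup.subgroupOfEquivOfLe hCN).toEquiv
  obtain ⟨S⟩ : Nonempty (Sylow 2 C') := inferInstance
  have hScard : Nat.card (S : Subgroup C') = 2 ^ a := by
    rw [Sylow.card_eq_multiplicity, hC'c]
    congr 1
    rw [← mul_assoc, mul_comm p, mul_assoc, Nat.factorization_mul (pow_ne_zero _ two_ne_zero)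
        (mul_ne_zero hp.ne_zero fun h => hm (by rw [h]; exact dvd_zero 2)), Finsupp.add_apply,
      Nat.prime_two.factorization_pow, Finsupp.single_eq_same, Nat.factorization_eq_zero_of_not_dvd, add_zero]
    intro h
    rcases Nat.prime_two.dvd_mul.1 h with h | h
    · exact hp2 ((Nat.prime_dvd_prime_iff_eq Nat.prime_two hp).1 h).symm
    · exact hm h
  set S' : Subgroup N := (S : Subgroup C').map C'.subtype with hS'
  have hS'c : Nat.card S' = 2 ^ a := by
    rw [← hScard]
    exact Nat.card_congr ((S : Subgroup C').equivMapOfInjective _ C'.subtype_injective).symm.toEquiv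
  have htop : Subgroup.normalizer (S' : Set N) ⊔ C' = ⊤ := Sylow.normalizer_sup_eq_top S
  have hqN : q ∣ Nat.card (Subgroup.normalizer (S' : Set N)) := by
    have hcN : Nat.card N = e * (p * (2 ^ a * m)) := B.card_N hC
    have h1 := Subgroup.card_mul_index C'
    have h2 : C'.index = e := by
      rw [hC'c, hcN, mul_comm e] at h1
      exact mul_left_cancel₀ (mul_ne_zero hp.ne_zero (mul_ne_zero (pow_ne_zero _ two_ne_zero)
        fun h => hm (by rw [h]; exact dvd_zero 2))) h1
    have h3 : C'.relIndex (Subgroup.normalizer (S' : Set N)) = e := by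
      rw [← h2, ← Subgroup.relIndex_sup_left, sup_comm, htop, Subgroup.relIndex_top_right]
    exact hqe.trans (h3 ▸ Subgroup.relIndex_dvd_card C' _)
  obtain ⟨g, hg⟩ := exists_prime_orderOf_dvd_card' (G := Subgroup.normalizer (S' : Set N)) q hqN
  rw [← Subgroup.orderOf_coe] at hg
  obtain ⟨v, hv, hv2, hgv⟩ := M23Ord.exists_inv_fixed hq2 S' ha hS'c hqa hg g.2
  refine ⟨((v : N) : G), ((g : N) : G), by rw [Subgroup.orderOf_coe, hv2], ?_, by rw [Subgroup.orderOf_coe, hg], ?_⟩
  · obtain ⟨w, -, hw⟩ := Subgroup.mem_map.1 hv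
    rw [← hw]
    exact w.2
  · exact congrArg Subtype.val hgv

end Cfsg.Agent.Invol.M22Ord.PBlk
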