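import Mathlib
import Cfsg.Agent.Lib.Invol.Order10200960.CheckTwentyThree
import Cfsg.Agent.Lib.Invol.Order10200960.FixedInvolution

/-!
Simple groups of order 10200960: the elements of order twenty-three generate their centralizers, the automizer
has order eleven, and every degree is 0, ±1 or ±11 modulo twenty-three.
-/

set_option autoImplicit false
set_option linter.style.haveILetI false
set_option linter.unusedSectionVars false

namespace Cfsg.Agent.Invol.M23Ord

open scoped ComplexConjugate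
open Cfsg Cfsg.Agent.Block Cfsg.Agent.Char Cfsg.Agent.Invol.M12Ord
open Cfsg.Agent.Invol.M22Ord (PBlk exists_pblk exists_gen)

universe u

variable {G : Type u} [Group G] [Finite G] [IsSimpleGroup G] [Fact (Nat.Prime 23)]

theorem mem_ordsTT (hG : Nat.card G = 10200960) {v g z : G} (hv : orderOf v = 2) (hg : orderOf g = 11)
    (hz : orderOf z = 23) (hgv : g * v = v * g) (hzv : z * v = v * z) : cn v ∈ ordsTT := by
  have h2 : 2 ∣ cn v := hv ▸ orderOf_dvd_cn (rfl : v * v = v * v)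
  have h11 : 11 ∣ cn v := hg ▸ orderOf_dvd_cn hgv
  have h23 : 23 ∣ cn v := hz ▸ orderOf_dvd_cn hzv
  obtain ⟨j, hj⟩ : 506 ∣ cn v := Nat.Coprime.mul_dvd_of_dvd_of_dvd (by norm_num : Nat.Coprime 22 23)
    (Nat.Coprime.mul_dvd_of_dvd_of_dvd (by norm_num : Nat.Coprime 2 11) h2 h11) h23
  have hle := M23Ord.cn_le hG (ne_one_of_orderOf hv (by norm_num))
  have hd : 506 * j ∣ 10200960 := hj ▸ hG ▸ cn_dvd_card v
  have hd' : j ∣ 20160 := Nat.dvd_of_mul_dvd_mul_left (by norm_num : 0 < 506) (by simpa using hd)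
  exact List.mem_map.2 ⟨j, List.mem_filter.2 ⟨List.mem_range.2 (by omega),
    by simp [Nat.mod_eq_zero_of_dvd hd']⟩, hj.symm⟩

/-- No element of order three centralises the Sylow subgroup at twenty-three. -/
theorem tt_three_false (hG : Nat.card G = 10200960) [Fact (Nat.Prime 11)] {e c : ℕ} (B : PBlk G 23 e)
    (hmax : e + 1 = 23 → ∀ χ ∈ B.X, dg χ ≤ dg B.y) (hcm : c ∣ 443520) (hC : Nat.card B.C = 23 * c)
    (hec : (e, c) ∈ [(22, 12), (11, 24), (22, 288), (11, 576)]) : False := by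
  obtain ⟨a, m, ha, hm, hqm, hqa, hc, h3⟩ : ∃ a m : ℕ, 0 < a ∧ ¬ 2 ∣ m ∧ ¬ 11 ∣ m ∧ ¬ 11 ∣ 2 ^ a - 1 ∧
      c = 2 ^ a * m ∧ 3 ∣ c := by
    simp only [List.mem_cons, List.not_mem_nil, or_false, Prod.mk.injEq] at hec
    rcases hec with ⟨-, rfl⟩ | ⟨-, rfl⟩ | ⟨-, rfl⟩ | ⟨-, rfl⟩
    · exact ⟨2, 3, by norm_num⟩
    · exact ⟨3, 3, by norm_num⟩
    · exact ⟨5, 9, by norm_num⟩
    · exact ⟨6, 9, by norm_num⟩
  have he : (e = 11 ∨ e = 22) ∧ c ≠ 1 := by
    simp only [List.mem_cons, List.not_mem_nil, or_false, Prod.mk.injEq] at hec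
    omega
  have hpc : ¬ 23 ∣ c := fun h => by have := h.trans hcm; norm_num at this
  obtain ⟨v, g, hv, hvC, hg, hgv⟩ := B.exists_inv_commute (q := 11) (by norm_num) (by norm_num)
    (by rcases he.1 with rfl | rfl <;> norm_num) ha hm hqm (by norm_num) hqa (hc ▸ hC)
  obtain ⟨z, hzP, -, hz, -⟩ := exists_gen B.P B.hP
  have hh := mem_ordsTT hG hv hg hz hgv (B.comm hzP hvC).eq
  obtain ⟨val, hval, -, -⟩ := M23Ord.inv_value hG hv
  have hv23 : ¬ 23 ∣ orderOf v := by rw [hv]; norm_num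
  obtain ⟨r, hr, hrow⟩ := B.exists_rowSel hG (by norm_num) true (okDiv [3]) (liveTT (cn v))
    (fun χ hχ => by
      have hne : χ ≠ trivialIrr G := fun h => B.triv_X (h ▸ hχ)
      have hmem := M23Ord.mem_cand (p := 23) (h := cn v) (cg := true) (by norm_num)
        (M23Ord.okv_of hG hv rfl hne (hval χ)) fun _ => B.congr_X hχ hvC hv23 (hval χ)
      simpa [liveTT] using List.ne_nil_of_mem hmem)
    (fun _ χ hχ => B.big_X23 hG (m := 443520) (by norm_num) (by norm_num) hcm hC he.2 hχ)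
    (fun χ hχ => B.okDiv_of hG hC [3] (fun q hq => by
      rw [List.mem_singleton] at hq; subst hq; exact ⟨Or.inl rfl, by norm_num, h3⟩) hχ)
    hmax
  obtain ⟨l, hl, -, -, -, -, hq⟩ := B.exists_vals23 hG (by norm_num) hv rfl hval hrow true fun _ => hvC
  rcases he.1 with rfl | rfl
  · rw [B.Q_zero (by norm_num) (by norm_num) hv hv hval hval hC hpc, mul_zero, Int.cast_eq_zero] at hq
    have := List.all_eq_true.1 (List.all_eq_true.1 (List.all_eq_true.1 checkTT_true _ hh) r hr) l hl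
    simp [hq] at this
  · have := List.all_eq_true.1 (List.all_eq_true.1 checkTTFull_true _ hh) r hr
    rw [List.isEmpty_iff.1 this] at hl
    exact List.not_mem_nil hl

/-- Elements of order twenty-three generate their centralizers, and the automizer has order eleven. -/
theorem exists_tt (hG : Nat.card G = 10200960) [Fact (Nat.Prime 11)] :
    ∃ B : PBlk G 23 11, Nat.card B.C = 23 := by
  have hna := M23Ord.not_comm hG
  obtain ⟨P⟩ : Nonempty (Sylow 23 G) := inferInstance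
  obtain ⟨e, c, hL, hP, hcm, he, hC⟩ := optTestTo_sound hna (K := 666) (p := 23) (m := 443520)
    (by rw [hG]) (by norm_num) (by norm_num) (by norm_num) (by norm_num)
    [(11, 1), (22, 12), (11, 24), (22, 35), (2, 40), (2, 63), (11, 70), (2, 132), (2, 224), (22, 288), (2, 385),
      (11, 576), (22, 840), (2, 960), (11, 1680), (2, 3168), (2, 9240)] (by decide +kernel) P
  obtain ⟨he', hkey⟩ : (e = 2 ∨ e = 11 ∨ e = 22) ∧ ((e, c) = (11, 1) ∨ (c ≠ 1 ∧ (e = 2 ∨ (e = 22 ∧ 7 ∣ c) ∨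
      (e = 11 ∧ 7 ∣ c ∧ 5 ∣ c) ∨ (e, c) ∈ [(22, 12), (11, 24), (22, 288), (11, 576)]))) := by
    refine (?_ : ∀ q ∈ ([(11, 1), (22, 12), (11, 24), (22, 35), (2, 40), (2, 63), (11, 70), (2, 132), (2, 224),
      (22, 288), (2, 385), (11, 576), (22, 840), (2, 960), (11, 1680), (2, 3168), (2, 9240)] : List (ℕ × ℕ)),
        (q.1 = 2 ∨ q.1 = 11 ∨ q.1 = 22) ∧ (q = (11, 1) ∨ (q.2 ≠ 1 ∧ (q.1 = 2 ∨ (q.1 = 22 ∧ 7 ∣ q.2) ∨
          (q.1 = 11 ∧ 7 ∣ q.2 ∧ 5 ∣ q.2) ∨ q ∈ [(22, 12), (11, 24), (22, 288), (11, 576)])))) (e, c) hL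
    decide +kernel
  obtain ⟨B, hB, hmax⟩ := exists_pblk hna (by norm_num) P hP he (by omega)
    (by rcases he' with rfl | rfl | rfl <;> norm_num)
  have hBC : Nat.card B.C = 23 * c := by rw [← hC, PBlk.C, hB]
  rcases hkey with h | ⟨hc1, h⟩
  · rw [Prod.mk.injEq] at h
    obtain ⟨rfl, rfl⟩ := h
    exact ⟨B, hBC⟩
  exfalso
  have hbig : true = true → ∀ χ ∈ B.X, (dg χ % 23 = 1 ∧ 2 * 23 + 1 ≤ dg χ) ∨
      (dg χ % 23 = 23 - 1 ∧ 3 * 23 - 1 ≤ dg χ) :=
    fun _ χ hχ => B.big_X23 hG (m := 443520) (by norm_num) (by norm_num) hcm hBC hc1 hχ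
  rcases h with rfl | ⟨rfl, h7⟩ | ⟨rfl, h7, h5⟩ | h
  · obtain ⟨r, hr, -⟩ := B.exists_row23 hG (by norm_num) true (fun _ => true) hbig (fun _ _ => rfl) hmax
    rw [rows_tt_two] at hr
    exact List.not_mem_nil hr
  · obtain ⟨r, hr, -⟩ := B.exists_row23 hG (by norm_num) true (okDiv [7]) hbig
      (fun χ hχ => B.okDiv_of hG hBC [7] (fun q hq => by
        rw [List.mem_singleton] at hq; subst hq; exact ⟨by norm_num, by norm_num, h7⟩) hχ) hmax
    rw [rows_tt_seven] at hr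
    exact List.not_mem_nil hr
  · obtain ⟨r, hr, -⟩ := B.exists_row23 hG (by norm_num) true (okDiv [7, 5]) hbig
      (fun χ hχ => B.okDiv_of hG hBC [7, 5] (fun q hq => by
        rcases List.mem_pair.1 hq with rfl | rfl
        · exact ⟨by norm_num, by norm_num, h7⟩
        · exact ⟨by norm_num, by norm_num, h5⟩) hχ) hmax
    rw [rows_tt_seven_five] at hr
    exact List.not_mem_nil hr
  · exact tt_three_false hG B hmax hcm hBC h

/-- The degree congruences forced at twenty-three. -/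
def ok23 (d : ℕ) : Bool :=
  Nat.ble 22 d && (Nat.beq (d % 23) 0 || Nat.beq (d % 23) 1 || Nat.beq (d % 23) 22 || Nat.beq (d % 23) 11 ||
    Nat.beq (d % 23) 12)

/-- The principal block at twenty-three with a self-centralising Sylow subgroup. -/
abbrev Blk23 (G : Type u) [Group G] [Finite G] : Type u := { B : PBlk G 23 11 // Nat.card B.C = 23 }

theorem Blk23.ok23_deg (A : Blk23 G) (hG : Nat.card G = 10200960) {χ : IrrCharacter G} (h0 : χ ≠ trivialIrr G) :
    ok23 (dg χ) = true := by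
  have h21 := M23Ord.deg_ge hG h0
  simp only [ok23, Bool.and_eq_true, Bool.or_eq_true, Nat.beq_eq, Nat.ble_eq]
  by_cases hX : χ ∈ A.1.X
  · have hd := A.1.deg_X χ hX
    rcases A.1.s_sign χ hX with hs | hs <;> rw [hs] at hd <;> omega
  by_cases hY : χ ∈ A.1.Y
  · have hd := A.1.deg_Y χ hY
    rcases A.1.ε_sign with hs | hs <;> rw [hs] at hd <;> omega
  have := A.1.out A.2 χ h0 hX hY
  omega

end Cfsg.Agent.Invol.M23Ord
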