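import Mathlib
import Cfsg.Agent.Lib.Invol.Order10200960.TwentyThree

/-!
Order 10200960: the exhaustive checks at an element of order eleven.
-/

set_option autoImplicit false

namespace Cfsg.Agent.Invol.M23Ord

open Cfsg.Agent.Invol.M22Ord (Row qfold qsq)

/-- The degrees allowed at twenty-three and by elements of order three, five or seven in the centralizer. -/
def okEl (qs : List ℕ) (d : ℕ) : Bool := ok23 d && okDiv qs d

theorem invOrds_eleven : invOrds 11 = [
    22, 44, 66, 88, 110, 132, 154, 176, 198, 220, 264, 308, 330, 352,
    396, 440, 462, 506, 528, 616, 660, 704, 770, 792, 880, 924, 990, 1012,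
    1056, 1232, 1320, 1386, 1408, 1518, 1540, 1584, 1760, 1848, 1980, 2024, 2112, 2310,
    2464, 2530, 2640, 2772, 3036, 3080, 3168, 3520, 3542, 3696, 3960, 4048, 4224, 4554,
    4620, 4928, 5060, 5280, 5544, 6072, 6160, 6336, 6930, 7040, 7084, 7392, 7590, 7920,
    8096, 9108, 9240, 9856, 10120, 10560, 10626, 11088, 12144, 12320, 12672, 13860, 14168, 14784,
    15180, 15840, 16192, 17710, 18216, 18480, 20240, 21120, 21252, 22176, 22770, 24288, 24640, 27720,
    28336, 29568, 30360, 31680, 31878, 32384, 35420, 36432, 36960, 40480, 42504, 44352, 45540, 48576,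
    49280, 53130, 55440, 56672, 60720, 63360, 63756, 70840, 72864, 73920, 80960, 85008, 88704, 91080,
    97152, 106260, 110880, 113344, 121440, 127512, 141680, 145728, 147840, 159390, 161920, 170016, 182160, 212520,
    221760, 226688, 242880, 255024, 283360, 291456, 318780, 340032, 364320, 425040, 443520] := by decide +kernel

/-- No involution centralises the Sylow subgroup together with an element of order three. -/
def checkElThree : Bool :=
  (rows 11 5 true (okEl [3])).all fun r =>
    (invOrds 11).all fun h => (blockVals 11 5 h true r).all fun l => decide ((qfold (qsq r l)).1 ≠ 0)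

theorem checkElThree_true : checkElThree = true := by rw [checkElThree, invOrds_eleven]; decide +kernel

/-- The rows at seven when an element of order eleven centralises the Sylow subgroup. -/
theorem rows_sev (e : ℕ) (he : e = 2 ∨ e = 6) : rows 7 e true (okEl [11]) = [] := by
  rcases he with rfl | rfl <;> decide +kernel

theorem rows_el_ten_three : rows 11 10 true (okEl [3]) = [] := by decide +kernel

theorem rows_el_two : rows 11 2 true (okEl []) = [([(45, 1)], 1, 46), ([(23, 1)], 1, 24)] := by decide +kernel

theorem rows_el_two_three : rows 11 2 true (okEl [3]) = [([(23, 1)], 1, 24)] := by decide +kernel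

theorem rows_el_two_five : rows 11 2 true (okEl [5]) = [([(23, 1)], 1, 24)] := by decide +kernel

end Cfsg.Agent.Invol.M23Ord
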