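import Mathlib
import Cfsg.Agent.Lib.Invol.Order10200960.States

/-!
The products of two conjugates of an involution among the singular elements centralising a Sylow subgroup.
-/

set_option autoImplicit false
set_option linter.style.haveILetI false
set_option linter.unusedSectionVars false

namespace Cfsg.Agent.Invol.M22Ord.PBlk

open scoped ComplexConjugate
open Cfsg Cfsg.Agent.Block Cfsg.Agent.Char Cfsg.Agent.Invol.M12Ord
open Cfsg.Agent.Invol

universe u

variable {G : Type u} [Group G] [Finite G] [IsSimpleGroup G] {p e : ℕ} [Fact p.Prime] (B : PBlk G p e)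

/-- The count of pairs of conjugates of an involution with product in `W`: it is at most `|W| |N(P)|`, and when
it is not zero such a pair exists. -/
theorem count_bound {v : G} (hv : orderOf v = 2) (hr : ¬ p ∣ orderOf v) {a : IrrCharacter G → ℤ}
    (ha : ∀ χ : IrrCharacter G, (χ : G → ℂ) v = a χ) {c : ℕ} (hC : Nat.card B.C = p * c) (hpc : ¬ p ∣ c) :
    ∃ K : ℕ, (Nat.card G : ℂ) * (B.W.card : ℂ) * B.Q a a = (K : ℂ) * (cn v : ℂ) * (cn v : ℂ) ∧
      K ≤ B.W.card * (e * (p * c)) ∧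
      (K ≠ 0 → ∃ z ∈ B.W, ∃ x y : G, IsConj v x ∧ IsConj v y ∧ x * y = z) := by
  classical
  have hvi : v⁻¹ = v := inv_eq_of_mul_eq_one_right (by rw [← pow_two, ← hv, pow_orderOf_eq_one])
  have hinv : ∀ {w : G}, IsConj v w → w * w = 1 := fun {w} h => by
    obtain ⟨k, rfl⟩ := isConj_iff.1 h
    rw [show k * v * k⁻¹ * (k * v * k⁻¹) = k * (v * v) * k⁻¹ by group, ← pow_two, ← hv, pow_orderOf_eq_one]
    group
  refine ⟨∑ z ∈ B.W, {y' : G | IsConj v⁻¹ y' ∧ IsConj (z * y') v}.ncard, ?_, ?_, ?_⟩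
  · have hci : cn v⁻¹ = cn v := by rw [hvi]
    rw [mul_assoc, ← B.W_sum hr hr ha ha hC hpc, Nat.cast_sum, Finset.sum_mul, Finset.sum_mul,
      ← Finset.sum_congr rfl (fun z _ => (triple z v⁻¹ v).trans (by rw [hci])), ← Finset.mul_sum,
      Finset.sum_comm]
    congr 1
    refine Finset.sum_congr rfl fun χ _ => ?_
    rw [Wsum, Finset.mul_sum, Finset.sum_div]
    refine Finset.sum_congr rfl fun z _ => ?_
    rw [hvi, ha, map_intCast, value_one]
    push_cast
    ring
  · rw [← smul_eq_mul (B.W.card)]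
    refine Finset.sum_le_card_nsmul _ _ _ fun z hz => ?_
    rw [← B.card_N hC]
    refine le_trans (Set.ncard_le_ncard (t := (Subgroup.normalizer ((B.P : Subgroup G) : Set G) : Set G))
      (fun y hy => ?_) (Set.toFinite _)) (le_of_eq (Nat.card_coe_set_eq _).symm)
    obtain ⟨hy1, hy2⟩ := hy
    rw [hvi] at hy1
    have hyy := hinv hy1
    have hzy : (z * y) * (z * y) = 1 := hinv hy2.symm
    have hyi : y⁻¹ = y := inv_eq_of_mul_eq_one_right hyy
    obtain ⟨u, w, hu, hu1, hw, hwr, huw⟩ := B.mem_W.1 hz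
    have hconj : y * z * y⁻¹ = z⁻¹ := by
      rw [hyi, eq_inv_iff_mul_eq_one]
      calc y * z * y * z = y⁻¹⁻¹ * (z * y * (z * y)) * y⁻¹ := by group
        _ = 1 := by rw [hzy, inv_inv, mul_one, hyi, hyy]
    have hc : y * u ^ c * y⁻¹ = (u ^ c)⁻¹ := by
      have e1 : z ^ c = u ^ c := by rw [← huw, (B.comm hu hw).mul_pow, B.card_C hC hpc hw hwr, mul_one]
      rw [← e1, ← conj_pow, hconj, inv_pow]
    have hgen : Subgroup.zpowers (u ^ c) = (B.P : Subgroup G) :=
      Subgroup.eq_of_le_of_card_ge (Subgroup.zpowers_le.2 (pow_mem hu c))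
        (by rw [Nat.card_zpowers, B.orderOf_u (pow_mem hu c)
          (fun e0 => hu1 (B.pow_c_inj hpc hu (one_mem _) (by rw [e0, one_pow])))]; exact B.hP.le)
    show y ∈ Subgroup.normalizer ((B.P : Subgroup G) : Set G)
    refine Subgroup.mem_normalizer_iff.2 fun t => ?_
    have key : ∀ t : G, t ∈ (B.P : Subgroup G) → y * t * y⁻¹ ∈ (B.P : Subgroup G) := fun t ht => by
      rw [← hgen] at ht ⊢
      obtain ⟨i, rfl⟩ := Subgroup.mem_zpowers_iff.1 ht
      rw [← conj_zpow, hc]
      exact zpow_mem (inv_mem (Subgroup.mem_zpowers _)) i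
    refine ⟨key t, fun ht => ?_⟩
    have := key _ ht
    rwa [hyi, show y * (y * t * y) * y = (y * y) * t * (y * y) by group, hyy, one_mul, mul_one] at this
  · intro hne
    obtain ⟨z, hz, hzne⟩ := Finset.exists_ne_zero_of_sum_ne_zero hne
    obtain ⟨y, hy1, hy2⟩ := Set.nonempty_of_ncard_ne_zero hzne
    rw [hvi] at hy1
    exact ⟨z, hz, z * y, y, hy2.symm, hy1, by rw [mul_assoc, hinv hy1, mul_one]⟩

end Cfsg.Agent.Invol.M22Ord.PBlk
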