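import Mathlib
import Cfsg.Agent.Lib.Invol.Order10200960.Base

/-!
Fixed spaces of subgroups in the representation of an irreducible character.
-/

set_option autoImplicit false
set_option linter.style.haveILetI false
set_option linter.unusedSectionVars false

namespace Cfsg.Agent.Invol.M23Ord

open scoped ComplexConjugate
open Cfsg Cfsg.Agent.Block Cfsg.Agent.Char Cfsg.Agent.Invol.M12Ord

universe u

variable {G : Type u} [Group G] [Finite G] {V : Type*} [AddCommGroup V] [Module ℂ V] [FiniteDimensional ℂ V]

/-- The vectors fixed by a subgroup. -/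
noncomputable def fixSpace (ρ : Representation ℂ G V) (H : Subgroup G) : Submodule ℂ V :=
  Representation.invariants (MonoidHom.comp ρ H.subtype : Representation ℂ H V)

theorem mem_fixSpace {ρ : Representation ℂ G V} {H : Subgroup G} {v : V} :
    v ∈ fixSpace ρ H ↔ ∀ h ∈ H, ρ h v = v :=
  ⟨fun hv h hh => hv ⟨h, hh⟩, fun hv h => hv h h.2⟩

/-- The dimension of the fixed space is the average of the character. -/
theorem fixSpace_sum (ρ : Representation ℂ G V) (H : Subgroup G) [Fintype H] :
    ∑ h : H, ρ.character h = (Nat.card H : ℂ) * (Module.finrank ℂ (fixSpace ρ H) : ℂ) := by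
  have hH : (Nat.card H : ℂ) ≠ 0 := Nat.cast_ne_zero.2 Nat.card_pos.ne'
  haveI : Invertible (Nat.card H : ℂ) := invertibleOfNonzero hH
  let σ : Representation ℂ H V := MonoidHom.comp ρ H.subtype
  show ∑ h : H, ρ.character h = (Nat.card H : ℂ) * (Module.finrank ℂ σ.invariants : ℂ)
  rw [← σ.card_inv_mul_sum_char_eq_finrank, ← mul_assoc, mul_inv_cancel₀ hH, one_mul]
  rfl

/-- The sum of the values over the powers of an element, when the fixed space of the generated group is known. -/
theorem fixSpace_zpowers (ρ : Representation ℂ G V) (z : G) :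
    ∑ i ∈ Finset.range (orderOf z), ρ.character (z ^ i) =
      (orderOf z : ℂ) * (Module.finrank ℂ (fixSpace ρ (Subgroup.zpowers z)) : ℂ) := by
  classical
  haveI : Fintype (Subgroup.zpowers z) := Fintype.ofFinite _
  have h := fixSpace_sum ρ (Subgroup.zpowers z)
  rw [Nat.card_zpowers] at h
  rw [← h, Finset.sum_range fun i => ρ.character (z ^ i)]
  exact Fintype.sum_equiv (finEquivZPowers (isOfFinOrder_of_finite z)) _ _ fun i => rfl

/-- An involution with trace `2 - n` on a space of dimension `n` negates a hyperplane. -/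
theorem neg_hyperplane (ρ : Representation ℂ G V) {x : G} (hx : orderOf x = 2)
    (hc : ρ.character x = 2 - (Module.finrank ℂ V : ℂ)) :
    Module.finrank ℂ V ≤ Module.finrank ℂ (LinearMap.ker (ρ x + 1)) + 1 := by
  classical
  have hsum := fixSpace_zpowers ρ x
  rw [hx, Finset.sum_range_succ, Finset.sum_range_succ, Finset.sum_range_zero, pow_zero, pow_one,
    Representation.char_one, hc] at hsum
  have h1 : Module.finrank ℂ (fixSpace ρ (Subgroup.zpowers x)) = 1 := by
    apply Nat.cast_injective (R := ℂ)
    push_cast at hsum ⊢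
    linear_combination -(1 / 2 : ℂ) * hsum
  have hker : LinearMap.ker (1 - ρ x) ≤ fixSpace ρ (Subgroup.zpowers x) := fun v hv => by
    rw [LinearMap.mem_ker, LinearMap.sub_apply, Module.End.one_apply, sub_eq_zero] at hv
    refine mem_fixSpace.2 fun h hh => ?_
    obtain ⟨k, rfl⟩ := (mem_powers_iff_mem_zpowers.2 hh)
    induction k with
    | zero => simp
    | succ k ih =>
      show ρ (x ^ (k + 1)) v = v
      rw [pow_succ, map_mul, Module.End.mul_apply, ← hv]
      exact ih (Subgroup.npow_mem_zpowers x k)
  have hrange : LinearMap.range (1 - ρ x) ≤ LinearMap.ker (ρ x + 1) := by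
    rintro _ ⟨w, rfl⟩
    have hxx : ρ x (ρ x w) = w := by
      rw [← Module.End.mul_apply, ← map_mul, ← pow_two, ← hx, pow_orderOf_eq_one, map_one, Module.End.one_apply]
    simp [LinearMap.mem_ker, map_sub, hxx]
    abel
  have h2 := LinearMap.finrank_range_add_finrank_ker (1 - ρ x)
  have h3 := Submodule.finrank_mono hker
  have h4 := Submodule.finrank_mono hrange
  omega

variable [IsSimpleGroup G]

/-- Two involutions with value `-21` in degree twenty-three: the powers of their product sum to at least
twenty-one times its order. -/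
theorem product_fix {χ : IrrCharacter G} (hd : dg χ = 23) {x y : G} (hx : orderOf x = 2) (hy : orderOf y = 2)
    (hvx : (χ : G → ℂ) x = -21) (hvy : (χ : G → ℂ) y = -21) :
    ∃ n : ℕ, 21 ≤ n ∧ ∑ i ∈ Finset.range (orderOf (x * y)), (χ : G → ℂ) ((x * y) ^ i) =
      (orderOf (x * y) : ℂ) * (n : ℂ) := by
  obtain ⟨n, ρ, hρ, hρχ, hn, -⟩ := IsIrr.exists_rep χ.2
  have hdim : Module.finrank ℂ (Fin n → ℂ) = 23 := by
    rw [Module.finrank_fin_fun, ← hd]
    exact Nat.cast_injective (R := ℂ) (hn.symm.trans (charDeg_spec' χ))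
  have key : ∀ t : G, orderOf t = 2 → (χ : G → ℂ) t = -21 →
      22 ≤ Module.finrank ℂ (LinearMap.ker (ρ t + 1)) := fun t ht hv => by
    have := neg_hyperplane ρ ht (by rw [hdim, show ρ.character t = (χ : G → ℂ) t by rw [← hρχ], hv]; norm_num)
    omega
  refine ⟨Module.finrank ℂ (fixSpace ρ (Subgroup.zpowers (x * y))), ?_, by
    rw [← fixSpace_zpowers, hρχ]⟩
  have hle : LinearMap.ker (ρ x + 1) ⊓ LinearMap.ker (ρ y + 1) ≤ fixSpace ρ (Subgroup.zpowers (x * y)) := by
    rintro v ⟨h1, h2⟩
    simp only [SetLike.mem_coe, LinearMap.mem_ker, LinearMap.add_apply, Module.End.one_apply,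
      add_eq_zero_iff_eq_neg] at h1 h2
    have hz : ρ (x * y) v = v := by rw [map_mul, Module.End.mul_apply, h2, map_neg, h1, neg_neg]
    refine mem_fixSpace.2 fun h hh => ?_
    obtain ⟨k, rfl⟩ := (mem_powers_iff_mem_zpowers.2 hh)
    induction k with
    | zero => simp
    | succ k ih =>
      show ρ ((x * y) ^ (k + 1)) v = v
      rw [pow_succ, map_mul, Module.End.mul_apply, hz]
      exact ih (Subgroup.npow_mem_zpowers _ k)
  have h1 := Submodule.finrank_sup_add_finrank_inf_eq (LinearMap.ker (ρ x + 1)) (LinearMap.ker (ρ y + 1))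
  have h2 := Submodule.finrank_le (LinearMap.ker (ρ x + 1) ⊔ LinearMap.ker (ρ y + 1))
  have h3 := Submodule.finrank_mono hle
  have h4 := key x hx hvx
  have h5 := key y hy hvy
  omega

end Cfsg.Agent.Invol.M23Ord
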