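import Mathlib
import Cfsg.Agent.Lib.Invol.Order10200960.CheckEleven
import Cfsg.Agent.Lib.Invol.Order443520.Local

/-!
Order 10200960: an element of order seven centralising a Sylow subgroup at eleven forces the order of its
normalizer to be a multiple of one of a few numbers.
-/

set_option autoImplicit false
set_option linter.style.haveILetI false
set_option linter.unusedSectionVars false

namespace Cfsg.Agent.Invol.M23Ord

open scoped ComplexConjugate Pointwise
open Cfsg Cfsg.Agent.Block Cfsg.Agent.Char Cfsg.Agent.Invol.M12Ord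
open Cfsg.Agent.Invol.M22Ord (PBlk exists_pblk exists_gen)

universe u

/-- A subgroup of prime order with its normalizer, against a normal subgroup. -/
theorem frattini_normalizer {N : Type*} [Group N] [Finite N] (C : Subgroup N) [C.Normal] {q : ℕ} [Fact q.Prime]
    (Z : Sylow q C) :
    Nat.card (Subgroup.normalizer (((Z : Subgroup C).map C.subtype : Subgroup N) : Set N)) * Nat.card (Sylow q C) =
      C.index * Nat.card C := by
  set Z' := (Z : Subgroup C).map C.subtype with hZ'
  set M := Subgroup.normalizer (Z' : Set N) with hM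
  have htop : M ⊔ C = ⊤ := Sylow.normalizer_sup_eq_top Z
  have h3 : C.relIndex M = C.index := by
    rw [← Subgroup.relIndex_sup_left, sup_comm, htop, Subgroup.relIndex_top_right]
  have h4 : Subgroup.normalizer ((Z : Subgroup C) : Set C) = M.subgroupOf C := by
    ext x
    simp only [Subgroup.mem_normalizer_iff, Subgroup.mem_subgroupOf, hM, SetLike.mem_coe]
    constructor
    · intro h y
      constructor
      · rintro hy
        obtain ⟨w, hw, rfl⟩ := Subgroup.mem_map.1 hy
        exact Subgroup.mem_map.2 ⟨x * w * x⁻¹, (h w).1 hw, by simp⟩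
      · rintro hy
        obtain ⟨w, hw, hwy⟩ := Subgroup.mem_map.1 hy
        refine Subgroup.mem_map.2 ⟨x⁻¹ * w * x, (h _).2 (by simpa [mul_assoc] using hw), ?_⟩
        simp only [Subgroup.coe_subtype] at hwy
        simp [hwy, mul_assoc]
    · intro h w
      have hm : ∀ v : C, v ∈ (Z : Subgroup C) ↔ (v : N) ∈ Z' := fun v =>
        (Subgroup.mem_map_iff_mem C.subtype_injective).symm
      rw [hm, hm]
      simpa using h (w : N)
  have h5 := Sylow.card_eq_index_normalizer Z
  rw [show ((Z : Sylow q C) : Set C) = ((Z : Subgroup C) : Set C) from rfl, h4] at h5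
  have h6 : Nat.card C = Nat.card (C ⊓ M : Subgroup N) * Nat.card (Sylow q C) := by
    rw [h5, ← Subgroup.card_mul_index (M.subgroupOf C)]
    congr 1
    rw [← Subgroup.inf_subgroupOf_left]
    exact Nat.card_congr (Subgroup.subgroupOfEquivOfLe inf_le_left).toEquiv
  have h7 : Nat.card M = Nat.card (C ⊓ M : Subgroup N) * C.relIndex M := by
    rw [Subgroup.relIndex, ← Subgroup.card_mul_index (C.subgroupOf M)]
    congr 1
    rw [← Subgroup.inf_subgroupOf_right]
    exact Nat.card_congr (Subgroup.subgroupOfEquivOfLe inf_le_right).toEquiv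
  rw [h7, h3, h6]
  ring

variable {G : Type u} [Group G] [Finite G] [IsSimpleGroup G] [Fact (Nat.Prime 23)]

theorem Blk23.no_commute (A : Blk23 G) {x z : G} (hz : orderOf z = 23) {q : ℕ} (hq : orderOf x = q)
    (hq1 : q = 2 ∨ q = 3 ∨ q = 5 ∨ q = 7 ∨ q = 11) (hc : x * z = z * x) : False := by
  have h := orderOf_dvd_cn hc
  rw [hq, A.1.cn_sylow hz, A.2] at h
  rcases hq1 with rfl | rfl | rfl | rfl | rfl <;> norm_num at h

theorem Blk23.not_dvd_C (A : Blk23 G) {p e c : ℕ} [Fact p.Prime] (B : PBlk G p e)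
    (hp : p = 3 ∨ p = 5 ∨ p = 7 ∨ p = 11) (hC : Nat.card B.C = p * c) : ¬ 23 ∣ c := by
  intro h
  obtain ⟨z, hz, hzC⟩ := B.exists_elem hC h
  obtain ⟨u, hu, -, huo, -⟩ := exists_gen B.P B.hP
  exact A.no_commute hz huo (by omega) (B.comm hu hzC).eq

/-- An element of order seven in the centralizer of a Sylow subgroup at eleven constrains the normalizer. -/
theorem seventy_seven (hG : Nat.card G = 10200960) (A : Blk23 G) [Fact (Nat.Prime 7)] [Fact (Nat.Prime 11)]
    {e c : ℕ} (B : PBlk G 11 e) (hC : Nat.card B.C = 11 * c) (h7 : 7 ∣ c) :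
    ∃ c₇ n : ℕ, c₇ ∈ [44, 352, 660, 5280] ∧ n ∣ c₇ / 11 ∧ n % 11 = 1 ∧ 21 * c₇ / n ∣ e * (11 * c) := by
  classical
  obtain ⟨x, hx, hxC⟩ := B.exists_elem hC h7
  obtain ⟨z, hzP, hz1, hz, -⟩ := exists_gen B.P B.hP
  obtain ⟨P, hPx⟩ := (IsPGroup.of_card (p := 7) (G := ↥(Subgroup.zpowers x)) (n := 1)
    (by rw [Nat.card_zpowers, hx, pow_one])).exists_le_sylow
  have hna := M23Ord.not_comm hG
  obtain ⟨e₇, c₇, hL, hP, hcm, he, hC₇⟩ := optTestTo_sound hna (K := 1208) (p := 7) (m := 1457280)
    (by rw [hG]) (by norm_num) (by norm_num) (by norm_num) (by norm_num)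
    [(6, 1), (3, 2), (2, 3), (6, 8), (2, 10), (6, 15), (3, 16), (6, 22), (3, 23), (2, 24), (3, 30), (3, 44), (2, 45),
      (6, 64), (2, 66), (2, 80), (6, 92), (2, 115), (6, 120), (3, 128), (6, 176), (3, 184), (2, 192), (2, 220),
      (3, 240), (6, 253), (2, 276), (6, 330), (3, 345), (3, 352), (2, 360), (3, 506), (2, 528), (3, 660), (6, 736),
      (2, 759), (2, 920), (6, 960), (2, 990), (6, 1380), (3, 1472), (2, 1760), (3, 1920), (6, 2024), (2, 2208),
      (2, 2530), (6, 2640), (3, 2760), (2, 2880), (6, 3795), (3, 4048), (2, 4140), (3, 5280), (2, 6072), (2, 7360),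
      (3, 7590), (2, 7920), (6, 11040), (2, 11385), (6, 16192), (2, 20240), (3, 22080), (6, 30360), (3, 32384),
      (2, 33120), (2, 48576), (3, 60720), (2, 91080)] (by decide +kernel) P
  obtain ⟨he', hkey⟩ : (e₇ = 2 ∨ e₇ = 3 ∨ e₇ = 6) ∧ (e₇ = 3 → 23 ∣ c₇ ∨ ¬ 11 ∣ c₇ ∨ c₇ ∈ [44, 352, 660, 5280]) := by
    refine (?_ : ∀ q ∈ ([(6, 1), (3, 2), (2, 3), (6, 8), (2, 10), (6, 15), (3, 16), (6, 22), (3, 23), (2, 24), (3, 30),
      (3, 44), (2, 45), (6, 64), (2, 66), (2, 80), (6, 92), (2, 115), (6, 120), (3, 128), (6, 176), (3, 184), (2, 192),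
      (2, 220), (3, 240), (6, 253), (2, 276), (6, 330), (3, 345), (3, 352), (2, 360), (3, 506), (2, 528), (3, 660),
      (6, 736), (2, 759), (2, 920), (6, 960), (2, 990), (6, 1380), (3, 1472), (2, 1760), (3, 1920), (6, 2024),
      (2, 2208), (2, 2530), (6, 2640), (3, 2760), (2, 2880), (6, 3795), (3, 4048), (2, 4140), (3, 5280), (2, 6072),
      (2, 7360), (3, 7590), (2, 7920), (6, 11040), (2, 11385), (6, 16192), (2, 20240), (3, 22080), (6, 30360),
      (3, 32384), (2, 33120), (2, 48576), (3, 60720), (2, 91080)] : List (ℕ × ℕ)),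
        (q.1 = 2 ∨ q.1 = 3 ∨ q.1 = 6) ∧ (q.1 = 3 → 23 ∣ q.2 ∨ ¬ 11 ∣ q.2 ∨ q.2 ∈ [44, 352, 660, 5280]))
      (e₇, c₇) hL
    decide +kernel
  obtain ⟨B₇, hB₇, hmax⟩ := exists_pblk hna (by norm_num) P hP he (by omega)
    (by rcases he' with rfl | rfl | rfl <;> norm_num)
  have hBC : Nat.card B₇.C = 7 * c₇ := by rw [← hC₇, PBlk.C, hB₇]
  have hxP : x ∈ (B₇.P : Subgroup G) := hB₇ ▸ hPx (Subgroup.mem_zpowers x)
  have hx1 : x ≠ 1 := ne_one_of_orderOf hx (by norm_num)
  have hzC : z ∈ B₇.C := by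
    rw [← B₇.centralizer_gen hxP hx1, Subgroup.mem_centralizer_singleton_iff]
    exact (B.comm hzP hxC).eq
  have h11 : 11 ∣ c₇ := by
    have h := Subgroup.orderOf_dvd_natCard _ hzC
    rw [hz, hBC] at h
    exact (Nat.Coprime.dvd_of_dvd_mul_left (by norm_num) h)
  have hc1 : c₇ ≠ 1 := fun h => by rw [h] at h11; norm_num at h11
  have he3 : e₇ = 3 := by
    rcases he' with h | h | h
    on_goal 2 => exact h
    all_goals
      exfalso
      obtain ⟨r, hr, -⟩ := B₇.exists_row23 hG (by norm_num) true (okEl [11])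
        (fun _ χ hχ => B₇.big_X23 hG (m := 1457280) (by norm_num) (by norm_num) hcm hBC hc1 hχ)
        (fun χ hχ => by
          have hne : χ ≠ trivialIrr G := by
            rcases hχ with hh | rfl
            · exact fun e0 => B₇.triv_X (e0 ▸ hh)
            · exact B₇.y_ne
          simp only [okEl, A.ok23_deg hG hne, Bool.true_and]
          exact B₇.okDiv_of hG hBC [11] (fun q hq => by
            rw [List.mem_singleton] at hq; subst hq; exact ⟨by norm_num, by norm_num, h11⟩) hχ) hmax
      rw [rows_sev e₇ (by omega)] at hr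
      exact List.not_mem_nil hr
  subst he3
  have hmem : c₇ ∈ [44, 352, 660, 5280] := by
    rcases hkey rfl with h | h | h
    · exact absurd h (A.not_dvd_C B₇ (by norm_num) hBC)
    · exact absurd h11 h
    · exact h
  set N := Subgroup.normalizer ((B₇.P : Subgroup G) : Set G) with hN
  have hCN : B₇.C ≤ N := Subgroup.centralizer_le_normalizer _
  set C' := B₇.C.subgroupOf N with hC'
  haveI : C'.Normal := by
    refine Subgroup.normal_subgroupOf_of_le_normalizer fun g hg => ?_
    refine Subgroup.mem_normalizer_iff.2 fun v => ?_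
    have key : ∀ y : G, y ∈ N → ∀ v : G, v ∈ B₇.C → y * v * y⁻¹ ∈ B₇.C := fun y hy v hv => by
      refine Subgroup.mem_centralizer_iff.2 fun w hw => ?_
      have hw' : y⁻¹ * w * y ∈ (B₇.P : Subgroup G) :=
        (Subgroup.mem_normalizer_iff.1 hy _).2 (by group; exact hw)
      calc w * (y * v * y⁻¹) = y * ((y⁻¹ * w * y) * v) * y⁻¹ := by group
        _ = y * (v * (y⁻¹ * w * y)) * y⁻¹ := by rw [Subgroup.mem_centralizer_iff.1 hv _ hw']
        _ = y * v * y⁻¹ * w := by group
    refine ⟨key g hg v, fun h => ?_⟩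
    simpa [mul_assoc] using key g⁻¹ (inv_mem hg) _ h
  have hC'c : Nat.card C' = 7 * c₇ := by
    rw [← hBC]; exact Nat.card_congr (Subgroup.subgroupOfEquivOfLe hCN).toEquiv
  have hidx : C'.index = 3 := by
    have h1 := Subgroup.card_mul_index C'
    rw [hC'c, B₇.card_N hBC, mul_comm 3] at h1
    exact mul_left_cancel₀ (hC'c ▸ Nat.card_pos.ne') h1
  obtain ⟨Z⟩ : Nonempty (Sylow 11 C') := inferInstance
  set n := Nat.card (Sylow 11 C') with hn
  have hn1 : n % 11 = 1 := card_sylow_modEq_one 11 C'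
  have hfr := frattini_normalizer C' Z
  rw [hidx, hC'c, ← hn] at hfr
  set Z' := (Z : Subgroup C').map C'.subtype with hZ'
  have hZc : Nat.card (Z : Subgroup C') = 11 := by
    have hd : ¬ 11 ^ 2 ∣ 7 * c₇ := by
      simp only [List.mem_cons, List.not_mem_nil, or_false] at hmem
      rcases hmem with rfl | rfl | rfl | rfl <;> norm_num
    obtain ⟨k, hk⟩ := (IsPGroup.iff_card.1 Z.2)
    have h1 : 11 ∣ Nat.card (Z : Subgroup C') := Z.dvd_card_of_dvd_card (hC'c ▸ dvd_mul_of_dvd_right h11 7)
    have h2 : Nat.card (Z : Subgroup C') ∣ 7 * c₇ := hC'c ▸ Subgroup.card_subgroup_dvd_card _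
    rw [hk] at h1 h2 ⊢
    rcases k with _ | _ | k
    · norm_num at h1
    · norm_num
    · exact absurd (dvd_trans (pow_dvd_pow 11 (by omega)) h2) hd
  set Q : Subgroup G := Z'.map N.subtype with hQ
  have hQc : Nat.card Q = 11 := by
    rw [← hZc]
    exact ((Nat.card_congr ((Z : Subgroup C').equivMapOfInjective _ C'.subtype_injective).toEquiv).trans
      (Nat.card_congr (Z'.equivMapOfInjective _ N.subtype_injective).toEquiv)).symm
  -- the normalizer of that subgroup inside `N(P)` lies in a conjugate of the normalizer at eleven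
  have hdvd : Nat.card (Subgroup.normalizer (Z' : Set N)) ∣ e * (11 * c) := by
    have h1 : (Subgroup.normalizer (Z' : Set N)).map N.subtype ≤ Subgroup.normalizer (Q : Set G) := by
      rintro _ ⟨g, hg, rfl⟩
      exact Subgroup.le_normalizer_map N.subtype ⟨g, hg, rfl⟩
    have h2 : Nat.card (Subgroup.normalizer (Q : Set G)) = e * (11 * c) := by
      obtain ⟨S, hS⟩ := (IsPGroup.of_card (p := 11) (G := Q) (n := 1) (by rw [hQc, pow_one])).exists_le_sylow
      have hSQ : (S : Subgroup G) = Q := (Subgroup.eq_of_le_of_card_ge hS (by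
        rw [hQc, S.card_eq_multiplicity, hG, fact_one (by norm_num), pow_one])).symm
      obtain ⟨g, hg⟩ := MulAction.exists_smul_eq G B.P S
      rw [← B.card_N hC, ← hSQ, ← hg]
      show Nat.card (Subgroup.normalizer ((MulAut.conj g • (B.P : Subgroup G) : Subgroup G) : Set G)) = _
      rw [show MulAut.conj g • (B.P : Subgroup G) = (B.P : Subgroup G).map (MulAut.conj g).toMonoidHom from rfl,
        ← Subgroup.map_equiv_normalizer_eq]
      exact Nat.card_congr (Subgroup.equivMapOfInjective _ _ (MulEquiv.injective _)).symm.toEquiv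
    rw [← h2, Nat.card_congr ((Subgroup.normalizer (Z' : Set N)).equivMapOfInjective _ N.subtype_injective).toEquiv]
    exact Subgroup.card_dvd_of_le h1
  refine ⟨c₇, n, hmem, ?_, hn1, ?_⟩
  · have h77 : 77 ∣ Nat.card (Subgroup.normalizer ((Z : Subgroup C') : Set C')) := by
      refine Nat.Coprime.mul_dvd_of_dvd_of_dvd (by norm_num : Nat.Coprime 7 11) ?_ ?_
      · have hx' : (⟨⟨x, hCN (B₇.P_le_C hxP)⟩, B₇.P_le_C hxP⟩ : C') ∈
            Subgroup.normalizer ((Z : Subgroup C') : Set C') := by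
          refine Subgroup.centralizer_le_normalizer _ (Subgroup.mem_centralizer_iff.2 fun w _ => ?_)
          exact Subtype.ext (Subtype.ext (B₇.comm hxP w.2).eq.symm)
        have h := Subgroup.orderOf_dvd_natCard _ hx'
        rwa [← Subgroup.orderOf_coe, ← Subgroup.orderOf_coe, hx] at h
      · exact (dvd_of_eq hZc.symm).trans (Subgroup.card_dvd_of_le Subgroup.le_normalizer)
    obtain ⟨m, hm⟩ := h77
    have h5 := Subgroup.card_mul_index (Subgroup.normalizer ((Z : Subgroup C') : Set C'))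
    rw [show (Subgroup.normalizer ((Z : Subgroup C') : Set C')).index = n from
      (Sylow.card_eq_index_normalizer Z).symm, hm, hC'c] at h5
    have h6 : 11 * (m * n) = c₇ := by nlinarith
    exact ⟨m, by rw [← h6, Nat.mul_div_cancel_left _ (by norm_num : 0 < 11), mul_comm]⟩
  · have hn0 : 0 < n := Nat.card_pos
    rw [show 21 * c₇ = Nat.card (Subgroup.normalizer (Z' : Set N)) * n by rw [hfr]; ring,
      Nat.mul_div_cancel _ hn0]
    exact hdvd

end Cfsg.Agent.Invol.M23Ord
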