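import Mathlib
import Cfsg.Agent.Lib.Invol.Order10200960.SeventySeven
import Cfsg.Agent.Lib.Invol.Order10200960.CountBound
import Cfsg.Agent.Lib.Invol.Order10200960.FixedSpace

/-!
Simple groups of order 10200960: the elements of order eleven generate their centralizers, the automizer has
order five, and every degree is 0, ±1 or ±5 modulo eleven.
-/

set_option autoImplicit false
set_option linter.style.haveILetI false
set_option linter.unusedSectionVars false

namespace Cfsg.Agent.Invol.M23Ord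

open scoped ComplexConjugate
open Cfsg Cfsg.Agent.Block Cfsg.Agent.Char Cfsg.Agent.Invol.M12Ord
open Cfsg.Agent.Invol.M22Ord (PBlk exists_pblk exists_gen qfold qsq)

universe u

variable {G : Type u} [Group G] [Finite G] [IsSimpleGroup G] [Fact (Nat.Prime 11)]

theorem no_seventy_seven {M c₇ n : ℕ} (hM : M ∈ [1386, 3080, 9856]) (hc : c₇ ∈ [44, 352, 660, 5280])
    (hn : n ∣ c₇ / 11) (h1 : n % 11 = 1) (hd : 21 * c₇ / n ∣ M) : False := by
  have key : ∀ M' ∈ [1386, 3080, 9856], ∀ c' ∈ [44, 352, 660, 5280],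
      ((List.range 481).all fun k => !(Nat.beq ((c' / 11) % k) 0 && Nat.beq (k % 11) 1) ||
        !Nat.beq (M' % (21 * c' / k)) 0) = true := by decide +kernel
  have hc' : 0 < c₇ / 11 ∧ c₇ / 11 ≤ 480 := by
    simp only [List.mem_cons, List.not_mem_nil, or_false] at hc
    rcases hc with rfl | rfl | rfl | rfl <;> norm_num
  have hle := Nat.le_of_dvd hc'.1 hn
  have h := List.all_eq_true.1 (key M hM c₇ hc) n (List.mem_range.2 (by omega))
  simp [Nat.mod_eq_zero_of_dvd hn, h1, Nat.mod_eq_zero_of_dvd hd] at h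

/-- The bound on a value at a power of a product of elements of orders eleven and `m`. -/
theorem sum_bound : ∀ m : ℕ,
    ∑ i ∈ Finset.range (11 * m), (if 11 ∣ i then (23 : ℝ) else 1) = 33 * m
  | 0 => by simp
  | m + 1 => by
    rw [Nat.mul_succ, Finset.sum_range_add, sum_bound m]
    have hr : ∀ j : ℕ, (11 ∣ 11 * m + j) ↔ 11 ∣ j := fun j => Nat.dvd_add_right (dvd_mul_right _ _)
    simp only [hr]
    simp only [Finset.sum_range_succ, Finset.sum_range_zero]
    norm_num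
    ring

/-- The block with a character of degree twenty-three admits no involution centralising the Sylow subgroup. -/
theorem reflection_false (hG : Nat.card G = 10200960) {c : ℕ} (B : PBlk G 11 2) (hC : Nat.card B.C = 11 * c)
    (hpc : ¬ 11 ∣ c) (hrow : B.IsRow ([(23, 1)], 1, 24)) {v : G} (hv : orderOf v = 2) (hvC : v ∈ B.C) : False := by
  classical
  obtain ⟨hX, hε, hy⟩ := hrow
  obtain ⟨χ, hχ⟩ := Finset.card_eq_one.1 (show B.X.card = 1 by have := B.card_X; omega)
  have h1 : ((dg χ : ℤ), B.s χ) = ((23 : ℤ), (1 : ℤ)) := by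
    have h : ((dg χ : ℤ), B.s χ) ∈ (([(23, 1)] : List (ℤ × ℤ)) : Multiset (ℤ × ℤ)) := by
      rw [hX, hχ]; simp
    simpa using h
  rw [Prod.mk.injEq] at h1
  obtain ⟨hdg, hs⟩ := h1
  have hd : dg χ = 23 := by exact_mod_cast hdg
  have hyd : dg B.y = 24 := by
    have h : (24 : ℤ) = (dg B.y : ℤ) := hy
    exact_mod_cast h.symm
  have hr : ¬ 11 ∣ orderOf v := by rw [hv]; norm_num
  obtain ⟨a, ha, -, hbd⟩ := M23Ord.inv_value hG hv
  have hmem : χ ∈ B.X := by rw [hχ]; exact Finset.mem_singleton_self _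
  have hne : χ ≠ trivialIrr G := fun h => B.triv_X (h ▸ hmem)
  have hax : a χ = -21 := by
    have h1 := B.congr_X hmem hvC hr (ha χ)
    obtain ⟨h4, hlo, hhi⟩ := hbd χ hne
    rw [hs] at h1
    rw [hd] at h4 hlo hhi
    omega
  have hay : a B.y = -20 := by
    have h := B.rel B.y B.y_mem v hr
    rw [hχ, Finset.sum_singleton, ha, ha, hax, hs, show B.ε = 1 from hε.symm] at h
    apply Int.cast_injective (α := ℂ)
    push_cast at h ⊢
    linear_combination h
  obtain ⟨K, hK, -, hex⟩ := B.count_bound hv hr ha hC hpc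
  have hQ : B.Q a a ≠ 0 := by
    rw [PBlk.Q, hχ, Finset.sum_singleton, hax, hay, hs, show B.ε = 1 from hε.symm, hd, hyd]
    norm_num
  have hKne : K ≠ 0 := by
    rintro rfl
    rw [Nat.cast_zero, zero_mul, zero_mul, mul_eq_zero, mul_eq_zero] at hK
    rcases hK with (h | h) | h
    · exact absurd h (Nat.cast_ne_zero.2 Nat.card_pos.ne')
    · rw [Nat.cast_eq_zero, B.card_W hC hpc, mul_eq_zero] at h
      rcases h with h | h
      · norm_num at h
      · exact hpc (h ▸ dvd_zero 11)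
    · exact hQ h
  obtain ⟨z, hz, x, y, hx, hy', hxy⟩ := hex hKne
  obtain ⟨u, w, hu, hu1, hw, hwr, rfl⟩ := B.mem_W.1 hz
  have hval : ∀ t : G, IsConj v t → orderOf t = 2 ∧ (χ : G → ℂ) t = -21 := fun t ht => by
    obtain ⟨k, hk⟩ := isConj_iff.1 ht
    refine ⟨?_, ?_⟩
    · rw [← hk, ← MulAut.conj_apply]; exact (MulEquiv.orderOf_eq _ _).trans hv
    · rw [← IsClass.eq_of_isConj (IsIrr.classFun χ.2) ht, ha, hax]; norm_num
  obtain ⟨hx2, hxv⟩ := hval x hx
  obtain ⟨hy2, hyv⟩ := hval y hy'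
  obtain ⟨n, hn, hsum⟩ := M23Ord.product_fix hd hx2 hy2 hxv hyv
  rw [hxy] at hsum
  have ho : orderOf (u * w) = 11 * orderOf w := by
    rw [(B.comm hu hw).orderOf_mul_eq_mul_orderOf_of_coprime
      (by rw [B.orderOf_u hu hu1]; exact ((by norm_num : Nat.Prime 11).coprime_iff_not_dvd).2 hwr),
      B.orderOf_u hu hu1]
  have hb : ∀ i ∈ Finset.range (orderOf (u * w)),
      ‖(χ : G → ℂ) ((u * w) ^ i)‖ ≤ if 11 ∣ i then (23 : ℝ) else 1 := by
    intro i _
    split_ifs with h11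
    · have h := OrdP.norm_value_le χ ((u * w) ^ i)
      rw [show charDegree (χ : G → ℂ) = 23 from hd] at h
      exact_mod_cast h
    · rw [(B.comm hu hw).mul_pow, B.valX χ hmem _ (pow_mem hu i) ?_ _ (pow_mem hw i) ?_, hs]
      · simp
      · intro h
        have := orderOf_dvd_of_pow_eq_one h
        rw [B.orderOf_u hu hu1] at this
        exact h11 this
      · exact fun h => hwr (h.trans (orderOf_pow_dvd i))
  have hle : ‖∑ i ∈ Finset.range (orderOf (u * w)), (χ : G → ℂ) ((u * w) ^ i)‖ ≤ 33 * (orderOf w : ℝ) := by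
    refine le_trans (norm_sum_le _ _) (le_trans (Finset.sum_le_sum hb) (le_of_eq ?_))
    rw [ho, sum_bound]
  rw [hsum, ho, ← Nat.cast_mul, Complex.norm_natCast] at hle
  have h1 : (11 * orderOf w * n : ℕ) ≤ 33 * orderOf w := by exact_mod_cast hle
  have h2 : 11 * orderOf w * 21 ≤ 11 * orderOf w * n := Nat.mul_le_mul_left _ hn
  have := orderOf_pos w
  omega

variable [Fact (Nat.Prime 23)] [Fact (Nat.Prime 7)]

/-- Elements of order eleven generate their centralizers, and the automizer has order five. -/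
theorem exists_el (hG : Nat.card G = 10200960) (A : Blk23 G) :
    ∃ B : PBlk G 11 5, Nat.card B.C = 11 := by
  classical
  haveI : Fact (Nat.Prime 2) := ⟨Nat.prime_two⟩
  have hna := M23Ord.not_comm hG
  obtain ⟨P⟩ : Nonempty (Sylow 11 G) := inferInstance
  obtain ⟨e, c, hL, hP, hcm, he, hC⟩ := optTestTo_sound hna (K := 963) (p := 11) (m := 927360)
    (by rw [hG]) (by norm_num) (by norm_num) (by norm_num) (by norm_num)
    [(5, 1), (10, 6), (2, 8), (5, 12), (5, 23), (10, 28), (2, 30), (5, 56), (2, 63), (10, 72), (2, 96), (10, 138),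
      (2, 140), (5, 144), (2, 184), (5, 276), (10, 336), (2, 360), (2, 448), (10, 644), (5, 672), (2, 690), (5, 1288),
      (2, 1449), (10, 1656), (2, 1680), (2, 2208), (2, 3220), (5, 3312), (10, 4032), (10, 7728), (5, 8064), (2, 8280),
      (2, 10304), (5, 15456), (2, 20160), (2, 38640)] (by decide +kernel) P
  obtain ⟨he', hkey⟩ : (e = 2 ∨ e = 5 ∨ e = 10) ∧ ((e, c) = (5, 1) ∨ 23 ∣ c ∨ (c ≠ 1 ∧ ((e = 10 ∧ 3 ∣ c) ∨
      (e, c) ∈ [(10, 28), (5, 56), (2, 63), (2, 448)] ∨ (e = 5 ∧ 3 ∣ c ∧ 2 ∣ c) ∨ (e = 2 ∧ (3 ∣ c ∨ 5 ∣ c) ∧ 2 ∣ c) ∨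
      (e, c) = (2, 8)))) := by
    refine (?_ : ∀ q ∈ ([(5, 1), (10, 6), (2, 8), (5, 12), (5, 23), (10, 28), (2, 30), (5, 56), (2, 63), (10, 72),
      (2, 96), (10, 138), (2, 140), (5, 144), (2, 184), (5, 276), (10, 336), (2, 360), (2, 448), (10, 644), (5, 672),
      (2, 690), (5, 1288), (2, 1449), (10, 1656), (2, 1680), (2, 2208), (2, 3220), (5, 3312), (10, 4032), (10, 7728),
      (5, 8064), (2, 8280), (2, 10304), (5, 15456), (2, 20160), (2, 38640)] : List (ℕ × ℕ)),
        (q.1 = 2 ∨ q.1 = 5 ∨ q.1 = 10) ∧ (q = (5, 1) ∨ 23 ∣ q.2 ∨ (q.2 ≠ 1 ∧ ((q.1 = 10 ∧ 3 ∣ q.2) ∨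
          q ∈ [(10, 28), (5, 56), (2, 63), (2, 448)] ∨ (q.1 = 5 ∧ 3 ∣ q.2 ∧ 2 ∣ q.2) ∨
          (q.1 = 2 ∧ (3 ∣ q.2 ∨ 5 ∣ q.2) ∧ 2 ∣ q.2) ∨ q = (2, 8))))) (e, c) hL
    decide +kernel
  obtain ⟨B, hB, hmax⟩ := exists_pblk hna (by norm_num) P hP he (by omega)
    (by rcases he' with rfl | rfl | rfl <;> norm_num)
  have hBC : Nat.card B.C = 11 * c := by rw [← hC, PBlk.C, hB]
  rcases hkey with h | h | ⟨hc1, h⟩
  · rw [Prod.mk.injEq] at h
    obtain ⟨rfl, rfl⟩ := h
    exact ⟨B, hBC⟩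
  · exact absurd h (A.not_dvd_C B (by norm_num) hBC)
  exfalso
  have hpc : ¬ 11 ∣ c := fun h => by have := h.trans hcm; norm_num at this
  have hbig : true = true → ∀ χ ∈ B.X, (dg χ % 11 = 1 ∧ 2 * 11 + 1 ≤ dg χ) ∨
      (dg χ % 11 = 11 - 1 ∧ 3 * 11 - 1 ≤ dg χ) :=
    fun _ χ hχ => B.big_X23 hG (m := 927360) (by norm_num) (by norm_num) hcm hBC hc1 hχ
  have hpre : ∀ qs : List ℕ, (∀ q ∈ qs, (q = 3 ∨ q = 5 ∨ q = 7 ∨ q = 11 ∨ q = 23) ∧ q ≠ 11 ∧ q ∣ c) →
      ∀ χ : IrrCharacter G, χ ∈ B.X ∨ χ = B.y → okEl qs (dg χ) = true := fun qs hqs χ hχ => by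
    have hne : χ ≠ trivialIrr G := by
      rcases hχ with hh | rfl
      · exact fun e0 => B.triv_X (e0 ▸ hh)
      · exact B.y_ne
    simp only [okEl, A.ok23_deg hG hne, Bool.true_and]
    exact B.okDiv_of hG hBC qs hqs hχ
  have hqs3 : 3 ∣ c → ∀ q ∈ [3], (q = 3 ∨ q = 5 ∨ q = 7 ∨ q = 11 ∨ q = 23) ∧ q ≠ 11 ∧ q ∣ c := fun h3 q hq => by
    rw [List.mem_singleton] at hq; subst hq; exact ⟨Or.inl rfl, by norm_num, h3⟩
  rcases h with ⟨rfl, h3⟩ | h | ⟨rfl, h3, h2⟩ | ⟨rfl, h35, h2⟩ | h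
  · obtain ⟨r, hr, -⟩ := B.exists_row23 hG (by norm_num) true (okEl [3]) hbig (hpre _ (hqs3 h3)) hmax
    rw [rows_el_ten_three] at hr
    exact List.not_mem_nil hr
  · simp only [List.mem_cons, List.not_mem_nil, or_false, Prod.mk.injEq] at h
    obtain ⟨c₇, n, h1, h2, h3, h4⟩ := seventy_seven hG A B hBC (by omega)
    refine no_seventy_seven ?_ h1 h2 h3 h4
    rcases h with ⟨rfl, rfl⟩ | ⟨rfl, rfl⟩ | ⟨rfl, rfl⟩ | ⟨rfl, rfl⟩ <;> simp
  · obtain ⟨v, hv, hvC⟩ := B.exists_elem (q := 2) hBC h2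
    obtain ⟨a, ha, -, -⟩ := M23Ord.inv_value hG hv
    obtain ⟨r, hr, hrow⟩ := B.exists_row23 hG (by norm_num) true (okEl [3]) hbig (hpre _ (hqs3 h3)) hmax
    obtain ⟨l, hl, -, -, -, -, hq⟩ := B.exists_vals23 hG (by norm_num) hv rfl ha hrow true fun _ => hvC
    rw [B.Q_zero (by norm_num) (by norm_num) hv hv ha ha hBC hpc, mul_zero, Int.cast_eq_zero] at hq
    have := List.all_eq_true.1 (List.all_eq_true.1 (List.all_eq_true.1 checkElThree_true r hr) _
      (B.mem_invOrds hG (by norm_num) hv hvC)) l hl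
    simp [hq] at this
  · obtain ⟨v, hv, hvC⟩ := B.exists_elem (q := 2) hBC h2
    rcases h35 with h3 | h5
    · obtain ⟨r, hr, hrow⟩ := B.exists_row23 hG (by norm_num) true (okEl [3]) hbig (hpre _ (hqs3 h3)) hmax
      rw [rows_el_two_three, List.mem_singleton] at hr
      exact reflection_false hG B hBC hpc (hr ▸ hrow) hv hvC
    · obtain ⟨r, hr, hrow⟩ := B.exists_row23 hG (by norm_num) true (okEl [5]) hbig (hpre _ fun q hq => by
        rw [List.mem_singleton] at hq; subst hq; exact ⟨by norm_num, by norm_num, h5⟩) hmax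
      rw [rows_el_two_five, List.mem_singleton] at hr
      exact reflection_false hG B hBC hpc (hr ▸ hrow) hv hvC
  · rw [Prod.mk.injEq] at h
    obtain ⟨rfl, rfl⟩ := h
    obtain ⟨v, hv, hvC, hcen⟩ := B.exists_central_two (k := 3) (by norm_num) (by norm_num) (by simpa using hBC)
    obtain ⟨r, hr, hrow⟩ := B.exists_row23 hG (by norm_num) true (okEl []) hbig (hpre _ (by simp)) hmax
    rw [rows_el_two, List.mem_cons, List.mem_singleton] at hr
    rcases hr with rfl | rfl
    swap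
    · exact reflection_false hG B hBC hpc hrow hv hvC
    obtain ⟨a, ha, -, hbd⟩ := M23Ord.inv_value hG hv
    obtain ⟨hX, hε, hy⟩ := hrow
    obtain ⟨χ, hχ⟩ := Finset.card_eq_one.1 (show B.X.card = 1 by have := B.card_X; omega)
    have h1 : ((dg χ : ℤ), B.s χ) = ((45 : ℤ), (1 : ℤ)) := by
      have h : ((dg χ : ℤ), B.s χ) ∈ (([(45, 1)] : List (ℤ × ℤ)) : Multiset (ℤ × ℤ)) := by
        rw [hX, hχ]; simp
      simpa using h
    rw [Prod.mk.injEq] at h1
    obtain ⟨hdg, hs⟩ := h1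
    have hd : dg χ = 45 := by exact_mod_cast hdg
    have hyd : dg B.y = 46 := by
      have h : (46 : ℤ) = (dg B.y : ℤ) := hy
      exact_mod_cast h.symm
    have hr2 : ¬ 11 ∣ orderOf v := by rw [hv]; norm_num
    obtain ⟨K, hK, hKle, -⟩ := B.count_bound hv hr2 ha hBC hpc
    obtain ⟨m, n, h1, h2', -, h4, h5, h6, h7⟩ := B.local_card hBC hpc hvC hr2 (ne_one_of_orderOf hv (by norm_num))
    have h88 := h7 hcen
    -- the centralizer of `v` in the normalizer has order 88 or 176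
    have hm : m = 88 ∨ m = 176 := by
      obtain ⟨j, hj⟩ := h88
      subst hj
      have hj2 : j ∣ 2 := Nat.dvd_of_mul_dvd_mul_left (by norm_num : 0 < 88) (by simpa using h4)
      rcases (Nat.dvd_prime Nat.prime_two).1 hj2 with rfl | rfl <;> norm_num
    have hmem : χ ∈ B.X := by rw [hχ]; exact Finset.mem_singleton_self _
    have hne : χ ≠ trivialIrr G := fun h => B.triv_X (h ▸ hmem)
    have hax : a χ = 1 ∨ a χ = -43 := by
      have h1 := B.congr_X hmem hvC hr2 (ha χ)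
      obtain ⟨q4, hlo, hhi⟩ := hbd χ hne
      rw [hs] at h1
      rw [hd] at q4 hlo hhi
      omega
    have hay : a B.y = 1 + a χ := by
      have h := B.rel B.y B.y_mem v hr2
      rw [hχ, Finset.sum_singleton, ha, ha, hs, show B.ε = 1 from hε.symm] at h
      apply Int.cast_injective (α := ℂ)
      push_cast at h ⊢
      linear_combination h
    rw [B.card_W hBC hpc, PBlk.Q, hχ, Finset.sum_singleton, hay, hs, show B.ε = 1 from hε.symm, hd, hyd, hG] at hK
    have hcn : cn v ∣ 10200960 := hG ▸ cn_dvd_card v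
    have hK' : (K : ℤ) * ((cn v : ℤ) * (cn v : ℤ)) * 2070 =
        10200960 * 80 * (2070 + 46 * (a χ * a χ) - 45 * ((1 + a χ) * (1 + a χ))) := by
      apply Int.cast_injective (α := ℂ)
      push_cast at hK ⊢
      linear_combination -(2070 : ℂ) * hK
    rw [B.card_W hBC hpc] at hKle
    have hidx : 88 ∣ cn v := h1 ▸ dvd_mul_of_dvd_left (by rcases hm with rfl | rfl <;> norm_num) _
    obtain ⟨b, hb⟩ := hidx
    have hval := B.congr_X hmem hvC hr2 (ha χ)
    have hokv := okv_iff.1 (M23Ord.okv_of hG hv rfl hne (ha χ))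
    rw [hd] at hokv
    have hbd2 : b ∣ 115920 := by
      rw [hb] at hcn; exact Nat.dvd_of_mul_dvd_mul_left (by norm_num : 0 < 88) (by simpa using hcn)
    have hble : b ≤ 5040 := by
      have := M23Ord.cn_le hG (ne_one_of_orderOf hv (by norm_num))
      omega
    have key : ((List.range 5041).all fun k => !Nat.beq (115920 % k) 0 || [(1 : ℤ), -43].all fun x : ℤ =>
        let R : ℤ := 10200960 * 80 * (2070 + 46 * (x * x) - 45 * ((1 + x) * (1 + x)))
        let D : ℤ := ((88 * k : ℕ) : ℤ) * ((88 * k : ℕ) : ℤ) * 2070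
        decide (R % D ≠ 0) || decide (14080 < R / D) ||
          [88, 176].all fun m : ℕ => !(Nat.beq (88 * k % m) 0 && Nat.beq (88 * k / m % 11) 1)) = true := by
      decide +kernel
    have hk := List.all_eq_true.1 key b (List.mem_range.2 (by omega))
    rw [Nat.mod_eq_zero_of_dvd hbd2] at hk
    simp only [Nat.beq_refl, Bool.not_true, Bool.false_or] at hk
    have hk2 := List.all_eq_true.1 hk (a χ) (by rcases hax with h | h <;> simp [h])
    rw [← hb, ← hK', mul_assoc] at hk2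
    have hD : ((cn v : ℤ) * (cn v : ℤ) * 2070) ≠ 0 := by
      have := cn_pos v; positivity
    simp only [Bool.or_eq_true, decide_eq_true_eq, Int.mul_emod_left, ne_eq, not_true_eq_false, false_or,
      Int.mul_ediv_cancel _ hD] at hk2
    rcases hk2 with h | h
    · omega
    · have := List.all_eq_true.1 h m (by rcases hm with rfl | rfl <;> simp)
      rw [h1, Nat.mul_mod_right, Nat.mul_div_cancel_left _ (by omega : 0 < m), h2'] at this
      simp at this

/-- The degree congruences forced at eleven. -/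
def ok11 (d : ℕ) : Bool :=
  Nat.beq (d % 11) 0 || Nat.beq (d % 11) 1 || Nat.beq (d % 11) 10 || Nat.beq (d % 11) 5 || Nat.beq (d % 11) 6

/-- The degree congruences forced at twenty-three and eleven. -/
def okBoth (d : ℕ) : Bool := ok23 d && ok11 d

/-- The principal block at eleven with a self-centralising Sylow subgroup. -/
abbrev Blk11 (G : Type u) [Group G] [Finite G] : Type u := { B : PBlk G 11 5 // Nat.card B.C = 11 }

theorem Blk11.ok11_deg (E : Blk11 G) {χ : IrrCharacter G} (h0 : χ ≠ trivialIrr G) : ok11 (dg χ) = true := by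
  simp only [ok11, Bool.or_eq_true, Nat.beq_eq]
  by_cases hX : χ ∈ E.1.X
  · have hd := E.1.deg_X χ hX
    rcases E.1.s_sign χ hX with hs | hs <;> rw [hs] at hd <;> omega
  by_cases hY : χ ∈ E.1.Y
  · have hd := E.1.deg_Y χ hY
    rcases E.1.ε_sign with hs | hs <;> rw [hs] at hd <;> omega
  have := E.1.out E.2 χ h0 hX hY
  omega

theorem okBoth_deg (hG : Nat.card G = 10200960) (A : Blk23 G) (E : Blk11 G) {χ : IrrCharacter G}
    (h0 : χ ≠ trivialIrr G) : okBoth (dg χ) = true := by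
  simp only [okBoth, A.ok23_deg hG h0, E.ok11_deg h0, Bool.and_self]

end Cfsg.Agent.Invol.M23Ord
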