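import Mathlib
import Cfsg.Agent.Lib.Invol.Order443520.Enum

/-!
Enumeration of values on a multiset of keys, one multiset of values for each key.
-/

set_option autoImplicit false

namespace Cfsg.Agent.Invol.M23Ord

open Cfsg.Agent.Invol.M22Ord (msets exists_msets)

variable {α β : Type*}

/-- The keys repeated as many times as asked. -/
def expand : List (α × ℕ) → List α
  | [] => []
  | (x, m) :: g => List.replicate m x ++ expand g

/-- The ways to attach a multiset of values to each key, with total weight at most a bound. -/
def gvals (w : β → ℕ) (cand : α → List β) : List (α × ℕ) → ℕ → List (List (α × β))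
  | [], _ => [[]]
  | (x, m) :: g, B => (msets w (cand x) m B).flatMap fun t =>
      (gvals w cand g (B - (t.map w).sum)).map fun l => t.map (fun b => (x, b)) ++ l

theorem mem_expand {g : List (α × ℕ)} {x : α} (h : x ∈ expand g) : x ∈ g.map Prod.fst := by
  induction g with
  | nil => exact h
  | cons a g ih =>
    obtain ⟨a, m⟩ := a
    simp only [expand, List.mem_append] at h
    rcases h with h | h
    · simp [List.eq_of_mem_replicate h]
    · simp only [List.map_cons, List.mem_cons]
      exact Or.inr (ih h)

theorem exists_gvals [DecidableEq α] [DecidableEq β] (w : β → ℕ) (cand : α → List β) :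
    ∀ (g : List (α × ℕ)) (B : ℕ) (m : Multiset (α × β)), (g.map Prod.fst).Nodup →
      m.map Prod.fst = (expand g : Multiset α) → (∀ x ∈ m, x.2 ∈ cand x.1) → (m.map fun x => w x.2).sum ≤ B →
      ∃ l ∈ gvals w cand g B, (l : Multiset (α × β)) = m
  | [], B, m, _, hk, _, _ => by
    refine ⟨[], List.mem_singleton_self _, ?_⟩
    simp only [expand, Multiset.coe_nil] at hk
    simp [Multiset.map_eq_zero.1 hk]
  | (x, k) :: g, B, m, hnd, hk, hc, hB => by
    simp only [List.map_cons, List.nodup_cons] at hnd
    set m1 := m.filter fun a => a.1 = x with hm1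
    set m2 := m.filter fun a => ¬ a.1 = x with hm2
    have hsplit : m1 + m2 = m := Multiset.filter_add_not _ _
    have hk1 : m1.map Prod.fst = Multiset.replicate k x := by
      have h := congrArg (Multiset.filter (· = x)) hk
      rw [Multiset.filter_map, expand, ← Multiset.coe_add, Multiset.filter_add, Multiset.coe_replicate,
        Multiset.filter_eq_self.2 fun a ha => Multiset.eq_of_mem_replicate ha,
        Multiset.filter_eq_nil.2 fun (a : α) ha (e : a = x) => hnd.1 (e ▸ mem_expand (Multiset.mem_coe.1 ha)),
        add_zero] at h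
      exact h
    have hk2 : m2.map Prod.fst = (expand g : Multiset α) := by
      rw [← hsplit, Multiset.map_add, hk1, expand, ← Multiset.coe_add, Multiset.coe_replicate] at hk
      exact add_left_cancel hk
    have hcard : Multiset.card (m1.map Prod.snd) = k := by
      have := congrArg Multiset.card hk1
      rwa [Multiset.card_map, Multiset.card_replicate, ← Multiset.card_map Prod.snd] at this
    have hsum : (m.map fun a => w a.2).sum = (m1.map fun a => w a.2).sum + (m2.map fun a => w a.2).sum := by
      rw [← hsplit, Multiset.map_add, Multiset.sum_add]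
    have hw1 : ((m1.map Prod.snd).map w).sum = (m1.map fun a => w a.2).sum := by
      rw [Multiset.map_map]; rfl
    obtain ⟨t, ht, htm⟩ := exists_msets w (cand x) (m1.map Prod.snd) B (fun b hb => by
      obtain ⟨a, ha, rfl⟩ := Multiset.mem_map.1 hb
      obtain ⟨ha1, ha2⟩ := Multiset.mem_filter.1 ha
      exact ha2 ▸ hc a ha1) (by rw [hw1]; omega)
    rw [hcard] at ht
    have htw : (t.map w).sum = (m1.map fun a => w a.2).sum := by
      rw [← hw1, ← htm]; simp
    obtain ⟨l, hl, hlm⟩ := exists_gvals w cand g (B - (t.map w).sum) m2 hnd.2 hk2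
      (fun a ha => hc a (Multiset.mem_filter.1 ha).1) (by omega)
    refine ⟨t.map (fun b => (x, b)) ++ l, List.mem_flatMap.2 ⟨t, ht, List.mem_map.2 ⟨l, hl, rfl⟩⟩, ?_⟩
    rw [← Multiset.coe_add, hlm, ← Multiset.map_coe, htm, Multiset.map_map]
    conv_rhs => rw [← hsplit]
    congr 1
    conv_rhs => rw [← Multiset.map_id m1]
    refine Multiset.map_congr rfl fun a ha => ?_
    show (x, a.2) = a
    rw [← (Multiset.mem_filter.1 ha).2]

end Cfsg.Agent.Invol.M23Ord
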