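import Mathlib
import Cfsg.Agent.Lib.Invol.Order10200960.CheckEleven
import Cfsg.Agent.Lib.Invol.Order10200960.Eleven
import Cfsg.Agent.Lib.Invol.Order10200960.GroupValues

/-!
Order 10200960: the exhaustive checks on the degrees and on the values at an involution, from the principal
blocks at twenty-three, eleven and five.
-/

set_option autoImplicit false

namespace Cfsg.Agent.Invol.M23Ord

open Cfsg.Agent.Invol.M22Ord (Row qfold qsq subl wval aY normOf blockChars)

/-- The degrees in a block described by a row, with `t` exceptional characters. -/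
def rowDegs (t : ℕ) (r : Row) : List ℤ := r.1.map Prod.fst ++ List.replicate t r.2.2

/-- The degrees prime to eleven. -/
def primeEl (l : List ℤ) : List ℤ := l.filter fun d => decide (¬ d.natAbs % 11 = 0)

/-- The possible orders of the centralizer of an involution. -/
def evenOrds : List ℕ := ((List.range 20161).filter fun j => Nat.beq (20160 % j) 0).map fun j => 2 * j

/-- The principal block at eleven. -/
def rowE : Row := ([(1035, 1), (230, -1), (45, 1), (45, 1)], 1, 896)

/-- The other candidate at eleven. -/
def rowE' : Row := ([(1288, 1), (483, -1), (45, 1), (45, 1)], 1, 896)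

/-- The principal block at five. -/
def rowF : Row := ([(896, 1), (896, 1), (231, 1)], 1, 2024)

theorem rows_five_two : rows 5 2 false okBoth = [] := by decide +kernel

/-- The blocks at eleven and five whose degrees are compatible. -/
theorem five_eleven : ∀ a ∈ rows 11 5 false okBoth, ∀ b ∈ rows 5 4 false okBoth,
    subl (primeEl (rowDegs 1 b)) (rowDegs 2 a) = true → (a = rowE ∨ a = rowE') ∧ b = rowF := by decide +kernel

/-- The signed degrees allowed at twenty-three by the block at eleven. -/
def selTT (x : ℤ × ℤ) : Bool := x.1 % 11 == 0 || x.1 == 45 || x.1 == 896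

/-- The characters outside the block at eleven that a row at twenty-three adds. -/
def freeDegs (r : Row) : List ℤ := (rowDegs 2 r).filter fun d => decide (d.natAbs % 11 = 0)

/-- The condition on the degrees of the block at twenty-three. -/
def fitTT (r : Row) : Bool :=
  subl [45, 45, 896, 896, 231] (rowDegs 2 r) && subl (primeEl (rowDegs 2 r)) [45, 45, 896, 896] &&
    decide (1 + (((rowDegs 2 rowE) ++ freeDegs r ++ [2024]).map fun x : ℤ => x * x).sum ≤ (10200960 : ℤ))

/-- The block at twenty-three. -/
def rowA : Row :=
  ([(990, 1), (990, 1), (896, -1), (896, -1), (231, 1), (231, 1), (231, 1), (45, -1), (45, -1), (22, -1)], 1, 770)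

/-- The candidates for the block at twenty-three. -/
def rowsA : List Row := [
  ([(990, 1), (990, 1), (896, -1), (896, -1), (528, -1), (528, -1), (231, 1), (231, 1), (45, -1), (45, -1)], -1, 495),
  ([(990, 1), (990, 1), (896, -1), (896, -1), (528, -1), (231, 1), (231, 1), (231, 1), (45, -1), (45, -1)], 1, 264),
  ([(990, 1), (896, -1), (896, -1), (528, -1), (231, 1), (231, 1), (231, 1), (231, 1), (45, -1), (45, -1)], -1, 495),
  ([(990, 1), (896, -1), (896, -1), (231, 1), (231, 1), (231, 1), (231, 1), (231, 1), (45, -1), (45, -1)], 1, 264),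
  ([(896, -1), (896, -1), (231, 1), (231, 1), (231, 1), (231, 1), (231, 1), (231, 1), (45, -1), (45, -1)], -1, 495),
  rowA,
  ([(990, 1), (990, 1), (896, -1), (896, -1), (231, 1), (45, -1), (45, -1), (22, -1), (22, -1), (22, -1)], 1, 264),
  ([(990, 1), (896, -1), (896, -1), (231, 1), (231, 1), (45, -1), (45, -1), (22, -1), (22, -1), (22, -1)], -1, 495)]

theorem rowsA_eq : (rowsSel 23 11 false okBoth selTT).filter fitTT = rowsA := by decide +kernel

/-- The part of a row at twenty-three outside the block at eleven, with multiplicities. -/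
def freeGroups (r : Row) : List ((ℤ × ℤ) × ℕ) :=
  ([(990, 1), (528, -1), (231, 1), (22, -1)] : List (ℤ × ℤ)).filterMap fun x =>
    if 0 < r.1.count x then some (x, r.1.count x) else none

theorem freeGroups_ok : ∀ r ∈ rowsA,
    ((freeGroups r).map Prod.fst).Nodup ∧
      (expand (freeGroups r)).Perm (r.1.filter fun x => decide (x.1.natAbs % 11 = 0)) := by decide +kernel

/-- The possible values in the block at eleven at an involution. -/
def valsE : List (ℕ × List ((ℤ × ℤ) × ℤ)) :=
  [(896, [((1035, 1), 19), ((230, -1), 22), ((45, 1), -3), ((45, 1), 5)]),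
   (896, [((1035, 1), 19), ((230, -1), 22), ((45, 1), 5), ((45, 1), -3)]),
   (1344, [((1035, 1), 27), ((230, -1), 22), ((45, 1), -3), ((45, 1), -3)]),
   (2688, [((1035, 1), 27), ((230, -1), 22), ((45, 1), -3), ((45, 1), -3)])]

theorem valsE_eq : (evenOrds.flatMap fun h =>
    ((blockVals 11 5 h false rowE).filter fun l => decide ((qfold (qsq rowE l)).1 = 0)).map fun l => (h, l)) =
      valsE := by decide +kernel

theorem valsE'_eq : (evenOrds.all fun h =>
    ((blockVals 11 5 h false rowE').filter fun l => decide ((qfold (qsq rowE' l)).1 = 0)).isEmpty) = true := by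
  decide +kernel

/-- The values in the block at twenty-three of the characters in the block at eleven. -/
def seedVals (l : List ((ℤ × ℤ) × ℤ)) : List ((ℤ × ℤ) × ℤ) :=
  (l.filter fun x => x.1.1 == 45).map (fun x => (((45 : ℤ), (-1 : ℤ)), x.2)) ++
    List.replicate 2 (((896 : ℤ), (-1 : ℤ)), aY rowE l)

/-- The column at an involution outside the block at eleven. -/
def freeA : List ((ℤ × ℤ) × ℤ) :=
  [((990, 1), -18), ((990, 1), -18), ((231, 1), 7), ((231, 1), 7), ((231, 1), 7), ((22, -1), 6)]

/-- The squares of the values known at an involution. -/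
def jointNorm (r : Row) (l f : List ((ℤ × ℤ) × ℤ)) (x : ℤ) : ℤ :=
  let v := aY r (seedVals l ++ f)
  let k := 1 + x + 2 * aY rowE l
  normOf (blockChars 2 rowE l) + (f.map fun z => z.2 * z.2).sum + 2 * (v * v) + k * k

/-- The test on the values in the three blocks at an involution. -/
def jointOK (h : ℕ) (r : Row) (l f : List ((ℤ × ℤ) × ℤ)) : Bool :=
  decide ((qfold (qsq r (seedVals l ++ f))).1 ≠ 0) ||
    f.all fun z => !(z.1.1 == 231) || decide ((h : ℤ) < jointNorm r l f z.2) ||
      (Nat.beq h 2688 && r == rowA && f == freeA)

/-- The values outside the block at eleven. -/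
def freeVals (h : ℕ) (r : Row) (l : List ((ℤ × ℤ) × ℤ)) : List (List ((ℤ × ℤ) × ℤ)) :=
  gvals wval (cand 23 h false) (freeGroups r) (h - (normOf (blockChars 2 rowE l)).toNat)

theorem joint_check : (valsE.all fun q => rowsA.all fun r => (freeVals q.1 r q.2).all fun f => jointOK q.1 r q.2 f) =
    true := by decide +kernel

end Cfsg.Agent.Invol.M23Ord
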