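import Mathlib
import Cfsg.Agent.Lib.Invol.Order10200960.CheckDegrees

/-!
Order 10200960: the bookkeeping between the lists of values of the blocks at an involution.
-/

set_option autoImplicit false

namespace Cfsg.Agent.Invol.M23Ord

open Cfsg.Agent.Invol.M22Ord (Row blockChars aY)

/-- The value lists give the seed of the block at twenty-three. -/
theorem seed_ok : ∀ q ∈ valsE,
    (((blockChars 2 rowE q.2).filter fun x => decide (¬ x.1.natAbs % 23 = 0)).map
      fun x => ((x.1, (-1 : ℤ)), x.2)).Perm (seedVals q.2) := by decide +kernel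

theorem rowsA_facts : ∀ r ∈ rowsA, r.2.2.natAbs % 11 = 0 ∧ r.2.2 ≠ 231 := by decide +kernel

/-- The values in the block at eleven at an involution. -/
def lE : List ((ℤ × ℤ) × ℤ) := [((1035, 1), 27), ((230, -1), 22), ((45, 1), -3), ((45, 1), -3)]

theorem valsE_2688 : ∀ q ∈ valsE, q.1 = 2688 → q.2 = lE := by decide +kernel

/-- The degrees and values of all the characters at an involution. -/
def involCol : List (ℤ × ℤ) :=
  [(1, 1), (1035, 27), (230, 22), (45, -3), (45, -3), (896, 0), (896, 0), (990, -18), (990, -18), (231, 7), (231, 7),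
    (231, 7), (22, 6), (770, -14), (770, -14), (2024, 8), (253, 13)]

/-- The degrees, with multiplicity. -/
def allDegs : List ℤ := involCol.map Prod.fst

theorem involCol_eq : involCol = (1, 1) :: ((blockChars 2 rowE lE ++
    (blockChars 2 rowA (seedVals lE ++ freeA)).filter (fun x => decide (x.1.natAbs % 11 = 0))) ++ [(2024, 8)]) ++
      [(253, 13)] := by decide +kernel

theorem freeA_231 : ∀ z ∈ freeA, z.1.1 = 231 → z.2 = 7 := by decide +kernel

theorem known_sums :
    (((1, 1) :: ((blockChars 2 rowE lE ++ (blockChars 2 rowA (seedVals lE ++ freeA)).filter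
        (fun x => decide (x.1.natAbs % 11 = 0))) ++ [(2024, 8)])).map fun x : ℤ × ℤ => x.1 * x.1).sum = 10136951 ∧
    (((1, 1) :: ((blockChars 2 rowE lE ++ (blockChars 2 rowA (seedVals lE ++ freeA)).filter
        (fun x => decide (x.1.natAbs % 11 = 0))) ++ [(2024, 8)])).map fun x : ℤ × ℤ => x.1 * x.2).sum = -3289 := by
  decide +kernel

end Cfsg.Agent.Invol.M23Ord
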