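import Mathlib
import Cfsg.Agent.Lib.Invol.Order10200960.States

/-!
The lists of degrees and values attached to a principal block described by a row, and the containment of
degrees prime to `q` in a block of self-centralising Sylow subgroup.
-/

set_option autoImplicit false
set_option linter.style.haveILetI false
set_option linter.unusedSectionVars false

namespace Cfsg.Agent.Invol.M22Ord.PBlk

open scoped ComplexConjugate
open Cfsg Cfsg.Agent.Block Cfsg.Agent.Char Cfsg.Agent.Invol.M12Ord
open Cfsg.Agent.Invol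

universe u

variable {G : Type u} [Group G] [Finite G] [IsSimpleGroup G] {p e : ℕ} [Fact p.Prime] (B : PBlk G p e)

/-- The degrees in the block are prime to `p`. -/
theorem ndvd_members {χ : IrrCharacter G} (hχ : χ ∈ B.members) : ¬ p ∣ dg χ := by
  intro hd
  have hp : p.Prime := Fact.out
  have hd' : (p : ℤ) ∣ (dg χ : ℤ) := Int.natCast_dvd_natCast.2 hd
  rcases B.mem_members.1 hχ with h | h
  · have h1 : (p : ℤ) ∣ B.s χ := by simpa using dvd_sub hd' (B.deg_X χ h)
    rcases B.s_sign χ h with hs | hs <;> rw [hs] at h1 <;>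
      · have := Int.le_of_dvd one_pos (by simpa using h1)
        have := hp.two_le
        omega
  · have h1 : (p : ℤ) ∣ B.ε * (e : ℤ) := by simpa using dvd_sub hd' (B.deg_Y χ h)
    have h2 : p ∣ e := by
      have := h1.mul_left B.ε
      rw [← mul_assoc, B.εε, one_mul] at this
      exact_mod_cast this
    have h3 : p ∣ p - 1 := by
      rw [← B.card_Y]
      exact Dvd.dvd.mul_left h2 _
    have := hp.two_le
    have := Nat.le_of_dvd (by omega) h3
    omega

include B in
/-- A character of degree prime to `p` lies in the block when the Sylow subgroup is self-centralising. -/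
theorem mem_members_of (hC : Nat.card B.C = p) {χ : IrrCharacter G} (h0 : χ ≠ trivialIrr G)
    (hd : ¬ p ∣ dg χ) : χ ∈ B.members := by
  by_contra h
  rw [B.mem_members, not_or] at h
  exact hd (B.out hC χ h0 h.1 h.2)

theorem ne_triv {χ : IrrCharacter G} (hχ : χ ∈ B.members) : χ ≠ trivialIrr G :=
  fun h => B.triv_members (h ▸ hχ)

theorem rowDegs_eq {r : Row} (hr : B.IsRow r) :
    ((r.1.map Prod.fst ++ List.replicate ((p - 1) / e) r.2.2 : List ℤ) : Multiset ℤ) =
      B.members.val.map fun χ => (dg χ : ℤ) := by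
  obtain ⟨hX, -, hy⟩ := hr
  have ht : (p - 1) / e = B.Y.card := by
    rw [← B.card_Y, Nat.mul_div_cancel _ (show 0 < e by have := B.card_X; omega)]
  rw [← Multiset.coe_add, ← Multiset.map_coe, hX, Multiset.map_map, hy, ht, Multiset.coe_replicate,
    members, Finset.disjUnion_val, Multiset.map_add]
  congr 1
  rw [Finset.card_def, ← Multiset.map_const' B.Y.val ((dg B.y : ℤ))]
  exact Multiset.map_congr rfl fun ψ hψ => by rw [B.dg_Y hψ]

variable {g : G} {a : IrrCharacter G → ℤ} (ha : ∀ χ : IrrCharacter G, (χ : G → ℂ) g = a χ) {r : Row}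
  {l : List ((ℤ × ℤ) × ℤ)} (hr : B.IsRow r)
  (hl : (l : Multiset ((ℤ × ℤ) × ℤ)) = B.X.val.map fun χ => (((dg χ : ℤ), B.s χ), a χ))

include ha hr hl in
theorem aY_eq (hg : ¬ p ∣ orderOf g) : aY r l = a B.y := by
  have hrel : B.ε * a B.y = 1 + ∑ χ ∈ B.X, B.s χ * a χ := by
    have h0 := B.rel B.y B.y_mem g hg
    simp only [ha] at h0
    apply Int.cast_injective (α := ℂ)
    push_cast
    exact h0
  have : ((l : Multiset ((ℤ × ℤ) × ℤ)).map fun x => x.1.2 * x.2).sum = (l.map fun x => x.1.2 * x.2).sum := by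
    simp
  rw [aY, ← this, hl, Multiset.map_map, hr.2.1]
  show B.ε * (1 + ∑ χ ∈ B.X, B.s χ * a χ) = a B.y
  rw [← hrel, ← mul_assoc, B.εε, one_mul]

include ha hr hl in
theorem qsq_eq (hg : ¬ p ∣ orderOf g) :
    0 < (qfold (qsq r l)).2 ∧ ((qfold (qsq r l)).1 : ℂ) = ((qfold (qsq r l)).2 : ℂ) * B.Q a a := by
  refine B.Q_eq_qfold a a (qsq r l) ?_
  rw [qsq, hr.2.2, B.aY_eq ha hr hl hg, hr.2.1, ← Multiset.cons_coe, ← Multiset.map_coe, hl, Multiset.map_map]
  rfl

end Cfsg.Agent.Invol.M22Ord.PBlk
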