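import Mathlib
import Cfsg.Agent.Lib.Invol.Order10200960.CheckDegrees
import Cfsg.Agent.Lib.Invol.Order10200960.BlockLists

/-!
Simple groups of order 10200960: the candidates for the principal blocks at twenty-three, eleven and five.
-/

set_option autoImplicit false
set_option linter.style.haveILetI false
set_option linter.unusedSectionVars false

namespace Cfsg.Agent.Invol.M23Ord

open scoped ComplexConjugate
open Cfsg Cfsg.Agent.Block Cfsg.Agent.Char Cfsg.Agent.Invol.M12Ord
open Cfsg.Agent.Invol.M22Ord (PBlk exists_pblk exists_gen qfold qsq subl subl_of_le)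

universe u

variable {G : Type u} [Group G] [Finite G] [IsSimpleGroup G]

/-- A list given as the image of a set of characters with a condition on the degree. -/
theorem filter_map_eq {α : Type*} {S : Finset (IrrCharacter G)} {f : IrrCharacter G → α} {m : List α}
    (hm : (m : Multiset α) = S.val.map f) (P : α → Prop) [DecidablePred P] (Q : IrrCharacter G → Prop)
    [DecidablePred Q] (h : ∀ χ ∈ S, (P (f χ) ↔ Q χ)) :
    ((m.filter fun x => decide (P x) : List α) : Multiset α) = (S.filter Q).val.map f := by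
  rw [← Multiset.filter_coe, hm, Multiset.filter_map, Finset.filter_val]
  exact congrArg _ (Multiset.filter_congr fun χ hχ => by simpa using h χ hχ)

variable [Fact (Nat.Prime 11)] [Fact (Nat.Prime 23)]

theorem Blk11.no_commute (E : Blk11 G) {x z : G} (hz : orderOf z = 11) {q : ℕ} (hq : orderOf x = q)
    (hq1 : q = 2 ∨ q = 3 ∨ q = 5 ∨ q = 7) (hc : x * z = z * x) : False := by
  have h := orderOf_dvd_cn hc
  rw [hq, E.1.cn_sylow hz, E.2] at h
  rcases hq1 with rfl | rfl | rfl | rfl <;> norm_num at h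

theorem not_dvd_cn_invol (A : Blk23 G) (E : Blk11 G) {v : G} (hv : orderOf v = 2) :
    ¬ 11 ∣ cn v ∧ ¬ 23 ∣ cn v := by
  refine ⟨fun h => ?_, fun h => ?_⟩ <;>
    obtain ⟨z, hz⟩ := exists_prime_orderOf_dvd_card' (G := Subgroup.centralizer ({v} : Set G)) _ h
  · rw [← Subgroup.orderOf_coe] at hz
    exact E.no_commute hz hv (Or.inl rfl) (Subgroup.mem_centralizer_singleton_iff.1 z.2).symm
  · rw [← Subgroup.orderOf_coe] at hz
    exact A.no_commute hz hv (Or.inl rfl) (Subgroup.mem_centralizer_singleton_iff.1 z.2).symm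

theorem mem_evenOrds (hG : Nat.card G = 10200960) (A : Blk23 G) (E : Blk11 G) {v : G} (hv : orderOf v = 2) :
    cn v ∈ evenOrds := by
  obtain ⟨h11, h23⟩ := not_dvd_cn_invol A E hv
  obtain ⟨j, hj⟩ : 2 ∣ cn v := hv ▸ orderOf_dvd_cn (rfl : v * v = v * v)
  have hd : cn v ∣ 253 * 40320 := by
    have := hG ▸ cn_dvd_card v
    simpa using this
  have hcop : (cn v).Coprime 253 := by
    rw [show (253 : ℕ) = 11 * 23 by norm_num]
    exact Nat.Coprime.mul_right ((Nat.Prime.coprime_iff_not_dvd (by norm_num)).2 h11).symm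
      ((Nat.Prime.coprime_iff_not_dvd (by norm_num)).2 h23).symm
  have hd2 : j ∣ 20160 := Nat.dvd_of_mul_dvd_mul_left (by norm_num : 0 < 2)
    (hj ▸ (hcop.dvd_of_dvd_mul_left hd : cn v ∣ 2 * 20160))
  have := Nat.le_of_dvd (by norm_num) hd2
  exact List.mem_map.2 ⟨j, List.mem_filter.2 ⟨List.mem_range.2 (by omega),
    by simp [Nat.mod_eq_zero_of_dvd hd2]⟩, hj.symm⟩

variable [Fact (Nat.Prime 5)] [Fact (Nat.Prime 7)]

/-- The block at five and the two candidates at eleven. -/
theorem exists_five_rows (hG : Nat.card G = 10200960) (A : Blk23 G) (E : Blk11 G) :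
    ∃ B : PBlk G 5 4, B.IsRow rowF ∧ (E.1.IsRow rowE ∨ E.1.IsRow rowE') := by
  classical
  have hna := M23Ord.not_comm hG
  have hfac : ¬ 2 * (5 * 2040192) ∣ 5 * (5 - 1) * (5 + 1) := by norm_num
  obtain ⟨P⟩ : Nonempty (Sylow 5 G) := inferInstance
  have hG5 : Nat.card G = 5 * 2040192 := by rw [hG]
  obtain ⟨e, k, c, hk1, hkm, he, he1, hep, hc, hprod⟩ := OrdP.exists_e' hna hG5 (by norm_num) (by norm_num) hfac P
  obtain ⟨B, hB, hmax⟩ := exists_pblk hna (by norm_num) P (OrdP.card_sylow_eq hG5 (by norm_num) P) he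
    (by omega) hep
  have hpre : ∀ χ : IrrCharacter G, χ ∈ B.X ∨ χ = B.y → okBoth (dg χ) = true := fun χ hχ =>
    okBoth_deg hG A E (by
      rcases hχ with hh | rfl
      · exact fun e0 => B.triv_X (e0 ▸ hh)
      · exact B.y_ne)
  obtain ⟨r, hr, hrow⟩ := B.exists_row23 hG (by norm_num) false okBoth (fun h => by simp at h) hpre hmax
  have he24 : e = 2 ∨ e = 4 := by
    have h4 := Nat.le_of_dvd (by norm_num) hep
    have h3 : e ≠ 3 := fun h => by rw [h] at hep; norm_num at hep
    omega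
  rcases he24 with rfl | rfl
  · rw [rows_five_two] at hr
    exact absurd hr List.not_mem_nil
  obtain ⟨r', hr', hrow'⟩ := E.1.exists_row23 hG (by norm_num) false okBoth (fun h => by simp at h)
    (fun χ hχ => okBoth_deg hG A E (by
      rcases hχ with hh | rfl
      · exact fun e0 => E.1.triv_X (e0 ▸ hh)
      · exact E.1.y_ne)) (fun h => absurd h (by norm_num))
  have hd5 : (rowDegs 1 r : Multiset ℤ) = B.members.val.map fun χ => (dg χ : ℤ) := B.rowDegs_eq hrow
  have hd11 : (rowDegs 2 r' : Multiset ℤ) = E.1.members.val.map fun χ => (dg χ : ℤ) := E.1.rowDegs_eq hrow'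
  have hsub : subl (primeEl (rowDegs 1 r)) (rowDegs 2 r') = true := by
    refine subl_of_le ?_
    rw [primeEl, filter_map_eq hd5 (fun d : ℤ => ¬ d.natAbs % 11 = 0) (fun χ => ¬ 11 ∣ dg χ)
      (fun χ _ => by simp [Nat.dvd_iff_mod_eq_zero]), hd11]
    refine Multiset.map_le_map (Finset.val_le_iff.2 fun χ hχ => ?_)
    obtain ⟨h1, h2⟩ := Finset.mem_filter.1 hχ
    exact E.1.mem_members_of E.2 (B.ne_triv h1) h2
  obtain ⟨h1, rfl⟩ := five_eleven r' hr' r hr hsub
  exact ⟨B, hrow, by rcases h1 with rfl | rfl; exacts [Or.inl hrow', Or.inr hrow']⟩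

/-- The principal block at eleven. -/
theorem row_eleven (hG : Nat.card G = 10200960) (A : Blk23 G) (E : Blk11 G)
    (h : E.1.IsRow rowE ∨ E.1.IsRow rowE') : E.1.IsRow rowE := by
  refine h.resolve_right fun hrow => ?_
  haveI : Fact (Nat.Prime 2) := ⟨Nat.prime_two⟩
  obtain ⟨v, hv⟩ := exists_prime_orderOf_dvd_card' (G := G) 2 (by rw [hG]; norm_num)
  obtain ⟨a, ha, -, -⟩ := M23Ord.inv_value hG hv
  obtain ⟨l, hl, -, -, -, -, hq⟩ := E.1.exists_vals23 hG (by norm_num) hv rfl ha hrow false (by simp)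
  rw [E.1.Q_zero (by norm_num) (by norm_num) hv hv ha ha (c := 1) (by rw [E.2]) (by norm_num), mul_zero,
    Int.cast_eq_zero] at hq
  have h1 := List.all_eq_true.1 valsE'_eq _ (mem_evenOrds hG A E hv)
  rw [List.isEmpty_iff] at h1
  have : l ∈ ([] : List (List ((ℤ × ℤ) × ℤ))) := h1 ▸ List.mem_filter.2 ⟨hl, by simp [hq]⟩
  exact List.not_mem_nil this

/-- The candidates for the block at twenty-three. -/
theorem exists_rowA (hG : Nat.card G = 10200960) (A : Blk23 G) (E : Blk11 G) (B : PBlk G 5 4)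
    (hF : B.IsRow rowF) (hE : E.1.IsRow rowE) : ∃ r ∈ rowsA, A.1.IsRow r := by
  classical
  have hd5 : (rowDegs 1 rowF : Multiset ℤ) = B.members.val.map fun χ => (dg χ : ℤ) := B.rowDegs_eq hF
  have hd11 : (rowDegs 2 rowE : Multiset ℤ) = E.1.members.val.map fun χ => (dg χ : ℤ) := E.1.rowDegs_eq hE
  have hAE : ∀ χ ∈ A.1.members, ¬ 11 ∣ dg χ → χ ∈ E.1.members.filter fun χ => ¬ 23 ∣ dg χ := fun χ h h' =>
    Finset.mem_filter.2 ⟨E.1.mem_members_of E.2 (A.1.ne_triv h) h', A.1.ndvd_members h⟩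
  have hE23 : (E.1.members.filter fun χ => ¬ 23 ∣ dg χ).val.map (fun χ => (dg χ : ℤ)) =
      ([45, 45, 896, 896] : List ℤ) := by
    rw [← filter_map_eq hd11 (fun d : ℤ => ¬ d.natAbs % 23 = 0) (fun χ => ¬ 23 ∣ dg χ)
      (fun χ _ => by simp [Nat.dvd_iff_mod_eq_zero]), Multiset.coe_eq_coe]
    decide
  obtain ⟨r, hr, hrow⟩ := A.1.exists_rowSel hG (by norm_num) false okBoth selTT (fun χ hχ => by
      by_cases h11 : 11 ∣ dg χ
      · simp [selTT, show (dg χ : ℤ) % 11 = 0 by omega]
      · have hm : (dg χ : ℤ) ∈ (([45, 45, 896, 896] : List ℤ) : Multiset ℤ) := by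
          rw [← hE23]
          exact Multiset.mem_map.2 ⟨χ, hAE χ (A.1.mem_members.2 (Or.inl hχ)) h11, rfl⟩
        simp only [Multiset.mem_coe, List.mem_cons, List.not_mem_nil, or_false] at hm
        simp only [selTT, Bool.or_eq_true, beq_iff_eq]
        omega)
    (fun h => by simp at h)
    (fun χ hχ => okBoth_deg hG A E (by
      rcases hχ with hh | rfl
      · exact fun e0 => A.1.triv_X (e0 ▸ hh)
      · exact A.1.y_ne))
    (fun h => absurd h (by norm_num))
  refine ⟨r, rowsA_eq ▸ List.mem_filter.2 ⟨hr, ?_⟩, hrow⟩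
  have hd23 : (rowDegs 2 r : Multiset ℤ) = A.1.members.val.map fun χ => (dg χ : ℤ) := A.1.rowDegs_eq hrow
  -- a member of degree 231 of the block at five
  obtain ⟨w, hwX, hw⟩ : ∃ w ∈ B.X, dg w = 231 := by
    have hm : ((231 : ℤ), (1 : ℤ)) ∈ (rowF.1 : Multiset (ℤ × ℤ)) := by decide
    rw [hF.1, Multiset.mem_map] at hm
    obtain ⟨w, hw, he⟩ := hm
    rw [Prod.mk.injEq] at he
    exact ⟨w, hw, by omega⟩
  have hw0 : w ≠ trivialIrr G := fun h => B.triv_X (h ▸ hwX)
  have hyF : dg B.y = 2024 := by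
    have := hF.2.2
    simp only [rowF] at this
    omega
  simp only [fitTT, Bool.and_eq_true, decide_eq_true_eq]
  refine ⟨⟨subl_of_le ?_, subl_of_le ?_⟩, ?_⟩
  · have hnw : w ∉ E.1.members.filter fun χ => ¬ 23 ∣ dg χ := fun h =>
      E.1.ndvd_members (Finset.mem_filter.1 h).1 (by rw [hw]; norm_num)
    have hle : insert w (E.1.members.filter fun χ => ¬ 23 ∣ dg χ) ⊆ A.1.members := fun χ hχ => by
      rcases Finset.mem_insert.1 hχ with rfl | h
      · exact A.1.mem_members_of A.2 hw0 (by rw [hw]; norm_num)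
      · obtain ⟨h1, h2⟩ := Finset.mem_filter.1 h
        exact A.1.mem_members_of A.2 (E.1.ne_triv h1) h2
    have h := Multiset.map_le_map (f := fun χ => (dg χ : ℤ)) (Finset.val_le_iff.2 hle)
    rw [Finset.insert_val_of_notMem hnw, Multiset.map_cons, hE23, hw, Multiset.cons_coe] at h
    rw [hd23]
    refine le_trans (le_of_eq ?_) h
    rw [Multiset.coe_eq_coe]
    decide
  · rw [primeEl, filter_map_eq hd23 (fun d : ℤ => ¬ d.natAbs % 11 = 0) (fun χ => ¬ 11 ∣ dg χ)
      (fun χ _ => by simp [Nat.dvd_iff_mod_eq_zero]), ← hE23]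
    exact Multiset.map_le_map (Finset.val_le_iff.2 fun χ hχ =>
      hAE χ (Finset.mem_filter.1 hχ).1 (Finset.mem_filter.1 hχ).2)
  · set T := A.1.members.filter fun χ => 11 ∣ dg χ with hT
    have hd1 : Disjoint E.1.members T := Finset.disjoint_left.2 fun χ h h' =>
      E.1.ndvd_members h (Finset.mem_filter.1 h').2
    have hy : B.y ∉ E.1.members.disjUnion T hd1 := by
      rw [Finset.mem_disjUnion, hT, Finset.mem_filter]
      rintro (h | ⟨h, -⟩)
      · exact E.1.ndvd_members h (by rw [hyF]; norm_num)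
      · exact A.1.ndvd_members h (by rw [hyF]; norm_num)
    set S := insert B.y (E.1.members.disjUnion T hd1) with hS
    have htS : trivialIrr G ∉ S := by
      simp [hS, hT, E.1.triv_members, A.1.triv_members, B.y_ne.symm]
    have hsum := M23Ord.sum_sq_le hG (insert (trivialIrr G) S)
    rw [Finset.sum_insert htS, dg_trivial, one_pow] at hsum
    have hlist : ((rowDegs 2 rowE ++ freeDegs r ++ [2024] : List ℤ) : Multiset ℤ) =
        S.val.map fun χ => (dg χ : ℤ) := by
      rw [hS, Finset.insert_val_of_notMem hy, Multiset.map_cons, Finset.disjUnion_val, Multiset.map_add, hyF,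
        ← hd11, ← filter_map_eq hd23 (fun d : ℤ => d.natAbs % 11 = 0) (fun χ => 11 ∣ dg χ)
          (fun χ _ => by simp [Nat.dvd_iff_mod_eq_zero]), freeDegs, Multiset.coe_add, Multiset.cons_coe,
        Multiset.coe_eq_coe]
      exact List.perm_append_singleton _ _
    have e1 : (((rowDegs 2 rowE ++ freeDegs r ++ [2024] : List ℤ) : Multiset ℤ).map fun x : ℤ => x * x).sum =
        ((rowDegs 2 rowE ++ freeDegs r ++ [2024]).map fun x : ℤ => x * x).sum := by simp
    rw [← e1, hlist, Multiset.map_map]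
    show 1 + ∑ χ ∈ S, (dg χ : ℤ) * dg χ ≤ 10200960
    simp only [← sq]
    exact_mod_cast hsum

end Cfsg.Agent.Invol.M23Ord
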