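import Mathlib
import Cfsg.Agent.Lib.Invol.Order10200960.DegreeRows
import Cfsg.Agent.Lib.Invol.Order10200960.CheckColumn

/-!
Simple groups of order 10200960: the degrees, and the column at an involution, whose centralizer has order 2688.
-/

set_option autoImplicit false
set_option linter.style.haveILetI false
set_option linter.unusedSectionVars false

namespace Cfsg.Agent.Invol.M23Ord

open scoped ComplexConjugate
open Cfsg Cfsg.Agent.Block Cfsg.Agent.Char Cfsg.Agent.Invol.M12Ord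
open Cfsg.Agent.Invol.M22Ord (PBlk qfold qsq aY normOf blockChars wval norm_insert_le exists_lift)

universe u

variable {G : Type u} [Group G] [Finite G] [IsSimpleGroup G]
variable [Fact (Nat.Prime 5)] [Fact (Nat.Prime 7)] [Fact (Nat.Prime 11)] [Fact (Nat.Prime 23)]

/-- The three principal blocks of self-centralising or small Sylow subgroups, with their degrees. -/
structure Frame (G : Type u) [Group G] [Finite G] where
  A : Blk23 G
  E : Blk11 G
  B : PBlk G 5 4
  hF : B.IsRow rowF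
  hE : E.1.IsRow rowE

theorem exists_frame (hG : Nat.card G = 10200960) : Nonempty (Frame G) := by
  obtain ⟨B₁, h₁⟩ := exists_tt (G := G) hG
  obtain ⟨B₂, h₂⟩ := exists_el hG ⟨B₁, h₁⟩
  obtain ⟨B, hF, h⟩ := exists_five_rows hG ⟨B₁, h₁⟩ ⟨B₂, h₂⟩
  exact ⟨⟨⟨B₁, h₁⟩, ⟨B₂, h₂⟩, B, hF, row_eleven hG (⟨B₁, h₁⟩ : Blk23 G) (⟨B₂, h₂⟩ : Blk11 G) h⟩⟩

namespace Frame

variable (K : Frame G)

include K in
/-- The column at an involution. -/
theorem column_aux (hG : Nat.card G = 10200960) {v : G} (hv : orderOf v = 2) {a : IrrCharacter G → ℤ}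
    (ha : ∀ χ : IrrCharacter G, (χ : G → ℂ) v = a χ) :
    cn v = 2688 ∧ K.A.1.IsRow rowA ∧
      ((Finset.univ : Finset (IrrCharacter G)).val.map fun χ => ((dg χ : ℤ), a χ)) =
        (involCol : Multiset (ℤ × ℤ)) := by
  classical
  set A := K.A
  set E := K.E
  set B := K.B
  set h := cn v with hh
  have h23 : ¬ 23 ∣ orderOf v := by rw [hv]; norm_num
  have h11 : ¬ 11 ∣ orderOf v := by rw [hv]; norm_num
  have h5 : ¬ 5 ∣ orderOf v := by rw [hv]; norm_num
  -- the values in the block at eleven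
  obtain ⟨l, hlv, hlX, hlY, hlm, -, hqE⟩ := E.1.exists_vals23 hG (by norm_num) hv hh.symm ha K.hE false (by simp)
  rw [E.1.Q_zero (by norm_num) (by norm_num) hv hv ha ha (c := 1) (by rw [E.2]) (by norm_num), mul_zero,
    Int.cast_eq_zero] at hqE
  have hl : (h, l) ∈ valsE := by
    rw [← valsE_eq]
    exact List.mem_flatMap.2 ⟨h, mem_evenOrds hG A E hv,
      List.mem_map.2 ⟨l, List.mem_filter.2 ⟨hlv, by simp [hqE]⟩, rfl⟩⟩
  rw [show (11 - 1) / 5 = 2 from rfl] at hlm
  obtain ⟨r, hr, hrow⟩ := exists_rowA hG A E B K.hF K.hE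
  obtain ⟨hy11, hy231⟩ := rowsA_facts r hr
  have hyA : (dg A.1.y : ℤ) = r.2.2 := hrow.2.2.symm
  have hy11' : 11 ∣ dg A.1.y := by
    rw [← hyA, Int.natAbs_natCast] at hy11
    exact Nat.dvd_of_mod_eq_zero hy11
  -- the two parts of the block at twenty-three
  set g := fun χ : IrrCharacter G => (((dg χ : ℤ), A.1.s χ), a χ) with hg
  set U := A.1.X.filter fun χ => 11 ∣ dg χ with hU
  have hrest : (A.1.X.filter fun χ => ¬ 11 ∣ dg χ) = E.1.members.filter fun χ => ¬ 23 ∣ dg χ := by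
    ext χ
    simp only [Finset.mem_filter]
    constructor
    · rintro ⟨h1, h2⟩
      have hm := A.1.mem_members.2 (Or.inl h1)
      exact ⟨E.1.mem_members_of E.2 (A.1.ne_triv hm) h2, A.1.ndvd_members hm⟩
    · rintro ⟨h1, h2⟩
      refine ⟨(A.1.mem_members.1 (A.1.mem_members_of A.2 (E.1.ne_triv h1) h2)).resolve_right fun hy => ?_,
        E.1.ndvd_members h1⟩
      exact E.1.ndvd_members h1 (A.1.dg_Y hy ▸ hy11')
  have hseed : ((A.1.X.filter fun χ => ¬ 11 ∣ dg χ).val.map g) = (seedVals l : Multiset ((ℤ × ℤ) × ℤ)) := by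
    rw [← Multiset.coe_eq_coe.2 (seed_ok (h, l) hl), ← Multiset.map_coe,
      filter_map_eq hlm (fun x : ℤ × ℤ => ¬ x.1.natAbs % 23 = 0) (fun χ => ¬ 23 ∣ dg χ)
        (fun χ _ => by simp [Nat.dvd_iff_mod_eq_zero]), Multiset.map_map, hrest]
    refine Multiset.map_congr rfl fun χ hχ => ?_
    obtain ⟨h1, h2⟩ := Finset.mem_filter.1 hχ
    have hm : χ ∈ A.1.members := A.1.mem_members_of A.2 (E.1.ne_triv h1) h2
    have hmem : χ ∈ A.1.X.filter fun χ => ¬ 11 ∣ dg χ := by rw [hrest]; exact hχ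
    have hX := (Finset.mem_filter.1 hmem).1
    have hd : (dg χ : ℤ) ∈ (([45, 45, 896, 896] : List ℤ) : Multiset ℤ) := by
      have hd11 : (rowDegs 2 rowE : Multiset ℤ) = E.1.members.val.map fun χ => (dg χ : ℤ) := E.1.rowDegs_eq K.hE
      have := filter_map_eq hd11 (fun d : ℤ => ¬ d.natAbs % 23 = 0) (fun χ => ¬ 23 ∣ dg χ)
        (fun χ _ => by simp [Nat.dvd_iff_mod_eq_zero])
      rw [show (((rowDegs 2 rowE).filter fun x => decide (¬ x.natAbs % 23 = 0)) : Multiset ℤ) =
        (([45, 45, 896, 896] : List ℤ) : Multiset ℤ) by rw [Multiset.coe_eq_coe]; decide] at this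
      rw [this]
      exact Multiset.mem_map.2 ⟨χ, hχ, rfl⟩
    have hs := A.1.deg_X χ hX
    simp only [Multiset.mem_coe, List.mem_cons, List.not_mem_nil, or_false] at hd
    have hs1 : A.1.s χ = -1 := (A.1.s_sign χ hX).resolve_left fun e => by rw [e] at hs; omega
    show (((dg χ : ℤ), A.1.s χ), a χ) = (((dg χ : ℤ), (-1 : ℤ)), a χ)
    rw [hs1]
  obtain ⟨hnd, hperm⟩ := freeGroups_ok r hr
  have hkeys : (U.val.map g).map Prod.fst = (expand (freeGroups r) : Multiset (ℤ × ℤ)) := by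
    rw [Multiset.map_map, Multiset.coe_eq_coe.2 hperm]
    exact (filter_map_eq hrow.1 (fun x : ℤ × ℤ => x.1.natAbs % 11 = 0) (fun χ => 11 ∣ dg χ)
      (fun χ _ => by simp [Nat.dvd_iff_mod_eq_zero])).symm
  set T := A.1.members.filter fun χ => 11 ∣ dg χ with hT
  have hd1 : Disjoint E.1.members T := Finset.disjoint_left.2 fun χ h h' =>
    E.1.ndvd_members h (Finset.mem_filter.1 h').2
  have hTU : T.val = U.val + A.1.Y.val := by
    rw [hT, hU, Finset.filter_val, PBlk.members, Finset.disjUnion_val, Multiset.filter_add, Finset.filter_val,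
      Multiset.filter_eq_self.2 fun ψ (hψ : ψ ∈ A.1.Y.val) => (A.1.dg_Y hψ).symm ▸ hy11']
  have hyF : dg B.y = 2024 := by
    have : (2024 : ℤ) = (dg B.y : ℤ) := K.hF.2.2
    omega
  have hy : B.y ∉ E.1.members.disjUnion T hd1 := by
    rw [Finset.mem_disjUnion, hT, Finset.mem_filter]
    rintro (h | ⟨h, -⟩)
    · exact E.1.ndvd_members h (by rw [hyF]; norm_num)
    · exact A.1.ndvd_members h (by rw [hyF]; norm_num)
  set S := insert B.y (E.1.members.disjUnion T hd1) with hS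
  have htS : trivialIrr G ∉ S := by
    simp [hS, hT, E.1.triv_members, A.1.triv_members, B.y_ne.symm]
  have hnorm := norm_insert_le S htS a ha
  rw [← hh, hS, Finset.sum_insert hy, Finset.sum_disjUnion] at hnorm
  have hnE : normOf (blockChars 2 rowE l) = 1 + ∑ χ ∈ E.1.members, a χ * a χ := by
    have e1 : ((blockChars 2 rowE l : Multiset (ℤ × ℤ)).map fun x => x.2 * x.2).sum =
        ((blockChars 2 rowE l).map fun x => x.2 * x.2).sum := by simp
    rw [normOf, ← e1, hlm, Multiset.map_map]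
    rfl
  have hsumT : ∑ χ ∈ T, a χ * a χ = ∑ χ ∈ U, a χ * a χ + 2 * (a A.1.y * a A.1.y) := by
    show (T.val.map fun χ => a χ * a χ).sum = _
    rw [hTU, Multiset.map_add, Multiset.sum_add]
    congr 1
    show ∑ ψ ∈ A.1.Y, a ψ * a ψ = _
    have hc : A.1.Y.card = 2 := by have := A.1.card_Y; omega
    rw [Finset.sum_congr rfl fun ψ hψ => by
      rw [show a ψ = a A.1.y from Int.cast_injective (α := ℂ) (by rw [← ha, ← ha]; exact A.1.eq_y hψ h23)],
      Finset.sum_const, hc, nsmul_eq_mul]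
    norm_num
  have hk0 : 0 ≤ a B.y * a B.y := mul_self_nonneg _
  have hT0 : 0 ≤ 2 * (a A.1.y * a A.1.y) := by linarith [mul_self_nonneg (a A.1.y)]
  obtain ⟨f, hf, hfm⟩ := exists_gvals wval (cand 23 h false) (freeGroups r)
    (h - (normOf (blockChars 2 rowE l)).toNat) (U.val.map g) hnd hkeys (fun x hx => by
      obtain ⟨χ, hχ, rfl⟩ := Multiset.mem_map.1 hx
      have hX := (Finset.mem_filter.1 hχ).1
      exact M23Ord.mem_cand (by norm_num) (M23Ord.okv_of hG hv hh.symm (fun e0 => A.1.triv_X (e0 ▸ hX)) (ha χ))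
        fun hc => Bool.noConfusion hc) (by
      have h2 : (((U.val.map g).map fun x => wval x.2).sum : ℤ) = ∑ χ ∈ U, a χ * a χ := by
        rw [Multiset.map_map]
        show ((∑ χ ∈ U, wval (a χ) : ℕ) : ℤ) = _
        push_cast [wval]
        exact Finset.sum_congr rfl fun χ _ => by rw [← Int.natAbs_mul_self (a := a χ)]; push_cast; rfl
      have h3 : 0 ≤ ∑ χ ∈ E.1.members, a χ * a χ := Finset.sum_nonneg fun _ _ => mul_self_nonneg _
      omega)
  set lA := seedVals l ++ f with hlA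
  have hlAX : (lA : Multiset ((ℤ × ℤ) × ℤ)) = A.1.X.val.map g := by
    rw [hlA, ← Multiset.coe_add, ← hseed, hfm, hU, Finset.filter_val, Finset.filter_val, ← Multiset.map_add,
      add_comm, Multiset.filter_add_not]
  have hv' : aY r lA = a A.1.y := A.1.aY_eq ha hrow hlAX h23
  obtain ⟨-, hqA⟩ := A.1.qsq_eq ha hrow hlAX h23
  rw [A.1.Q_zero (by norm_num) (by norm_num) hv hv ha ha (c := 1) (by rw [A.2]) (by norm_num), mul_zero,
    Int.cast_eq_zero] at hqA
  -- the block at five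
  obtain ⟨l₅, hl₅, hl₅r⟩ := exists_lift Prod.fst rowF.1 (B.X.val.map fun χ => (((dg χ : ℤ), B.s χ), a χ))
    (by rw [Multiset.map_map, K.hF.1]; rfl)
  obtain ⟨x₁, x₂, x₃, rfl⟩ : ∃ x₁ x₂ x₃, l₅ = [x₁, x₂, x₃] :=
    List.length_eq_three.1 (by have := congrArg List.length hl₅r; simpa [rowF] using this)
  simp only [List.map_cons, List.map_nil, rowF, List.cons.injEq, and_true] at hl₅r
  have hmem : ∀ x ∈ [x₁, x₂, x₃], ∃ χ ∈ B.X, ((((dg χ : ℤ), B.s χ), a χ) : (ℤ × ℤ) × ℤ) = x := fun x hx => by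
    have hx' : x ∈ ([x₁, x₂, x₃] : Multiset ((ℤ × ℤ) × ℤ)) := hx
    rw [hl₅, Multiset.mem_map] at hx'
    exact hx'
  have h896 : ∀ χ : IrrCharacter G, χ ≠ trivialIrr G → (dg χ : ℤ) = 896 → a χ = aY rowE l := fun χ h0 hd => by
    have hd' : dg χ = 896 := by exact_mod_cast hd
    have hm : χ ∈ E.1.members := E.1.mem_members_of E.2 h0 (by rw [hd']; norm_num)
    have hnX : χ ∉ E.1.X := fun hX => by
      have : ((dg χ : ℤ), E.1.s χ) ∈ (rowE.1 : Multiset (ℤ × ℤ)) := by
        rw [K.hE.1]; exact Multiset.mem_map.2 ⟨χ, hX, rfl⟩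
      simp [rowE, hd'] at this
    rw [hlY]
    exact Int.cast_injective (α := ℂ)
      (by rw [← ha, ← ha]; exact E.1.eq_y ((E.1.mem_members.1 hm).resolve_left hnX) h11)
  obtain ⟨e₁, e₂, e₃⟩ := hl₅r
  obtain ⟨χ₁, hχ₁, c₁⟩ := hmem x₁ (by simp)
  obtain ⟨χ₂, hχ₂, c₂⟩ := hmem x₂ (by simp)
  obtain ⟨χ₃, hχ₃, c₃⟩ := hmem x₃ (by simp)
  subst c₁ c₂ c₃
  simp only [Prod.mk.injEq] at e₁ e₂ e₃
  have hk : a B.y = 1 + a χ₃ + 2 * aY rowE l := by
    rw [← B.aY_eq ha K.hF hl₅ h5, ← h896 χ₁ (fun e => B.triv_X (e ▸ hχ₁)) e₁.1]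
    have h21 : a χ₂ = a χ₁ := by
      rw [h896 χ₁ (fun e => B.triv_X (e ▸ hχ₁)) e₁.1, h896 χ₂ (fun e => B.triv_X (e ▸ hχ₂)) e₂.1]
    simp only [aY, rowF, List.map_cons, List.map_nil, List.sum_cons, List.sum_nil, h21, e₁.2, e₂.2, e₃.2]
    ring
  have hd3 : dg χ₃ = 231 := by exact_mod_cast e₃.1
  have h3U : χ₃ ∈ U := by
    refine Finset.mem_filter.2 ⟨?_, by rw [hd3]; norm_num⟩
    have hm := A.1.mem_members_of A.2 (fun e => B.triv_X (e ▸ hχ₃)) (by rw [hd3]; norm_num)
    refine (A.1.mem_members.1 hm).resolve_right fun hY => hy231 ?_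
    rw [← hyA, ← A.1.dg_Y hY]
    exact e₃.1
  have h3f : g χ₃ ∈ f := by
    have : g χ₃ ∈ (f : Multiset ((ℤ × ℤ) × ℤ)) := hfm ▸ Multiset.mem_map.2 ⟨χ₃, h3U, rfl⟩
    exact this
  -- the check
  have hc := List.all_eq_true.1 (List.all_eq_true.1 (List.all_eq_true.1 joint_check (h, l) hl) r hr) f hf
  simp only [jointOK, Bool.or_eq_true, decide_eq_true_eq, ne_eq, List.all_eq_true] at hc
  have hc2 := hc.resolve_left (fun hne => hne hqA) (g χ₃) h3f
  have hfs : (f.map fun z => z.2 * z.2).sum = ∑ χ ∈ U, a χ * a χ := by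
    have e1 : ((f : Multiset ((ℤ × ℤ) × ℤ)).map fun z => z.2 * z.2).sum = (f.map fun z => z.2 * z.2).sum := by simp
    rw [← e1, hfm, Multiset.map_map]
    rfl
  have hle : jointNorm r l f (a χ₃) ≤ (h : ℤ) := by
    simp only [jointNorm]
    rw [← hlA, hv', hnE, hfs, ← hk]
    omega
  simp only [hg, Bool.and_eq_true, beq_iff_eq, Nat.beq_eq, decide_eq_true_eq, Bool.not_eq_true', beq_eq_false_iff_ne,
    ne_eq] at hc2
  rcases hc2 with (h1 | h1) | ⟨⟨h2688, rfl⟩, rfl⟩
  · exact absurd e₃.1 h1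
  · omega
  obtain rfl := valsE_2688 (h, l) hl h2688
  refine ⟨h2688, hrow, ?_⟩
  have hk8 : a B.y = 8 := by
    have h7 := freeA_231 _ h3f e₃.1
    simp only [hg] at h7
    rw [hk, h7]
    rfl
  have hblockA : (blockChars 2 rowA lA : Multiset (ℤ × ℤ)) = A.1.members.val.map fun χ => ((dg χ : ℤ), a χ) := by
    rw [blockChars, ← Multiset.coe_add, ← Multiset.map_coe, hlAX, Multiset.map_map, hv', hrow.2.2,
      Multiset.coe_replicate, PBlk.members, Finset.disjUnion_val, Multiset.map_add]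
    congr 1
    have hc2 : A.1.Y.card = 2 := by have := A.1.card_Y; omega
    rw [← hc2, Finset.card_def, ← Multiset.map_const' A.1.Y.val ((dg A.1.y : ℤ), a A.1.y)]
    refine Multiset.map_congr rfl fun ψ hψ => ?_
    rw [A.1.dg_Y hψ, show a ψ = a A.1.y from
      Int.cast_injective (α := ℂ) (by rw [← ha, ← ha]; exact A.1.eq_y hψ h23)]
  have hknown : ((insert (trivialIrr G) S).val.map fun χ => ((dg χ : ℤ), a χ)) =
      (((1, 1) :: ((blockChars 2 rowE lE ++ (blockChars 2 rowA (seedVals lE ++ freeA)).filter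
        (fun x => decide (x.1.natAbs % 11 = 0))) ++ [(2024, 8)]) : List (ℤ × ℤ)) : Multiset (ℤ × ℤ)) := by
    have h1 : a (trivialIrr G) = 1 := Int.cast_injective (α := ℂ) (by rw [← ha, Int.cast_one]; rfl)
    rw [Finset.insert_val_of_notMem htS, Multiset.map_cons, h1, dg_trivial, hS, Finset.insert_val_of_notMem hy,
      Multiset.map_cons, hyF, hk8, Finset.disjUnion_val, Multiset.map_add, ← hlm,
      ← filter_map_eq hblockA (fun x : ℤ × ℤ => x.1.natAbs % 11 = 0) (fun χ => 11 ∣ dg χ)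
        (fun χ _ => by simp [Nat.dvd_iff_mod_eq_zero]), Multiset.coe_add, Multiset.cons_coe, Multiset.cons_coe,
      Multiset.coe_eq_coe]
    exact ((List.perm_append_singleton _ _).symm).cons _
  -- the remaining character
  set R := Finset.univ \ insert (trivialIrr G) S with hR
  have hsplit : (Finset.univ : Finset (IrrCharacter G)).val = (insert (trivialIrr G) S).val + R.val := by
    rw [hR, ← Finset.disjUnion_val _ _ Finset.disjoint_sdiff]
    congr 1
    simp
  have hsums : ∀ F : ℤ × ℤ → ℤ, ∑ χ : IrrCharacter G, F ((dg χ : ℤ), a χ) =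
      (((1, 1) :: ((blockChars 2 rowE lE ++ (blockChars 2 rowA (seedVals lE ++ freeA)).filter
        (fun x => decide (x.1.natAbs % 11 = 0))) ++ [(2024, 8)]) : List (ℤ × ℤ)).map F).sum +
        ∑ χ ∈ R, F ((dg χ : ℤ), a χ) := fun F => by
    show ((Finset.univ : Finset (IrrCharacter G)).val.map _).sum = _
    rw [hsplit, Multiset.map_add, Multiset.sum_add]
    congr 1
    have := congrArg (fun m : Multiset (ℤ × ℤ) => (m.map F).sum) hknown
    simp only [Multiset.map_map, Multiset.map_coe, Multiset.sum_coe] at this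
    exact this
  have hdeg : ∀ χ ∈ R, ∃ k : ℕ, 0 < k ∧ dg χ = 253 * k := fun χ hχ => by
    rw [hR, Finset.mem_sdiff, Finset.mem_insert, not_or, hS, Finset.mem_insert, not_or, Finset.mem_disjUnion,
      not_or, hT, Finset.mem_filter, not_and] at hχ
    obtain ⟨-, h0, -, hnE', hnT⟩ := hχ
    have e11 : 11 ∣ dg χ := by
      by_contra hc0
      exact hnE' (E.1.mem_members_of E.2 h0 hc0)
    have e23 : 23 ∣ dg χ := by
      by_contra hc0
      exact hnT (A.1.mem_members_of A.2 h0 hc0) e11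
    obtain ⟨k, hk⟩ : 11 * 23 ∣ dg χ := Nat.Coprime.mul_dvd_of_dvd_of_dvd (by norm_num) e11 e23
    have := M23Ord.two_le hG h0
    exact ⟨k, by omega, by omega⟩
  have hsqR : ∑ χ ∈ R, (dg χ : ℤ) * dg χ = 64009 := by
    have h1 := hsums fun x => x.1 * x.1
    have h2 : ∑ χ : IrrCharacter G, (dg χ : ℤ) * dg χ = 10200960 := by
      rw [show (10200960 : ℤ) = ((10200960 : ℕ) : ℤ) from rfl, ← M23Ord.sum_sq hG]
      push_cast
      simp only [sq]
    dsimp only at h1
    rw [known_sums.1, h2] at h1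
    omega
  have horR : ∑ χ ∈ R, (dg χ : ℤ) * a χ = 3289 := by
    have h1 := hsums fun x => x.1 * x.2
    have h2 : ∑ χ : IrrCharacter G, (dg χ : ℤ) * a χ = 0 := by
      rw [← orth_one_int (ne_one_of_orderOf hv (by norm_num)) a ha]
      exact Finset.sum_congr rfl fun χ _ => mul_comm _ _
    dsimp only at h1
    rw [known_sums.2, h2] at h1
    omega
  have hge : ∀ χ ∈ R, (64009 : ℤ) ≤ (dg χ : ℤ) * dg χ := fun χ hχ => by
    obtain ⟨k, hk, hd⟩ := hdeg χ hχ
    rw [hd]
    have : (253 : ℤ) ≤ ((253 * k : ℕ) : ℤ) := by push_cast; omega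
    exact le_trans (by norm_num) (mul_le_mul this this (by norm_num) (by positivity))
  have hcard : R.card = 1 := by
    have h1 := Finset.card_nsmul_le_sum R _ _ hge
    rw [hsqR, nsmul_eq_mul] at h1
    rcases Nat.eq_zero_or_pos R.card with h0 | h0
    · rw [Finset.card_eq_zero.1 h0] at hsqR; simp at hsqR
    · omega
  obtain ⟨φ, hφ⟩ := Finset.card_eq_one.1 hcard
  rw [hφ, Finset.sum_singleton] at hsqR horR
  obtain ⟨k, hk, hd⟩ := hdeg φ (by rw [hφ]; exact Finset.mem_singleton_self _)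
  rw [hd] at hsqR horR
  push_cast at hsqR horR
  have hk1 : k = 1 := by
    have : (k : ℤ) * k = 1 := by linarith [show (253 : ℤ) * k * (253 * k) = 64009 * ((k : ℤ) * k) by ring]
    rcases Int.eq_one_or_neg_one_of_mul_eq_one this with e | e <;> omega
  subst hk1
  rw [involCol_eq, hsplit, Multiset.map_add, hknown, hφ, Finset.singleton_val, Multiset.map_singleton, hd,
    show a φ = 13 by omega, ← Multiset.coe_add, Multiset.coe_singleton]
  rfl

include K in
theorem inv_cn (hG : Nat.card G = 10200960) {v : G} (hv : orderOf v = 2) : cn v = 2688 := by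
  obtain ⟨a, ha, -, -⟩ := M23Ord.inv_value hG hv
  exact (K.column_aux hG hv ha).1

include K in
theorem rowA_isRow (hG : Nat.card G = 10200960) : K.A.1.IsRow rowA := by
  haveI : Fact (Nat.Prime 2) := ⟨Nat.prime_two⟩
  obtain ⟨v, hv⟩ := exists_prime_orderOf_dvd_card' (G := G) 2 (by rw [hG]; norm_num)
  obtain ⟨a, ha, -, -⟩ := M23Ord.inv_value hG hv
  exact (K.column_aux hG hv ha).2.1

include K in
theorem inv_column (hG : Nat.card G = 10200960) {v : G} (hv : orderOf v = 2) {a : IrrCharacter G → ℤ}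
    (ha : ∀ χ : IrrCharacter G, (χ : G → ℂ) v = a χ) :
    ((Finset.univ : Finset (IrrCharacter G)).val.map fun χ => ((dg χ : ℤ), a χ)) =
      (involCol : Multiset (ℤ × ℤ)) := (K.column_aux hG hv ha).2.2

include K in
theorem degs_eq (hG : Nat.card G = 10200960) :
    ((Finset.univ : Finset (IrrCharacter G)).val.map fun χ => (dg χ : ℤ)) = (allDegs : Multiset ℤ) := by
  haveI : Fact (Nat.Prime 2) := ⟨Nat.prime_two⟩
  obtain ⟨v, hv⟩ := exists_prime_orderOf_dvd_card' (G := G) 2 (by rw [hG]; norm_num)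
  obtain ⟨a, ha, -, -⟩ := M23Ord.inv_value hG hv
  have h := congrArg (Multiset.map Prod.fst) (K.inv_column hG hv ha)
  rw [Multiset.map_map, Multiset.map_coe] at h
  exact h

end Frame

end Cfsg.Agent.Invol.M23Ord
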