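import Mathlib
import Cfsg.Agent.Lib.Invol.Order10200960.Column

/-!
Simple groups of order 10200960: the values at an involution depend on the degree alone, there is one class of
involutions, and there is an element of order four.
-/

set_option autoImplicit false
set_option linter.style.haveILetI false
set_option linter.unusedSectionVars false

namespace Cfsg.Agent.Invol.M23Ord

open scoped ComplexConjugate
open Cfsg Cfsg.Agent.Block Cfsg.Agent.Char Cfsg.Agent.Invol.M12Ord

universe u

/-- The value at an involution of the characters of a given degree. -/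
def invVal (d : ℤ) : ℤ :=
  match involCol.find? fun x => x.1 == d with
  | some x => x.2
  | none => 0

theorem involCol_val : ∀ x ∈ involCol, x.2 = invVal x.1 := by decide +kernel

variable {G : Type u} [Group G] [Finite G] [IsSimpleGroup G]
variable [Fact (Nat.Prime 5)] [Fact (Nat.Prime 7)] [Fact (Nat.Prime 11)] [Fact (Nat.Prime 23)]

namespace Frame

variable (K : Frame G)

include K in
theorem inv_value_eq (hG : Nat.card G = 10200960) {v : G} (hv : orderOf v = 2) (χ : IrrCharacter G) :
    (χ : G → ℂ) v = (invVal (dg χ) : ℂ) := by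
  obtain ⟨a, ha, -, -⟩ := M23Ord.inv_value hG hv
  have h : ((dg χ : ℤ), a χ) ∈ (involCol : Multiset (ℤ × ℤ)) := by
    rw [← K.inv_column hG hv ha]
    exact Multiset.mem_map.2 ⟨χ, Finset.mem_univ_val _, rfl⟩
  rw [ha χ, ← involCol_val _ (Multiset.mem_coe.1 h)]

include K in
/-- The involutions form one class. -/
theorem inv_conj (hG : Nat.card G = 10200960) {v w : G} (hv : orderOf v = 2) (hw : orderOf w = 2) :
    IsConj v w := by
  by_contra h
  have h0 := M12Ord.orth h (fun χ => invVal (dg χ)) (fun χ => invVal (dg χ)) (K.inv_value_eq hG hv)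
    (K.inv_value_eq hG hw)
  rw [norm_eq (fun χ => invVal (dg χ)) (K.inv_value_eq hG hv), K.inv_cn hG hv] at h0
  omega

include K in
/-- Some element has order four. -/
theorem exists_order_four (hG : Nat.card G = 10200960) : ∃ x : G, orderOf x = 4 := by
  classical
  haveI : Fact (Nat.Prime 2) := ⟨Nat.prime_two⟩
  by_contra hno
  push Not at hno
  obtain ⟨S⟩ : Nonempty (Sylow 2 G) := inferInstance
  have hS : Nat.card (S : Subgroup G) = 128 := by
    rw [S.card_eq_multiplicity, hG]
    rw [show (10200960 : ℕ) = 2 ^ 7 * 79695 by norm_num, Nat.factorization_mul (by norm_num) (by norm_num),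
      Finsupp.add_apply, Nat.prime_two.factorization_pow, Finsupp.single_eq_same,
      Nat.factorization_eq_zero_of_not_dvd (by norm_num : ¬ 2 ∣ 79695)]
    norm_num
  have hexp : ∀ x ∈ (S : Subgroup G), x * x = 1 := fun x hx => by
    obtain ⟨j, hj⟩ := S.isPGroup' ⟨x, hx⟩
    have hj' : x ^ 2 ^ j = 1 := congrArg Subtype.val hj
    obtain ⟨i, -, hio⟩ := (Nat.dvd_prime_pow Nat.prime_two).1 (orderOf_dvd_of_pow_eq_one hj')
    rcases i with _ | _ | i
    · rw [pow_zero, orderOf_eq_one_iff] at hio
      rw [hio, one_mul]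
    · rw [← pow_two, ← (by simpa using hio : orderOf x = 2)]
      exact pow_orderOf_eq_one x
    · exact absurd (by
        rw [orderOf_pow' _ (pow_ne_zero i two_ne_zero), hio, Nat.gcd_eq_right (pow_dvd_pow 2 (by omega)),
          Nat.pow_div (by omega) (by norm_num), show i + 1 + 1 - i = 2 by omega]) (hno (x ^ 2 ^ i))
  haveI : IsMulCommutative (S : Subgroup G) := ⟨⟨fun a b => by
    have h1 := hexp _ (mul_mem a.2 b.2)
    have h2 := hexp _ a.2
    have h3 := hexp _ b.2
    refine Subtype.ext ?_
    show (a : G) * b = b * a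
    have h4 : (a : G) * b = ((a : G) * b)⁻¹ := (inv_eq_of_mul_eq_one_left h1).symm
    rw [h4, mul_inv_rev, inv_eq_of_mul_eq_one_left h3, inv_eq_of_mul_eq_one_left h2]⟩⟩
  set N := Subgroup.normalizer ((S : Subgroup G) : Set G) with hN
  letI : MulAction N {x : (S : Subgroup G) // x ≠ 1} :=
    { smul := fun n x => ⟨⟨(n : G) * (x.1 : G) * (n : G)⁻¹, (Subgroup.mem_normalizer_iff.1 n.2 _).1 x.1.2⟩,
        fun h => x.2 (Subtype.ext (by
          have h1 : (n : G) * (x.1 : G) * (n : G)⁻¹ = 1 := congrArg Subtype.val h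
          exact conj_eq_one_iff.1 h1))⟩
      one_smul := fun x => Subtype.ext (Subtype.ext (by show ((1 : N) : G) * _ * _ = _; simp))
      mul_smul := fun m n x => Subtype.ext (Subtype.ext (by
        show ((m * n : N) : G) * (x.1 : G) * ((m * n : N) : G)⁻¹ = (m : G) * ((n : G) * (x.1 : G) * (n : G)⁻¹) * (m : G)⁻¹
        simp [mul_assoc])) }
  haveI : MulAction.IsPretransitive N {x : (S : Subgroup G) // x ≠ 1} := ⟨fun x y => by
    have ho : ∀ z : {x : (S : Subgroup G) // x ≠ 1}, orderOf (z.1 : G) = 2 := fun z =>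
      orderOf_eq_prime (by rw [pow_two]; exact hexp _ z.1.2) fun h => z.2 (Subtype.ext h)
    obtain ⟨g, hg⟩ := isConj_iff.1 (K.inv_conj hG (ho x) (ho y))
    obtain ⟨n, hn, hne⟩ := S.conj_eq_normalizer_conj_of_mem (x.1 : G) g⁻¹ x.1.2
      (by rw [inv_inv, hg]; exact y.1.2)
    refine ⟨⟨n⁻¹, inv_mem hn⟩, Subtype.ext (Subtype.ext ?_)⟩
    show n⁻¹ * (x.1 : G) * n⁻¹⁻¹ = _
    rw [inv_inv, ← hne, inv_inv, hg]⟩
  have hΩ : Nat.card {x : (S : Subgroup G) // x ≠ 1} = 127 := by
    haveI := Fintype.ofFinite (S : Subgroup G)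
    rw [Nat.card_eq_fintype_card, Fintype.card_subtype_compl, Fintype.card_subtype_eq,
      ← Nat.card_eq_fintype_card, hS]
  obtain ⟨x⟩ : Nonempty {x : (S : Subgroup G) // x ≠ 1} := (Nat.card_pos_iff.1 (by rw [hΩ]; norm_num)).1
  have h1 := MulAction.index_stabilizer_of_transitive N x
  have h2 : 127 ∣ Nat.card G := by
    rw [← hΩ, ← h1]
    exact (Subgroup.index_dvd_card _).trans (Subgroup.card_subgroup_dvd_card N)
  rw [hG] at h2
  norm_num at h2

end Frame

end Cfsg.Agent.Invol.M23Ord
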