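import Mathlib
import Cfsg.Agent.Lib.Invol.Order10200960.InvClass

/-!
Order 10200960: the search for the column at an element of order three.
-/

set_option autoImplicit false

namespace Cfsg.Agent.Invol.M23Ord

/-- The multiples of three of absolute value at most 75. -/
def threes : List ℤ := (List.range 51).map fun i : ℕ => 3 * ((i : ℤ) - 25)

/-- The possible values of the character of degree 230. -/
def valsC : List ℤ := (List.range 10).map fun i : ℕ => 15 * ((i : ℤ) - 5) + 5

/-- The squares of the values other than those of two characters of degree 231. -/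
def baseNorm (c : ℤ) : ℤ := 3 * (c * c) + 2 * ((1 - c) * (1 - c)) + (2 * c - 4) * (2 * c - 4) + 2

/-- The test on the values at an element of order three with centralizer order `C`. -/
def threeOK (C : ℕ) (c r r' : ℤ) : Bool :=
  let a := r + r' + 3 * c - 5
  let f := 5 - (r + r') - 2 * c
  !decide (baseNorm c + a * a + f * f + r * r + r' * r' = (C : ℤ)) ||
    !(Nat.beq ((10200960 / C * a.natAbs) % 22) 0) || !(Nat.beq ((10200960 / C * f.natAbs) % 253) 0) ||
    !(Nat.beq ((10200960 / C * (1 - c).natAbs) % 896) 0) ||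
    (Nat.beq C 180 && c == 5 && r == -3 && r' == -3)

/-- The search. -/
def checkThree : Bool :=
  ([45, 90, 180, 360, 720, 1440, 2880, 5760] : List ℕ).all fun C => valsC.all fun c =>
    decide ((C : ℤ) < baseNorm c) || threes.all fun r => decide ((C : ℤ) < baseNorm c + r * r) ||
      threes.all fun r' => threeOK C c r r'

theorem checkThree_true : checkThree = true := by decide +kernel

theorem mem_threes {r : ℤ} (h : 3 ∣ r) (hb : r * r ≤ 5760) : r ∈ threes := by
  obtain ⟨k, rfl⟩ := h
  have h1 : -25 ≤ k ∧ k ≤ 25 := by constructor <;> nlinarith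
  exact List.mem_map.2 ⟨(k + 25).toNat, List.mem_range.2 (by omega), by omega⟩

theorem mem_valsC {c : ℤ} (h : (15 : ℤ) ∣ c - 5) (hb : c * c ≤ 5760) : c ∈ valsC := by
  obtain ⟨k, hk⟩ := h
  have h1 : -5 ≤ k ∧ k ≤ 4 := by
    obtain rfl : c = 15 * k + 5 := by omega
    constructor <;> nlinarith
  exact List.mem_map.2 ⟨(k + 5).toNat, List.mem_range.2 (by omega), by omega⟩

theorem two_classes : ∀ c ∈ List.range 1153, 1152 % c = 0 → 10200960 / c < 1593900 →
    10200960 % (1593900 - 10200960 / c) = 0 →
      (c = 8 ∧ 10200960 / (1593900 - 10200960 / c) = 32) ∨ (c = 32 ∧ 10200960 / (1593900 - 10200960 / c) = 8) := by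
  decide +kernel

theorem inv_vals : invVal 1 = 1 ∧ invVal 22 = 6 ∧ invVal 45 = -3 ∧ invVal 230 = 22 ∧ invVal 231 = 7 ∧
    invVal 253 = 13 ∧ invVal 770 = -14 ∧ invVal 896 = 0 ∧ invVal 990 = -18 ∧ invVal 1035 = 27 ∧ invVal 2024 = 8 := by
  decide +kernel

end Cfsg.Agent.Invol.M23Ord
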