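import Mathlib
import Cfsg.Agent.Lib.Invol.Order10200960.Column

/-!
Simple groups of order 10200960: the centralizers of the Sylow subgroups at five and seven, up to three
possibilities at seven, and the principal block at seven.
-/

set_option autoImplicit false
set_option linter.style.haveILetI false
set_option linter.unusedSectionVars false

namespace Cfsg.Agent.Invol.M23Ord

open scoped ComplexConjugate
open Cfsg Cfsg.Agent.Block Cfsg.Agent.Char Cfsg.Agent.Invol.M12Ord
open Cfsg.Agent.Invol.M22Ord (Row PBlk exists_pblk exists_gen subl subl_of_le)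

universe u

/-- The principal block at seven. -/
def rowS : Row := ([(2024, 1), (1035, -1)], 1, 990)

theorem seven_rows : ∀ e ∈ [2, 3, 6], ∀ r ∈ rows 7 e false okBoth,
    subl (rowDegs ((7 - 1) / e) r) allDegs = true → e = 3 ∧ r = rowS := by decide +kernel

theorem seven_opts : ∀ c ∈ List.range 385, 384 % c = 0 → c % 2 = 0 → c % 7 = 2 → c = 2 ∨ c = 16 ∨ c = 128 := by
  decide +kernel

variable {G : Type u} [Group G] [Finite G] [IsSimpleGroup G]
variable [Fact (Nat.Prime 5)] [Fact (Nat.Prime 7)] [Fact (Nat.Prime 11)] [Fact (Nat.Prime 23)]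

namespace Frame

variable (K : Frame G)

include K in
theorem not_dvd_C {p e c : ℕ} [Fact p.Prime] (B : PBlk G p e) (hp : p = 5 ∨ p = 7) (hC : Nat.card B.C = p * c) :
    ¬ 11 ∣ c ∧ ¬ 23 ∣ c := by
  refine ⟨fun h => ?_, K.A.not_dvd_C B (by omega) hC⟩
  obtain ⟨z, hz, hzC⟩ := B.exists_elem hC h
  obtain ⟨u, hu, -, huo, -⟩ := exists_gen B.P B.hP
  exact K.E.no_commute hz huo (by omega) (B.comm hu hzC).eq

include K in
/-- The centralizer of a Sylow subgroup at five has order fifteen. -/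
theorem card_C_five (hG : Nat.card G = 10200960) : Nat.card K.B.C = 5 * 3 := by
  haveI : Fact (Nat.Prime 2) := ⟨Nat.prime_two⟩
  have hG5 : Nat.card G = 5 * 2040192 := by rw [hG]
  obtain ⟨e, k, c, -, -, he, -, -, hC, hprod⟩ :=
    OrdP.exists_e' (M23Ord.not_comm hG) hG5 (by norm_num) (by norm_num) (by norm_num) K.B.P
  obtain rfl : e = 4 := he.symm.trans K.B.he
  change Nat.card K.B.C = 5 * c at hC
  obtain ⟨u, hu, -, huo, -⟩ := exists_gen K.B.P K.B.hP
  obtain ⟨h11, h23⟩ := K.not_dvd_C K.B (Or.inl rfl) hC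
  have h2 : ¬ 2 ∣ c := fun h => by
    obtain ⟨t, ht, htC⟩ := K.B.exists_elem hC h
    have h5 := orderOf_dvd_cn (K.B.comm hu htC).eq
    rw [huo, K.inv_cn hG ht] at h5
    norm_num at h5
  have h7 : ¬ 7 ∣ c := fun h => by
    obtain ⟨x, hx, hxC⟩ := K.B.exists_elem hC h
    obtain ⟨w, hwX, hw⟩ : ∃ w ∈ K.B.X, dg w = 231 := by
      have hm : ((231 : ℤ), (1 : ℤ)) ∈ (rowF.1 : Multiset (ℤ × ℤ)) := by decide
      rw [K.hF.1, Multiset.mem_map] at hm
      obtain ⟨w, hw, he'⟩ := hm
      rw [Prod.mk.injEq] at he'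
      exact ⟨w, hw, by omega⟩
    exact K.B.full_not_dvd hG (by norm_num) (by norm_num) hx hxC (Or.inl hwX) (by rw [hw]; norm_num [fullPow])
  have hd : c ∣ 56672 * 9 := ⟨5 * k + 1, by linarith⟩
  have hcop : c.Coprime 56672 := by
    rw [show (56672 : ℕ) = 2 ^ 5 * 7 * 11 * 23 by norm_num]
    exact Nat.Coprime.mul_right (Nat.Coprime.mul_right (Nat.Coprime.mul_right
      (((Nat.Prime.coprime_iff_not_dvd (by norm_num)).2 h2).symm.pow_right 5)
      ((Nat.Prime.coprime_iff_not_dvd (by norm_num)).2 h7).symm)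
      ((Nat.Prime.coprime_iff_not_dvd (by norm_num)).2 h11).symm)
      ((Nat.Prime.coprime_iff_not_dvd (by norm_num)).2 h23).symm
  have hc9 : c ∣ 9 := hcop.dvd_of_dvd_mul_left hd
  have hmem : c ∈ Nat.divisors 9 := Nat.mem_divisors.2 ⟨hc9, by norm_num⟩
  rw [show Nat.divisors 9 = {1, 3, 9} by decide] at hmem
  simp only [Finset.mem_insert, Finset.mem_singleton] at hmem
  rw [hC]
  rcases hmem with rfl | rfl | rfl <;> omega

include K in
/-- An element of order five has centralizer of order fifteen. -/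
theorem cn_five (hG : Nat.card G = 10200960) {x : G} (hx : orderOf x = 5) : cn x = 15 :=
  (K.B.cn_sylow hx).trans (K.card_C_five hG)

include K in
/-- The principal block at seven. -/
theorem exists_seven (hG : Nat.card G = 10200960) :
    ∃ S : PBlk G 7 3, S.IsRow rowS ∧ ∃ c, (c = 2 ∨ c = 16 ∨ c = 128) ∧ Nat.card S.C = 7 * c := by
  classical
  haveI : Fact (Nat.Prime 2) := ⟨Nat.prime_two⟩
  have hna := M23Ord.not_comm hG
  have hG7 : Nat.card G = 7 * 1457280 := by rw [hG]
  obtain ⟨P⟩ : Nonempty (Sylow 7 G) := inferInstance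
  obtain ⟨e, k, c, -, -, he, he1, hep, hC, hprod⟩ :=
    OrdP.exists_e' hna hG7 (by norm_num) (by norm_num) (by norm_num) P
  obtain ⟨S, hS, hmax⟩ := exists_pblk hna (by norm_num) P (OrdP.card_sylow_eq hG7 (by norm_num) P) he
    (by omega) hep
  have he236 : e ∈ [2, 3, 6] := by
    have h6 := Nat.le_of_dvd (by norm_num) hep
    have : e ≠ 4 ∧ e ≠ 5 := ⟨fun h => by rw [h] at hep; norm_num at hep, fun h => by rw [h] at hep; norm_num at hep⟩
    simp only [List.mem_cons, List.not_mem_nil, or_false]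
    omega
  obtain ⟨r, hr, hrow⟩ := S.exists_row23 hG (by norm_num) false okBoth (fun h => by simp at h)
    (fun χ hχ => okBoth_deg hG K.A K.E (by
      rcases hχ with hh | rfl
      · exact fun e0 => S.triv_X (e0 ▸ hh)
      · exact S.y_ne)) hmax
  have hd : (rowDegs ((7 - 1) / e) r : Multiset ℤ) = S.members.val.map fun χ => (dg χ : ℤ) := S.rowDegs_eq hrow
  have hsub : subl (rowDegs ((7 - 1) / e) r) allDegs = true := subl_of_le (by
    rw [hd, ← K.degs_eq hG]
    exact Multiset.map_le_map (Finset.val_le_iff.2 (Finset.subset_univ _)))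
  obtain ⟨rfl, rfl⟩ := seven_rows e he236 r hr hsub
  refine ⟨S, hrow, c, ?_, by rw [← hC, PBlk.C, hS]⟩
  have hSC : Nat.card S.C = 7 * c := by rw [← hC, PBlk.C, hS]
  obtain ⟨h11, h23⟩ := K.not_dvd_C S (Or.inr rfl) hSC
  obtain ⟨u, hu, -, huo, -⟩ := exists_gen S.P S.hP
  have h5 : ¬ 5 ∣ c := fun h => by
    obtain ⟨x, hx, hxC⟩ := S.exists_elem hSC h
    have h7 := orderOf_dvd_cn (S.comm hu hxC).eq
    rw [huo, K.cn_five hG hx] at h7
    norm_num at h7
  have h2 : 2 ∣ c := by
    obtain ⟨t, ht⟩ := exists_prime_orderOf_dvd_card' (G := G) 2 (by rw [hG]; norm_num)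
    obtain ⟨x, hx⟩ := exists_prime_orderOf_dvd_card' (G := Subgroup.centralizer ({t} : Set G)) 7
      (by rw [show Nat.card (Subgroup.centralizer ({t} : Set G)) = 2688 from K.inv_cn hG ht]; norm_num)
    rw [← Subgroup.orderOf_coe] at hx
    have h := orderOf_dvd_cn (Subgroup.mem_centralizer_singleton_iff.1 x.2).symm
    rw [ht, S.cn_sylow hx, hSC] at h
    omega
  have hd' : c ∣ 1265 * 384 := ⟨7 * k + 1, by linarith⟩
  have hcop : c.Coprime 1265 := by
    rw [show (1265 : ℕ) = 5 * 11 * 23 by norm_num]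
    exact Nat.Coprime.mul_right (Nat.Coprime.mul_right
      ((Nat.Prime.coprime_iff_not_dvd (by norm_num)).2 h5).symm
      ((Nat.Prime.coprime_iff_not_dvd (by norm_num)).2 h11).symm)
      ((Nat.Prime.coprime_iff_not_dvd (by norm_num)).2 h23).symm
  have h384 : c ∣ 384 := hcop.dvd_of_dvd_mul_left hd'
  have hle := Nat.le_of_dvd (by norm_num) h384
  refine seven_opts c (List.mem_range.2 (by omega)) (Nat.mod_eq_zero_of_dvd h384) (by omega) ?_
  have h1 : c * (7 * k + 1) = 485760 := by linarith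
  have h2' := congrArg (· % 7) h1
  simp only [Nat.mul_mod, Nat.add_mod, Nat.mul_mod_right, zero_add, Nat.mod_mod, Nat.mod_mul_right_mod] at h2'
  norm_num at h2'
  omega

end Frame

end Cfsg.Agent.Invol.M23Ord
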