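import Mathlib
import Cfsg.Agent.Lib.Invol.Order10200960.SevenFive

/-!
Simple groups of order 10200960: names for the seventeen irreducible characters, and the relations between their
values at the regular elements for the four principal blocks.
-/

set_option autoImplicit false
set_option linter.style.haveILetI false
set_option linter.unusedSectionVars false

namespace Cfsg.Agent.Invol.M23Ord

open scoped ComplexConjugate
open Cfsg Cfsg.Agent.Block Cfsg.Agent.Char Cfsg.Agent.Invol.M12Ord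
open Cfsg.Agent.Invol.M22Ord (Row PBlk exists_pblk exists_gen exists_lift)

universe u

variable {G : Type u} [Group G] [Finite G] [IsSimpleGroup G]
variable [Fact (Nat.Prime 5)] [Fact (Nat.Prime 7)] [Fact (Nat.Prime 11)] [Fact (Nat.Prime 23)]

/-- The blocks and the seventeen characters; the first of degree 231 lies in the block at five. -/
structure Data (G : Type u) [Group G] [Finite G] [IsSimpleGroup G] extends Frame G where
  S : PBlk G 7 3
  hS : S.IsRow rowS
  c22 : IrrCharacter G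
  c45 : IrrCharacter G
  c45' : IrrCharacter G
  c230 : IrrCharacter G
  c231 : IrrCharacter G
  c231b : IrrCharacter G
  c231c : IrrCharacter G
  c253 : IrrCharacter G
  c770 : IrrCharacter G
  c770' : IrrCharacter G
  c896 : IrrCharacter G
  c896' : IrrCharacter G
  c990 : IrrCharacter G
  c990' : IrrCharacter G
  c1035 : IrrCharacter G
  c2024 : IrrCharacter G
  univ_eq : (Finset.univ : Finset (IrrCharacter G)).val =
    ([trivialIrr G, c22, c45, c45', c230, c231, c231b, c231c, c253, c770, c770', c896, c896', c990, c990', c1035,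
      c2024] : List (IrrCharacter G))
  degs : ([trivialIrr G, c22, c45, c45', c230, c231, c231b, c231c, c253, c770, c770', c896, c896', c990, c990',
      c1035, c2024].map fun χ => (dg χ : ℤ)) =
    [1, 22, 45, 45, 230, 231, 231, 231, 253, 770, 770, 896, 896, 990, 990, 1035, 2024]
  mem231 : c231 ∈ toFrame.B.X

theorem exists_data (hG : Nat.card G = 10200960) : Nonempty (Data G) := by
  classical
  obtain ⟨K⟩ := exists_frame hG
  obtain ⟨S, hS, -⟩ := K.exists_seven hG
  obtain ⟨w, hwX, hw⟩ : ∃ w ∈ K.B.X, dg w = 231 := by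
    have hm : ((231 : ℤ), (1 : ℤ)) ∈ (rowF.1 : Multiset (ℤ × ℤ)) := by decide
    rw [K.hF.1, Multiset.mem_map] at hm
    obtain ⟨w, hw, he'⟩ := hm
    rw [Prod.mk.injEq] at he'
    exact ⟨w, hw, by omega⟩
  have htw : trivialIrr G ≠ w := fun h => K.B.triv_X (h ▸ hwX)
  set M := ((Finset.univ : Finset (IrrCharacter G)).erase (trivialIrr G)).erase w with hM
  have huniv : (Finset.univ : Finset (IrrCharacter G)).val = trivialIrr G ::ₘ w ::ₘ M.val := by
    rw [← Finset.insert_val_of_notMem (Finset.notMem_erase w _),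
      Finset.insert_erase (Finset.mem_erase.2 ⟨htw.symm, Finset.mem_univ w⟩),
      ← Finset.insert_val_of_notMem (Finset.notMem_erase _ _), Finset.insert_erase (Finset.mem_univ _)]
  have hmap : M.val.map (fun χ => (dg χ : ℤ)) =
      (([22, 45, 45, 230, 231, 231, 253, 770, 770, 896, 896, 990, 990, 1035, 2024] : List ℤ) : Multiset ℤ) := by
    have h := K.degs_eq hG
    rw [huniv, Multiset.map_cons, Multiset.map_cons, dg_trivial, hw, Multiset.coe_eq_coe.2 (show allDegs.Perm
      (1 :: 231 :: [22, 45, 45, 230, 231, 231, 253, 770, 770, 896, 896, 990, 990, 1035, 2024]) by decide)] at h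
    rw [← Multiset.cons_coe 1, ← Multiset.cons_coe 231, Nat.cast_one, show ((231 : ℕ) : ℤ) = 231 from rfl,
      Multiset.cons_inj_right, Multiset.cons_inj_right] at h
    exact h
  obtain ⟨L, hL, hLd⟩ := exists_lift (fun χ : IrrCharacter G => (dg χ : ℤ)) _ M.val hmap
  simp only [List.map_eq_cons_iff, List.map_eq_nil_iff] at hLd
  obtain ⟨c22, L1, rfl, e1, c45, L2, rfl, e2, c45', L3, rfl, e3, c230, L4, rfl, e4, c231b, L5, rfl, e5, c231c,
    L6, rfl, e6, c253, L7, rfl, e7, c770, L8, rfl, e8, c770', L9, rfl, e9, c896, L10, rfl, e10, c896', L11, rfl,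
    e11, c990, L12, rfl, e12, c990', L13, rfl, e13, c1035, L14, rfl, e14, c2024, L15, rfl, e15, rfl⟩ := hLd
  refine ⟨⟨K, S, hS, c22, c45, c45', c230, w, c231b, c231c, c253, c770, c770', c896, c896', c990, c990', c1035,
    c2024, ?_, ?_, hwX⟩⟩
  · rw [huniv, ← hL, Multiset.cons_coe, Multiset.cons_coe, Multiset.coe_eq_coe]
    refine List.Perm.cons _ ?_
    exact List.perm_middle (l₁ := [c22, c45, c45', c230]).symm
  · simp [dg_trivial, hw, e1, e2, e3, e4, e5, e6, e7, e8, e9, e10, e11, e12, e13, e14, e15]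

namespace Data

variable (D : Data G)

theorem deg_list : dg D.c22 = 22 ∧ dg D.c45 = 45 ∧ dg D.c45' = 45 ∧ dg D.c230 = 230 ∧ dg D.c231 = 231 ∧
    dg D.c231b = 231 ∧ dg D.c231c = 231 ∧ dg D.c253 = 253 ∧ dg D.c770 = 770 ∧ dg D.c770' = 770 ∧
    dg D.c896 = 896 ∧ dg D.c896' = 896 ∧ dg D.c990 = 990 ∧ dg D.c990' = 990 ∧ dg D.c1035 = 1035 ∧
    dg D.c2024 = 2024 := by
  have h := D.degs
  simp only [List.map_cons, List.map_nil, List.cons.injEq, and_true] at h
  omega

include D in
/-- Sums over the irreducible characters. -/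
theorem sum_univ {M : Type*} [AddCommMonoid M] (f : IrrCharacter G → M) :
    ∑ χ : IrrCharacter G, f χ = f (trivialIrr G) + (f D.c22 + (f D.c45 + (f D.c45' + (f D.c230 + (f D.c231 +
      (f D.c231b + (f D.c231c + (f D.c253 + (f D.c770 + (f D.c770' + (f D.c896 + (f D.c896' + (f D.c990 +
      (f D.c990' + (f D.c1035 + f D.c2024))))))))))))))) := by
  show (Finset.univ.val.map f).sum = _
  rw [D.univ_eq]
  simp

include D in
/-- The only character of degree 22. -/
theorem eq_c22 {χ : IrrCharacter G} (h : dg χ = 22) : χ = D.c22 := by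
  have hm : χ ∈ (Finset.univ : Finset (IrrCharacter G)).val := Finset.mem_univ_val χ
  rw [D.univ_eq] at hm
  obtain ⟨h1, h2, h3, h4, h5, h6, h7, h8, h9, h10, h11, h12, h13, h14, h15, h16⟩ := D.deg_list
  simp only [Multiset.mem_coe, List.mem_cons, List.not_mem_nil, or_false] at hm
  rcases hm with rfl | rfl | rfl | rfl | rfl | rfl | rfl | rfl | rfl | rfl | rfl | rfl | rfl | rfl | rfl | rfl | rfl
  all_goals first
    | rfl
    | (rw [dg_trivial] at h; omega)
    | omega

include D in
theorem nodup : ([trivialIrr G, D.c22, D.c45, D.c45', D.c230, D.c231, D.c231b, D.c231c, D.c253, D.c770, D.c770',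
    D.c896, D.c896', D.c990, D.c990', D.c1035, D.c2024] : List (IrrCharacter G)).Nodup := by
  have := (Finset.univ : Finset (IrrCharacter G)).nodup
  rwa [D.univ_eq, Multiset.coe_nodup] at this

include D in
/-- Sums over the unexceptional part of a block whose members are told by their degrees. -/
theorem sum_X {p e : ℕ} [Fact p.Prime] (B : PBlk G p e) (P : ℕ → Bool) (hP1 : P 1 = false)
    (h : ∀ χ : IrrCharacter G, χ ≠ trivialIrr G → (χ ∈ B.X ↔ P (dg χ) = true)) (F : ℕ → ℤ)
    (hF : ∀ χ ∈ B.X, B.s χ = F (dg χ)) (g : G) :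
    ∑ χ ∈ B.X, (B.s χ : ℂ) * (χ : G → ℂ) g =
      ∑ χ : IrrCharacter G, if P (dg χ) = true then (F (dg χ) : ℂ) * (χ : G → ℂ) g else 0 := by
  classical
  rw [← Finset.sum_filter]
  refine Finset.sum_congr ?_ fun χ hχ => ?_
  · ext χ
    simp only [Finset.mem_filter, Finset.mem_univ, true_and]
    by_cases h0 : χ = trivialIrr G
    · subst h0
      simp [B.triv_X, dg_trivial, hP1]
    · exact h χ h0
  · simp only [Finset.mem_filter, Finset.mem_univ, true_and] at hχ
    by_cases hm : χ ∈ B.X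
    · rw [hF χ hm]
    · exfalso
      refine hm ((h χ fun h0 => ?_).2 hχ)
      rw [h0, dg_trivial, hP1] at hχ
      exact Bool.noConfusion hχ

include D in
/-- The relation in the block at eleven. -/
theorem rel_eleven {g : G} (hg : ¬ 11 ∣ orderOf g) :
    (D.c896 : G → ℂ) g = 1 + (D.c45 : G → ℂ) g + (D.c45' : G → ℂ) g - (D.c230 : G → ℂ) g + (D.c1035 : G → ℂ) g ∧
      (D.c896' : G → ℂ) g = (D.c896 : G → ℂ) g := by
  classical
  have hrow := D.hE
  have hy : dg D.E.1.y = 896 := by have h : (896 : ℤ) = (dg D.E.1.y : ℤ) := hrow.2.2; omega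
  have hX : ∀ χ ∈ D.E.1.X, ((dg χ : ℤ), D.E.1.s χ) ∈ rowE.1 := fun χ hχ => by
    have : ((dg χ : ℤ), D.E.1.s χ) ∈ (rowE.1 : Multiset (ℤ × ℤ)) := by
      rw [hrow.1]; exact Multiset.mem_map.2 ⟨χ, hχ, rfl⟩
    exact this
  have hY : ∀ χ : IrrCharacter G, dg χ = 896 → χ ∈ D.E.1.Y := fun χ hd => by
    have hm := D.E.1.mem_members_of D.E.2 (χ := χ) (fun h0 => by rw [h0, dg_trivial] at hd; omega)
      (by rw [hd]; norm_num)
    refine (D.E.1.mem_members.1 hm).resolve_left fun h => ?_
    have := hX χ h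
    simp [rowE, hd] at this
  have hs : ∀ χ ∈ D.E.1.X, D.E.1.s χ = (fun d : ℕ => if d = 230 then (-1 : ℤ) else 1) (dg χ) := fun χ hχ => by
    have := hX χ hχ
    simp only [rowE, List.mem_cons, Prod.mk.injEq, List.not_mem_nil, or_false] at this
    dsimp only
    split_ifs <;> omega
  have h := D.E.1.rel D.E.1.y D.E.1.y_mem g hg
  rw [D.sum_X D.E.1 (fun d => d == 1035 || d == 230 || d == 45) rfl (fun χ h0 => ⟨fun hχ => by
      have := hX χ hχ
      simp only [rowE, List.mem_cons, Prod.mk.injEq, List.not_mem_nil, or_false] at this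
      simp only [Bool.or_eq_true, beq_iff_eq]
      omega, fun hd => by
      simp only [Bool.or_eq_true, beq_iff_eq] at hd
      have hm := D.E.1.mem_members_of D.E.2 h0 (by omega)
      exact (D.E.1.mem_members.1 hm).resolve_right fun h => by
        have := D.E.1.dg_Y h
        omega⟩) (fun d : ℕ => if d = 230 then (-1 : ℤ) else 1) hs, show D.E.1.ε = 1 from hrow.2.1.symm, D.sum_univ] at h
  obtain ⟨h1, h2, h3, h4, h5, h6, h7, h8, h9, h10, h11, h12, h13, h14, h15, h16⟩ := D.deg_list
  rw [D.E.1.eq_y (hY _ h11) hg, D.E.1.eq_y (hY _ h12) hg]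
  refine ⟨?_, rfl⟩
  simp [h1, h2, h3, h4, h5, h6, h7, h8, h9, h10, h11, h12, h13, h14, h15, h16, dg_trivial] at h
  linear_combination h

include D in
/-- The relation in the block at twenty-three. -/
theorem rel_twentythree (hG : Nat.card G = 10200960) {g : G} (hg : ¬ 23 ∣ orderOf g) :
    (D.c770 : G → ℂ) g = 1 - (D.c22 : G → ℂ) g - (D.c45 : G → ℂ) g - (D.c45' : G → ℂ) g + (D.c231 : G → ℂ) g +
      (D.c231b : G → ℂ) g + (D.c231c : G → ℂ) g - (D.c896 : G → ℂ) g - (D.c896' : G → ℂ) g +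
      (D.c990 : G → ℂ) g + (D.c990' : G → ℂ) g ∧ (D.c770' : G → ℂ) g = (D.c770 : G → ℂ) g := by
  classical
  have hrow := D.toFrame.rowA_isRow hG
  have hy : dg D.A.1.y = 770 := by have h : (770 : ℤ) = (dg D.A.1.y : ℤ) := hrow.2.2; omega
  have hX : ∀ χ ∈ D.A.1.X, ((dg χ : ℤ), D.A.1.s χ) ∈ rowA.1 := fun χ hχ => by
    have : ((dg χ : ℤ), D.A.1.s χ) ∈ (rowA.1 : Multiset (ℤ × ℤ)) := by
      rw [hrow.1]; exact Multiset.mem_map.2 ⟨χ, hχ, rfl⟩
    exact this
  have hY : ∀ χ : IrrCharacter G, dg χ = 770 → χ ∈ D.A.1.Y := fun χ hd => by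
    have hm := D.A.1.mem_members_of D.A.2 (χ := χ) (fun h0 => by rw [h0, dg_trivial] at hd; omega)
      (by rw [hd]; norm_num)
    refine (D.A.1.mem_members.1 hm).resolve_left fun h => ?_
    have := hX χ h
    simp [rowA, hd] at this
  have hs : ∀ χ ∈ D.A.1.X,
      D.A.1.s χ = (fun d : ℕ => if d = 231 ∨ d = 990 then (1 : ℤ) else -1) (dg χ) := fun χ hχ => by
    have := hX χ hχ
    simp only [rowA, List.mem_cons, Prod.mk.injEq, List.not_mem_nil, or_false] at this
    dsimp only
    split_ifs <;> omega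
  have h := D.A.1.rel D.A.1.y D.A.1.y_mem g hg
  rw [D.sum_X D.A.1 (fun d => d == 22 || d == 45 || d == 231 || d == 896 || d == 990) rfl
    (fun χ h0 => ⟨fun hχ => by
      have := hX χ hχ
      simp only [rowA, List.mem_cons, Prod.mk.injEq, List.not_mem_nil, or_false] at this
      simp only [Bool.or_eq_true, beq_iff_eq]
      omega, fun hd => by
      simp only [Bool.or_eq_true, beq_iff_eq] at hd
      have hm := D.A.1.mem_members_of D.A.2 h0 (by omega)
      exact (D.A.1.mem_members.1 hm).resolve_right fun h => by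
        have := D.A.1.dg_Y h
        omega⟩) (fun d : ℕ => if d = 231 ∨ d = 990 then (1 : ℤ) else -1) hs, show D.A.1.ε = 1 from hrow.2.1.symm, D.sum_univ] at h
  obtain ⟨h1, h2, h3, h4, h5, h6, h7, h8, h9, h10, h11, h12, h13, h14, h15, h16⟩ := D.deg_list
  rw [D.A.1.eq_y (hY _ h9) hg, D.A.1.eq_y (hY _ h10) hg]
  refine ⟨?_, rfl⟩
  simp [h1, h2, h3, h4, h5, h6, h7, h8, h9, h10, h11, h12, h13, h14, h15, h16, dg_trivial] at h
  linear_combination h

include D in
/-- The relation in the block at seven. -/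
theorem rel_seven {g : G} (hg : ¬ 7 ∣ orderOf g) :
    (D.c990 : G → ℂ) g = 1 - (D.c1035 : G → ℂ) g + (D.c2024 : G → ℂ) g ∧
      (D.c990' : G → ℂ) g = (D.c990 : G → ℂ) g := by
  classical
  have hrow := D.hS
  have hy : dg D.S.y = 990 := by have h : (990 : ℤ) = (dg D.S.y : ℤ) := hrow.2.2; omega
  obtain ⟨h1, h2, h3, h4, h5, h6, h7, h8, h9, h10, h11, h12, h13, h14, h15, h16⟩ := D.deg_list
  have hX : ∀ χ ∈ D.S.X, ((dg χ : ℤ), D.S.s χ) ∈ rowS.1 := fun χ hχ => by
    have : ((dg χ : ℤ), D.S.s χ) ∈ (rowS.1 : Multiset (ℤ × ℤ)) := by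
      rw [hrow.1]; exact Multiset.mem_map.2 ⟨χ, hχ, rfl⟩
    exact this
  have huniq : ∀ χ : IrrCharacter G,
      (dg χ = 2024 → χ = D.c2024) ∧ (dg χ = 1035 → χ = D.c1035) ∧ (dg χ = 990 → χ = D.c990 ∨ χ = D.c990') := by
    intro χ
    have hm : χ ∈ (Finset.univ : Finset (IrrCharacter G)).val := Finset.mem_univ_val χ
    rw [D.univ_eq] at hm
    simp only [Multiset.mem_coe, List.mem_cons, List.not_mem_nil, or_false] at hm
    rcases hm with rfl | rfl | rfl | rfl | rfl | rfl | rfl | rfl | rfl | rfl | rfl | rfl | rfl | rfl | rfl | rfl | rfl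
    all_goals simp [h1, h2, h3, h4, h5, h6, h7, h8, h9, h10, h11, h12, h13, h14, h15, h16, dg_trivial]
  have hmemX : ∀ d : ℕ, (d = 2024 ∨ d = 1035) → ∃ χ ∈ D.S.X, dg χ = d := fun d hd => by
    have hm : ((d : ℤ), if d = 2024 then (1 : ℤ) else -1) ∈ (rowS.1 : Multiset (ℤ × ℤ)) := by
      rcases hd with rfl | rfl <;> decide
    rw [hrow.1, Multiset.mem_map] at hm
    obtain ⟨w, hw, he'⟩ := hm
    rw [Prod.mk.injEq] at he'
    exact ⟨w, hw, by omega⟩
  have hYc : D.S.Y.card = 2 := by have := D.S.card_Y; omega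
  have hY : D.S.Y = {D.c990, D.c990'} := by
    refine Finset.eq_of_subset_of_card_le (fun χ hχ => ?_) ?_
    · have := (D.S.dg_Y hχ).trans hy
      rcases (huniq χ).2.2 this with rfl | rfl <;> simp
    · rw [hYc]; exact Finset.card_le_two
  have hs : ∀ χ ∈ D.S.X, D.S.s χ = (fun d : ℕ => if d = 2024 then (1 : ℤ) else -1) (dg χ) := fun χ hχ => by
    have := hX χ hχ
    simp only [rowS, List.mem_cons, Prod.mk.injEq, List.not_mem_nil, or_false] at this
    dsimp only
    split_ifs <;> omega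
  have h := D.S.rel D.S.y D.S.y_mem g hg
  rw [D.sum_X D.S (fun d => d == 1035 || d == 2024) rfl
    (fun χ h0 => ⟨fun hχ => by
      have := hX χ hχ
      simp only [rowS, List.mem_cons, Prod.mk.injEq, List.not_mem_nil, or_false] at this
      simp only [Bool.or_eq_true, beq_iff_eq]
      omega, fun hd => by
      simp only [Bool.or_eq_true, beq_iff_eq] at hd
      rcases hd with hd | hd
      · obtain ⟨w, hw, hwd⟩ := hmemX 1035 (Or.inr rfl)
        rw [(huniq χ).2.1 hd, ← (huniq w).2.1 hwd]; exact hw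
      · obtain ⟨w, hw, hwd⟩ := hmemX 2024 (Or.inl rfl)
        rw [(huniq χ).1 hd, ← (huniq w).1 hwd]; exact hw⟩) (fun d : ℕ => if d = 2024 then (1 : ℤ) else -1) hs,
    show D.S.ε = 1 from hrow.2.1.symm, D.sum_univ] at h
  rw [D.S.eq_y (ψ := D.c990) (by rw [hY]; simp) hg, D.S.eq_y (ψ := D.c990') (by rw [hY]; simp) hg]
  refine ⟨?_, rfl⟩
  simp [h1, h2, h3, h4, h5, h6, h7, h8, h9, h10, h11, h12, h13, h14, h15, h16, dg_trivial] at h
  linear_combination h

include D in
/-- The relation in the block at five. -/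
theorem rel_five {g : G} (hg : ¬ 5 ∣ orderOf g) :
    (D.c2024 : G → ℂ) g = 1 + (D.c231 : G → ℂ) g + (D.c896 : G → ℂ) g + (D.c896' : G → ℂ) g := by
  classical
  have hrow := D.hF
  have hy : dg D.B.y = 2024 := by have h : (2024 : ℤ) = (dg D.B.y : ℤ) := hrow.2.2; omega
  obtain ⟨h1, h2, h3, h4, h5, h6, h7, h8, h9, h10, h11, h12, h13, h14, h15, h16⟩ := D.deg_list
  have hX : ∀ χ ∈ D.B.X, ((dg χ : ℤ), D.B.s χ) ∈ rowF.1 := fun χ hχ => by
    have : ((dg χ : ℤ), D.B.s χ) ∈ (rowF.1 : Multiset (ℤ × ℤ)) := by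
      rw [hrow.1]; exact Multiset.mem_map.2 ⟨χ, hχ, rfl⟩
    exact this
  have hone : (D.B.X.filter fun χ => dg χ = 231).card = 1 := by
    have := congrArg (fun m : Multiset (ℤ × ℤ) => Multiset.countP (fun x => x.1 = 231) m) hrow.1
    simp only [Multiset.countP_map] at this
    rw [Finset.card_def, Finset.filter_val]
    refine Eq.trans ?_ this.symm
    refine congrArg Multiset.card (Multiset.filter_congr fun χ _ => ?_)
    omega
  have huniq : ∀ χ : IrrCharacter G, (dg χ = 2024 → χ = D.c2024) ∧ (dg χ = 896 → χ = D.c896 ∨ χ = D.c896') := by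
    intro χ
    have hm : χ ∈ (Finset.univ : Finset (IrrCharacter G)).val := Finset.mem_univ_val χ
    rw [D.univ_eq] at hm
    simp only [Multiset.mem_coe, List.mem_cons, List.not_mem_nil, or_false] at hm
    rcases hm with rfl | rfl | rfl | rfl | rfl | rfl | rfl | rfl | rfl | rfl | rfl | rfl | rfl | rfl | rfl | rfl | rfl
    all_goals simp [h1, h2, h3, h4, h5, h6, h7, h8, h9, h10, h11, h12, h13, h14, h15, h16, dg_trivial]
  have hnd := D.nodup
  simp only [List.nodup_cons, List.mem_cons, List.not_mem_nil, or_false, not_or] at hnd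
  have hne : D.c896 ≠ D.c896' := by tauto
  have hsub : D.B.X = {D.c231, D.c896, D.c896'} := by
    refine Finset.eq_of_subset_of_card_le (fun χ hχ => ?_) ?_
    · have := hX χ hχ
      simp only [rowF, List.mem_cons, Prod.mk.injEq, List.not_mem_nil, or_false] at this
      by_cases hd : dg χ = 231
      · have : χ = D.c231 := Finset.card_le_one.1 hone.le χ (Finset.mem_filter.2 ⟨hχ, hd⟩) D.c231
          (Finset.mem_filter.2 ⟨D.mem231, h5⟩)
        simp [this]
      · rcases (huniq χ).2 (by omega) with rfl | rfl <;> simp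
    · have := D.B.card_X
      have := Finset.card_le_three (a := D.c231) (b := D.c896) (c := D.c896')
      omega
  have hs : ∀ χ ∈ D.B.X, D.B.s χ = 1 := fun χ hχ => by
    have := hX χ hχ
    simp only [rowF, List.mem_cons, Prod.mk.injEq, List.not_mem_nil, or_false] at this
    omega
  have h := D.B.rel D.B.y D.B.y_mem g hg
  rw [(huniq D.B.y).1 hy, Finset.sum_congr rfl (fun χ hχ => by rw [hs χ hχ, Int.cast_one, one_mul]),
    show D.B.ε = 1 from hrow.2.1.symm, hsub, Finset.sum_insert (by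
      simp only [Finset.mem_insert, Finset.mem_singleton, not_or]
      exact ⟨fun e => by rw [e] at h5; omega, fun e => by rw [e] at h5; omega⟩),
    Finset.sum_pair hne] at h
  push_cast at h
  linear_combination h

end Data

end Cfsg.Agent.Invol.M23Ord
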