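import Mathlib
import Cfsg.Agent.Lib.Invol.Order10200960.Labels
import Cfsg.Agent.Lib.Invol.Order10200960.InvClass
import Cfsg.Agent.Lib.Invol.Order10200960.ClassTools

/-!
Simple groups of order 10200960: there are seventeen classes, so the centralizer of a Sylow subgroup at seven has
order fourteen.
-/

set_option autoImplicit false
set_option linter.style.haveILetI false
set_option linter.unusedSectionVars false

namespace Cfsg.Agent.Invol.M22Ord.PBlk

open Cfsg Cfsg.Agent.Block Cfsg.Agent.Char Cfsg.Agent.Invol.M12Ord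
open Cfsg.Agent.Invol

universe u

variable {G : Type u} [Group G] [Finite G] [IsSimpleGroup G] {p e : ℕ} [Fact p.Prime] (B : PBlk G p e)

include B in
/-- With an automizer of odd order an element of order `p` is not conjugate to its inverse. -/
theorem not_real (hp2 : p ≠ 2) (he : ¬ 2 ∣ e) {x : G} (hx : orderOf x = p) : ¬ IsConj x x⁻¹ := by
  intro h
  obtain ⟨k, hk⟩ := B.exists_conj_mem hx
  obtain ⟨g, hg⟩ := isConj_iff.1 h
  refine he (B.even_of_inverts (g := k * g * k⁻¹) hk (fun e0 => ?_) hp2 ?_)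
  · exact ne_one_of_orderOf hx (Fact.out : p.Prime).one_lt.ne' (conj_eq_one_iff.1 e0)
  · calc k * g * k⁻¹ * (k * x * k⁻¹) * (k * g * k⁻¹)⁻¹ = k * (g * x * g⁻¹) * k⁻¹ := by group
      _ = k * x⁻¹ * k⁻¹ := by rw [hg]
      _ = (k * x * k⁻¹)⁻¹ := by group

end Cfsg.Agent.Invol.M22Ord.PBlk

namespace Cfsg.Agent.Invol.M23Ord

open scoped ComplexConjugate
open Cfsg Cfsg.Agent.Block Cfsg.Agent.Char Cfsg.Agent.Invol.M12Ord
open Cfsg.Agent.Invol.M22Ord (PBlk exists_pblk exists_gen)

universe u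

variable {G : Type u} [Group G] [Finite G] [IsSimpleGroup G]
variable [Fact (Nat.Prime 5)] [Fact (Nat.Prime 7)] [Fact (Nat.Prime 11)] [Fact (Nat.Prime 23)]

namespace Data

variable (D : Data G)

include D in
/-- There are seventeen classes. -/
theorem card_classes : Nat.card (ConjClasses G) = 17 := by
  rw [← Cfsg.Agent.Char.card_irrCharacter, Nat.card_eq_fintype_card, ← Finset.card_univ, Finset.card_def, D.univ_eq]
  rfl

include D in
/-- An element of order fifteen as a product, with its five-part generating a Sylow subgroup. -/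
theorem exists_fifteen (hG : Nat.card G = 10200960) :
    ∃ x z : G, orderOf x = 5 ∧ orderOf z = 3 ∧ Commute x z ∧ orderOf (x * z) = 15 := by
  haveI : Fact (Nat.Prime 3) := ⟨by norm_num⟩
  obtain ⟨x, hx, -, hxo, -⟩ := exists_gen D.B.P D.B.hP
  obtain ⟨z, hz, hzC⟩ := D.B.exists_elem (D.toFrame.card_C_five hG) dvd_rfl
  refine ⟨x, z, hxo, hz, D.B.comm hx hzC, ?_⟩
  rw [(D.B.comm hx hzC).orderOf_mul_eq_mul_orderOf_of_coprime (by rw [hxo, hz]; norm_num), hxo, hz]

include D in
/-- The centralizer of a Sylow subgroup at seven has order fourteen. -/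
theorem card_C_seven (hG : Nat.card G = 10200960) : Nat.card D.S.C = 7 * 2 := by
  classical
  haveI : Fact (Nat.Prime 2) := ⟨Nat.prime_two⟩
  have hna := M23Ord.not_comm hG
  obtain ⟨e, k, c, -, -, -, -, -, hC, hprod⟩ := OrdP.exists_e' hna (m := 1457280) (by rw [hG])
    (by norm_num) (by norm_num) (by norm_num) D.S.P
  change Nat.card D.S.C = 7 * c at hC
  obtain ⟨S', hS', c', hc', hC'⟩ := D.toFrame.exists_seven hG
  have hcc : c = c' := by
    obtain ⟨u, -, -, huo, -⟩ := exists_gen D.S.P D.S.hP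
    have h1 := D.S.cn_sylow huo
    rw [S'.cn_sylow huo, hC', hC] at h1
    omega
  subst hcc
  rw [hC]
  rcases hc' with h | h
  · rw [h]
  exfalso
  obtain ⟨a, ha, hca⟩ : ∃ a, 4 ≤ a ∧ c = 2 ^ a := by
    rcases h with rfl | rfl
    · exact ⟨4, le_rfl, rfl⟩
    · exact ⟨7, by norm_num, rfl⟩
  have hpc : ¬ 7 ∣ c := by rcases h with rfl | rfl <;> norm_num
  obtain ⟨T⟩ : Nonempty (Sylow 2 D.S.C) := inferInstance
  have hTc : Nat.card (T : Subgroup D.S.C) = 2 ^ a := by
    rw [T.card_eq_multiplicity, hC, hca, Nat.factorization_mul (by norm_num) (pow_ne_zero _ two_ne_zero),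
      Finsupp.add_apply, Nat.prime_two.factorization_pow, Finsupp.single_eq_same,
      Nat.factorization_eq_zero_of_not_dvd (by norm_num : ¬ 2 ∣ 7), zero_add]
  obtain ⟨u, hu, hu1, huo, -⟩ := exists_gen D.S.P D.S.hP
  have hu1' : u⁻¹ ≠ 1 := inv_ne_one.2 hu1
  have hsev : ∀ w ∈ (D.S.P : Subgroup G), w ≠ 1 → orderOf w = 7 := fun w hw hw1 => D.S.orderOf_u hw hw1
  have hr2 : ∀ r : (T : Subgroup D.S.C), ¬ 7 ∣ orderOf ((r : D.S.C) : G) := fun r hd => by
    rw [Subgroup.orderOf_coe, Subgroup.orderOf_coe] at hd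
    have h1 := hd.trans (hTc ▸ orderOf_dvd_natCard r)
    exact absurd ((Nat.prime_dvd_prime_iff_eq Fact.out Nat.prime_two).1 ((Fact.out : Nat.Prime 7).dvd_of_dvd_pow h1))
      (by norm_num)
  have hord : ∀ w ∈ (D.S.P : Subgroup G), w ≠ 1 → ∀ r : (T : Subgroup D.S.C),
      7 ∣ orderOf (w * ((r : D.S.C) : G)) := fun w hw hw1 r => D.S.orderOf_uv hw hw1 r.1.2 (hr2 r)
  have hpow : ∀ w ∈ (D.S.P : Subgroup G), ∀ r : (T : Subgroup D.S.C),
      (w * ((r : D.S.C) : G)) ^ c = w ^ c := fun w hw r => by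
    rw [(D.S.comm hw r.1.2).mul_pow, D.S.card_C hC hpc r.1.2 (hr2 r), mul_one]
  -- the generated subgroup
  have hdec : ∀ g ∈ D.S.C, ∃ w ∈ (D.S.P : Subgroup G), ∃ r : (T : Subgroup D.S.C), w * ((r : D.S.C) : G) = g := by
    let f : Prod ↥(D.S.P : Subgroup G) ↥(T : Subgroup D.S.C) → D.S.C := fun x =>
      ⟨(x.1 : G) * ((x.2 : D.S.C) : G), mul_mem (D.S.P_le_C x.1.2) x.2.1.2⟩
    have hf : Function.Bijective f := by
      rw [Nat.bijective_iff_injective_and_card]
      refine ⟨fun x y hxy => ?_, ?_⟩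
      · obtain ⟨h1, h2⟩ := D.S.uv_inj hC hpc x.1.2 y.1.2 x.2.1.2 (hr2 _) y.2.1.2 (hr2 _) (congrArg Subtype.val hxy)
        exact Prod.ext (Subtype.ext h1) (Subtype.ext (Subtype.ext h2))
      · rw [Nat.card_prod, hTc, hC, hca, show Nat.card (D.S.P : Subgroup G) = 7 from D.S.hP]
    intro g hg
    obtain ⟨x, hx⟩ := hf.2 ⟨g, hg⟩
    exact ⟨x.1, x.1.2, x.2, congrArg Subtype.val hx⟩
  haveI := Fintype.ofFinite (ConjClasses (T : Subgroup D.S.C))
  set R : List (T : Subgroup D.S.C) :=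
    ((Finset.univ : Finset (ConjClasses (T : Subgroup D.S.C))).toList).map (Function.surjInv ConjClasses.mk_surjective)
    with hR
  have hRlen : 5 ≤ R.length := by
    rw [hR, List.length_map, Finset.length_toList, Finset.card_univ, ← Nat.card_eq_fintype_card]
    exact five_le_classes ha hTc
  have hRsep : R.Pairwise fun r s => ¬ IsConj r s := by
    rw [hR, List.pairwise_map]
    refine (Finset.nodup_toList _).imp fun {x y} hxy hc => hxy ?_
    have h1 := ConjClasses.mk_eq_mk_iff_isConj.2 hc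
    rwa [Function.surjInv_eq ConjClasses.mk_surjective x, Function.surjInv_eq ConjClasses.mk_surjective y] at h1
  have hsame : ∀ w ∈ (D.S.P : Subgroup G), w ≠ 1 → ∀ r s : (T : Subgroup D.S.C),
      IsConj (w * ((r : D.S.C) : G)) (w * ((s : D.S.C) : G)) → IsConj r s := by
    intro w hw hw1 r s hrs
    obtain ⟨g, hg⟩ := isConj_iff.1 hrs
    have hwc : g * w ^ c * g⁻¹ = w ^ c := by
      rw [← hpow w hw r, ← conj_pow, hg, hpow w hw s, hpow w hw r]
    have hwc1 : w ^ c ≠ 1 := fun e0 => hw1 (D.S.pow_c_inj hpc hw (one_mem _) (by rw [e0, one_pow]))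
    have hgC : g ∈ D.S.C := by
      rw [← D.S.centralizer_gen (pow_mem hw c) hwc1, Subgroup.mem_centralizer_singleton_iff]
      calc g * w ^ c = g * w ^ c * g⁻¹ * g := by group
        _ = w ^ c * g := by rw [hwc]
    obtain ⟨b, hb, q, rfl⟩ := hdec g hgC
    refine isConj_iff.2 ⟨q, Subtype.ext (Subtype.ext ?_)⟩
    show ((q : D.S.C) : G) * ((r : D.S.C) : G) * ((q : D.S.C) : G)⁻¹ = ((s : D.S.C) : G)
    have hbq := (D.S.comm hb q.1.2).eq
    have hwq := (D.S.comm hw q.1.2).eq
    have hbr := (D.S.comm hb r.1.2).eq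
    have hbw : b * w = w * b := (D.S.comm hb (D.S.P_le_C hw)).eq
    refine mul_left_cancel (a := w) (Eq.trans ?_ hg)
    symm
    calc b * ((q : D.S.C) : G) * (w * ((r : D.S.C) : G)) * (b * ((q : D.S.C) : G))⁻¹
        = b * (((q : D.S.C) : G) * w) * ((r : D.S.C) : G) * ((q : D.S.C) : G)⁻¹ * b⁻¹ := by group
      _ = b * (w * ((q : D.S.C) : G)) * ((r : D.S.C) : G) * ((q : D.S.C) : G)⁻¹ * b⁻¹ := by rw [hwq]
      _ = (b * w) * (((q : D.S.C) : G) * ((r : D.S.C) : G) * ((q : D.S.C) : G)⁻¹) * b⁻¹ := by group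
      _ = (w * b) * (((q * r * q⁻¹ : (T : Subgroup D.S.C)) : D.S.C) : G) * b⁻¹ := by rw [hbw]; rfl
      _ = w * (b * (((q * r * q⁻¹ : (T : Subgroup D.S.C)) : D.S.C) : G)) * b⁻¹ := by group
      _ = w * ((((q * r * q⁻¹ : (T : Subgroup D.S.C)) : D.S.C) : G) * b) * b⁻¹ := by
          rw [(D.S.comm hb (q * r * q⁻¹ : (T : Subgroup D.S.C)).1.2).eq]
      _ = _ := by simp [mul_assoc]
  have hdiff : ∀ r s : (T : Subgroup D.S.C),
      ¬ IsConj (u * ((r : D.S.C) : G)) (u⁻¹ * ((s : D.S.C) : G)) := fun r s hrs => by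
    have h1 := conj_pow_of hrs c
    rw [hpow u hu r, hpow u⁻¹ (inv_mem hu) s, inv_pow] at h1
    refine D.S.not_real (by norm_num) (by norm_num) ?_ h1
    exact hsev _ (pow_mem hu c) fun e0 => hu1 (D.S.pow_c_inj hpc hu (one_mem _) (by rw [e0, one_pow]))
  set L7 : List G := R.map (fun r : (T : Subgroup D.S.C) => u * ((r : D.S.C) : G)) ++
    R.map (fun r : (T : Subgroup D.S.C) => u⁻¹ * ((r : D.S.C) : G)) with hL7
  have h7sep : Sep L7 := by
    refine List.pairwise_append.2 ⟨?_, ?_, ?_⟩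
    · exact List.pairwise_map.2 (hRsep.imp fun {r s} h hc => h (hsame u hu hu1 r s hc))
    · exact List.pairwise_map.2 (hRsep.imp fun {r s} h hc => h (hsame u⁻¹ (inv_mem hu) hu1' r s hc))
    · intro a ha b hb
      obtain ⟨r, -, rfl⟩ := List.mem_map.1 ha
      obtain ⟨s, -, rfl⟩ := List.mem_map.1 hb
      exact hdiff r s
  have h7ord : ∀ a ∈ L7, 7 ∣ orderOf a := fun a ha => by
    rcases List.mem_append.1 ha with ha | ha <;> obtain ⟨r, -, rfl⟩ := List.mem_map.1 ha
    · exact hord u hu hu1 r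
    · exact hord u⁻¹ (inv_mem hu) hu1' r
  obtain ⟨t, ht⟩ := exists_prime_orderOf_dvd_card' (G := G) 2 (by rw [hG]; norm_num)
  obtain ⟨x, z, hx, -, -, hxz⟩ := D.exists_fifteen hG
  obtain ⟨w, -, -, hw, -⟩ := exists_gen D.E.1.P D.E.1.hP
  obtain ⟨v, -, -, hv, -⟩ := exists_gen D.A.1.P D.A.1.hP
  have hw' : orderOf w⁻¹ = 11 := by rw [orderOf_inv, hw]
  have hv' : orderOf v⁻¹ = 23 := by rw [orderOf_inv, hv]
  have hww := D.E.1.not_real (by norm_num) (by norm_num) hw
  have hvv := D.A.1.not_real (by norm_num) (by norm_num) hv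
  set L8 : List G := [1, t, x, x * z, w, w⁻¹, v, v⁻¹] with hL8
  have h8sep : Sep L8 := by
    simp only [Sep, hL8, List.pairwise_cons, List.mem_cons, List.not_mem_nil, or_false, forall_eq_or_imp,
      forall_eq, List.Pairwise.nil, and_true, IsEmpty.forall_iff, implies_true]
    repeat' constructor
    all_goals first
      | exact hww
      | exact hvv
      | exact nconj_of_order (by simp only [orderOf_one, ht, hx, hxz, hw, hw', hv, hv']; norm_num)
  have h8ord : ∀ a ∈ L8, ¬ 7 ∣ orderOf a := fun a ha => by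
    simp only [hL8, List.mem_cons, List.not_mem_nil, or_false] at ha
    rcases ha with rfl | rfl | rfl | rfl | rfl | rfl | rfl | rfl <;>
      simp only [orderOf_one, ht, hx, hxz, hw, hw', hv, hv'] <;> norm_num
  have hall : Sep (L8 ++ L7) := List.pairwise_append.2
    ⟨h8sep, h7sep, fun a ha b hb => nconj_of_order fun e0 => h8ord a ha (e0 ▸ h7ord b hb)⟩
  have h := hall.length_le
  rw [D.card_classes, List.length_append, hL7, List.length_append, List.length_map, List.length_map] at h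
  simp only [hR, List.length_map] at hRlen
  simp only [hR, hL8, List.length_map, List.length_cons, List.length_nil] at h
  omega

end Data

end Cfsg.Agent.Invol.M23Ord
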