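import Mathlib
import Cfsg.Agent.Lib.Invol.Order10200960.SevenTwo

/-!
Simple groups of order 10200960: commuting representatives of the classes of elements of orders two, three, five
and seven, and thirteen pairwise non-conjugate elements with their centralizers.
-/

set_option autoImplicit false
set_option linter.style.haveILetI false
set_option linter.unusedSectionVars false

namespace Cfsg.Agent.Invol.M23Ord

open scoped ComplexConjugate
open Cfsg Cfsg.Agent.Block Cfsg.Agent.Char Cfsg.Agent.Invol.M12Ord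
open Cfsg.Agent.Invol.M22Ord (PBlk exists_pblk exists_gen)

universe u

/-- Elements `t, u, x, z, w, v` of orders 2, 7, 5, 3, 11, 23 with `t` commuting with `u` and `z`, and `z` with `x`. -/
structure Reps (G : Type u) [Group G] where
  t : G
  u : G
  x : G
  z : G
  w : G
  v : G
  ht : orderOf t = 2
  hu : orderOf u = 7
  hx : orderOf x = 5
  hz : orderOf z = 3
  hw : orderOf w = 11
  hv : orderOf v = 23
  ut : Commute u t
  xz : Commute x z
  zt : Commute z t

variable {G : Type u} [Group G] [Finite G] [IsSimpleGroup G]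
variable [Fact (Nat.Prime 5)] [Fact (Nat.Prime 7)] [Fact (Nat.Prime 11)] [Fact (Nat.Prime 23)]

namespace Data

variable (D : Data G)

include D in
theorem cn_seven (hG : Nat.card G = 10200960) {g : G} (hg : orderOf g = 7) : cn g = 14 :=
  (D.S.cn_sylow hg).trans (D.card_C_seven hG)

include D in
theorem cn_eleven {g : G} (hg : orderOf g = 11) : cn g = 11 := (D.E.1.cn_sylow hg).trans D.E.2

include D in
theorem cn_twentythree {g : G} (hg : orderOf g = 23) : cn g = 23 := (D.A.1.cn_sylow hg).trans D.A.2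

include D in
/-- An element of order three centralising one of order five commutes with an involution. -/
theorem exists_involution_three (hG : Nat.card G = 10200960) {x z : G} (hx : orderOf x = 5) (hz : orderOf z = 3)
    (hxz : Commute x z) : ∃ s : G, orderOf s = 2 ∧ Commute z s := by
  classical
  haveI : Fact (Nat.Prime 2) := ⟨Nat.prime_two⟩
  haveI : Fact (Nat.Prime 3) := ⟨by norm_num⟩
  by_cases h2 : 2 ∣ cn z
  · obtain ⟨s, hs⟩ := exists_prime_orderOf_dvd_card' (G := Subgroup.centralizer ({z} : Set G)) 2 h2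
    rw [← Subgroup.orderOf_coe] at hs
    exact ⟨s, hs, (Subgroup.mem_centralizer_singleton_iff.1 s.2).symm⟩
  exfalso
  obtain ⟨Q, hQ⟩ := (IsPGroup.of_card (p := 3) (G := ↥(Subgroup.zpowers z)) (n := 1)
    (by rw [Nat.card_zpowers, hz, pow_one])).exists_le_sylow
  have hQc : Nat.card (Q : Subgroup G) = 3 ^ 2 := by rw [Q.card_eq_multiplicity, hG, fact_three]
  have hQz : (Q : Subgroup G) ≤ Subgroup.centralizer ({z} : Set G) := fun a ha =>
    Subgroup.mem_centralizer_singleton_iff.2 (congrArg Subtype.val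
      (IsPGroup.commutative_of_card_eq_prime_sq hQc ⟨a, ha⟩ ⟨z, hQ (Subgroup.mem_zpowers z)⟩))
  have h9 : 9 ∣ cn z := by
    have := Subgroup.card_dvd_of_le hQz
    rwa [hQc] at this
  have h5 : 5 ∣ cn z := hx ▸ orderOf_dvd_cn hxz.eq
  have hno : ∀ q, q.Prime → (q = 7 ∨ q = 11 ∨ q = 23) → ¬ q ∣ cn z := fun q hq hq' h => by
    haveI : Fact q.Prime := ⟨hq⟩
    obtain ⟨a, ha⟩ := exists_prime_orderOf_dvd_card' (G := Subgroup.centralizer ({z} : Set G)) q h
    rw [← Subgroup.orderOf_coe] at ha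
    have h3 := orderOf_dvd_cn (Subgroup.mem_centralizer_singleton_iff.1 a.2).symm
    rw [hz] at h3
    rcases hq' with rfl | rfl | rfl
    · rw [D.cn_seven hG ha] at h3; norm_num at h3
    · rw [D.cn_eleven ha] at h3; norm_num at h3
    · rw [D.cn_twentythree ha] at h3; norm_num at h3
  have hd : cn z ∣ 2 ^ 7 * 7 * 11 * 23 * 45 := by
    have := hG ▸ cn_dvd_card z
    simpa using this
  have hcop : (cn z).Coprime (2 ^ 7 * 7 * 11 * 23) :=
    Nat.Coprime.mul_right (Nat.Coprime.mul_right (Nat.Coprime.mul_right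
      (((Nat.Prime.coprime_iff_not_dvd (by norm_num)).2 h2).symm.pow_right 7)
      ((Nat.Prime.coprime_iff_not_dvd (by norm_num)).2 (hno 7 (by norm_num) (by norm_num))).symm)
      ((Nat.Prime.coprime_iff_not_dvd (by norm_num)).2 (hno 11 (by norm_num) (by norm_num))).symm)
      ((Nat.Prime.coprime_iff_not_dvd (by norm_num)).2 (hno 23 (by norm_num) (by norm_num))).symm
  have h45 : cn z = 45 := Nat.dvd_antisymm (hcop.dvd_of_dvd_mul_left hd)
    (Nat.Coprime.mul_dvd_of_dvd_of_dvd (by norm_num : Nat.Coprime 9 5) h9 h5)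
  set H := Subgroup.centralizer ({z} : Set G) with hH
  have hHc : Nat.card H = 45 := h45
  obtain ⟨T⟩ : Nonempty (Sylow 3 H) := inferInstance
  obtain ⟨R, hR⟩ := (IsPGroup.of_card (p := 5) (G := ↥(Subgroup.zpowers
    (⟨x, Subgroup.mem_centralizer_singleton_iff.2 hxz.eq⟩ : H))) (n := 1)
    (by rw [Nat.card_zpowers, ← Subgroup.orderOf_coe, pow_one]; exact hx)).exists_le_sylow
  have hone : ∀ p : ℕ, ∀ _ : Fact p.Prime, ∀ P : Sylow p H, ((p = 3 ∧ Nat.card P = 9) ∨ (p = 5 ∧ Nat.card P = 5)) →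
      (P : Subgroup H).Normal := fun p _ P hp => by
    have h1 := card_sylow_modEq_one p H
    have h2 := P.card_dvd_index
    have hidx := Subgroup.card_mul_index (P : Subgroup H)
    rw [hHc] at hidx
    have hone : Nat.card (Sylow p H) = 1 := by
      rcases hp with ⟨rfl, hc⟩ | ⟨rfl, hc⟩ <;> rw [hc] at hidx
      · have h3 : (P : Subgroup H).index = 5 := by omega
        rw [h3, Nat.dvd_prime (by norm_num)] at h2
        rcases h2 with h | h
        · exact h
        · rw [h] at h1; exact absurd h1 (by decide)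
      · have h3 : (P : Subgroup H).index = 9 := by omega
        rw [h3] at h2
        have hm : Nat.card (Sylow 5 H) ∈ Nat.divisors 9 := Nat.mem_divisors.2 ⟨h2, by norm_num⟩
        rw [show Nat.divisors 9 = {1, 3, 9} by decide] at hm
        simp only [Finset.mem_insert, Finset.mem_singleton] at hm
        rcases hm with h | h | h
        · exact h
        · rw [h] at h1; exact absurd h1 (by decide)
        · rw [h] at h1; exact absurd h1 (by decide)
    haveI : Subsingleton (Sylow p H) := (Nat.card_eq_one_iff_unique.1 hone).1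
    exact Sylow.normal_of_subsingleton P
  have hTc : Nat.card T = 9 := by
    rw [T.card_eq_multiplicity, hHc, show (45 : ℕ) = 3 ^ 2 * 5 by norm_num,
      Nat.factorization_mul (by norm_num) (by norm_num), Finsupp.add_apply,
      (show Nat.Prime 3 by norm_num).factorization_pow, Finsupp.single_eq_same,
      Nat.factorization_eq_zero_of_not_dvd (by norm_num : ¬ 3 ∣ 5)]
    norm_num
  have hRc : Nat.card R = 5 := by
    rw [R.card_eq_multiplicity, hHc, show (45 : ℕ) = 5 * 9 by norm_num,
      Nat.factorization_mul (by norm_num) (by norm_num), Finsupp.add_apply,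
      (show Nat.Prime 5 by norm_num).factorization_self,
      Nat.factorization_eq_zero_of_not_dvd (by norm_num : ¬ 5 ∣ 9)]
    norm_num
  have hTn := hone 3 inferInstance T (Or.inl ⟨rfl, hTc⟩)
  have hRn := hone 5 inferInstance R (Or.inr ⟨rfl, hRc⟩)
  have hdis : Disjoint (T : Subgroup H) (R : Subgroup H) := by
    refine disjoint_iff.2 (Subgroup.eq_bot_of_card_eq _ ?_)
    refine Nat.dvd_one.1 ?_
    have h1 := Subgroup.card_dvd_of_le (inf_le_left : (T : Subgroup H) ⊓ R ≤ T)
    have h2 := Subgroup.card_dvd_of_le (inf_le_right : (T : Subgroup H) ⊓ R ≤ R)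
    rw [hTc] at h1
    rw [hRc] at h2
    exact Nat.dvd_gcd h1 h2
  have hle : (T : Subgroup H).map H.subtype ≤ Subgroup.centralizer ({x} : Set G) := by
    rintro _ ⟨a, ha, rfl⟩
    exact Subgroup.mem_centralizer_singleton_iff.2 (congrArg Subtype.val
      (Subgroup.commute_of_normal_of_disjoint _ _ hTn hRn hdis a _ ha (hR (Subgroup.mem_zpowers _))).eq)
  have h := Subgroup.card_dvd_of_le hle
  rw [← Nat.card_congr ((T : Subgroup H).equivMapOfInjective _ H.subtype_injective).toEquiv,
    show Nat.card (T : Subgroup H) = 9 from hTc,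
    show Nat.card (Subgroup.centralizer ({x} : Set G)) = 15 from D.toFrame.cn_five hG hx] at h
  norm_num at h

include D in
theorem exists_reps (hG : Nat.card G = 10200960) : Nonempty (Reps G) := by
  haveI : Fact (Nat.Prime 2) := ⟨Nat.prime_two⟩
  obtain ⟨u, hu, -, huo, -⟩ := exists_gen D.S.P D.S.hP
  obtain ⟨t, ht, htC⟩ := D.S.exists_elem (D.card_C_seven hG) dvd_rfl
  obtain ⟨x, z, hx, hz, hxz, -⟩ := D.exists_fifteen hG
  obtain ⟨s, hs, hzs⟩ := D.exists_involution_three hG hx hz hxz
  obtain ⟨g, hg⟩ := isConj_iff.1 (D.toFrame.inv_conj hG hs ht)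
  obtain ⟨w, -, -, hw, -⟩ := exists_gen D.E.1.P D.E.1.hP
  obtain ⟨v, -, -, hv, -⟩ := exists_gen D.A.1.P D.A.1.hP
  exact ⟨⟨t, u, MulAut.conj g x, MulAut.conj g z, w, v, ht, huo, (MulEquiv.orderOf_eq _ x).trans hx,
    (MulEquiv.orderOf_eq _ z).trans hz, hw, hv, D.S.comm hu htC, hxz.map _,
    by
      have h := hzs.map (MulAut.conj g).toMonoidHom
      simp only [MulEquiv.coe_toMonoidHom, MulAut.conj_apply] at h ⊢
      rwa [hg] at h⟩⟩

end Data

namespace Reps

variable (R : Reps G) (D : Data G)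

theorem ord_ut : orderOf (R.u * R.t) = 14 := by
  rw [R.ut.orderOf_mul_eq_mul_orderOf_of_coprime (by rw [R.hu, R.ht]; norm_num), R.hu, R.ht]

theorem ord_u't : orderOf (R.u⁻¹ * R.t) = 14 := by
  rw [R.ut.inv_left.orderOf_mul_eq_mul_orderOf_of_coprime (by rw [orderOf_inv, R.hu, R.ht]; norm_num), orderOf_inv,
    R.hu, R.ht]

theorem ord_xz : orderOf (R.x * R.z) = 15 := by
  rw [R.xz.orderOf_mul_eq_mul_orderOf_of_coprime (by rw [R.hx, R.hz]; norm_num), R.hx, R.hz]

theorem ord_xz' : orderOf (R.x * R.z⁻¹) = 15 := by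
  rw [R.xz.inv_right.orderOf_mul_eq_mul_orderOf_of_coprime (by rw [orderOf_inv, R.hx, R.hz]; norm_num), orderOf_inv,
    R.hx, R.hz]

theorem ord_zt : orderOf (R.z * R.t) = 6 := by
  rw [R.zt.orderOf_mul_eq_mul_orderOf_of_coprime (by rw [R.hz, R.ht]; norm_num), R.hz, R.ht]

theorem ord_z't : orderOf (R.z⁻¹ * R.t) = 6 := by
  rw [R.zt.inv_left.orderOf_mul_eq_mul_orderOf_of_coprime (by rw [orderOf_inv, R.hz, R.ht]; norm_num), orderOf_inv,
    R.hz, R.ht]

theorem t_pow (n : ℕ) : R.t ^ (2 * n) = 1 := by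
  rw [pow_mul, ← R.ht, pow_orderOf_eq_one, one_pow]

theorem u_pow_eight : R.u ^ 8 = R.u := by
  rw [pow_succ, ← R.hu, pow_orderOf_eq_one, one_mul]

theorem z_pow_four : R.z ^ 4 = R.z := by
  rw [pow_succ, ← R.hz, pow_orderOf_eq_one, one_mul]

theorem x_pow_six : R.x ^ 6 = R.x := by
  rw [pow_succ, ← R.hx, pow_orderOf_eq_one, one_mul]

theorem z_pow_three : R.z ^ 3 = 1 := by rw [← R.hz]; exact pow_orderOf_eq_one _

theorem ut_pow : (R.u * R.t) ^ 8 = R.u := by
  rw [R.ut.mul_pow, R.u_pow_eight, show 8 = 2 * 4 from rfl, R.t_pow, mul_one]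

theorem u't_pow : (R.u⁻¹ * R.t) ^ 8 = R.u⁻¹ := by
  rw [R.ut.inv_left.mul_pow, inv_pow, R.u_pow_eight, show 8 = 2 * 4 from rfl, R.t_pow, mul_one]

theorem zt_pow : (R.z * R.t) ^ 4 = R.z := by
  rw [R.zt.mul_pow, R.z_pow_four, show 4 = 2 * 2 from rfl, R.t_pow, mul_one]

theorem z't_pow : (R.z⁻¹ * R.t) ^ 4 = R.z⁻¹ := by
  rw [R.zt.inv_left.mul_pow, inv_pow, R.z_pow_four, show 4 = 2 * 2 from rfl, R.t_pow, mul_one]

theorem xz_pow : (R.x * R.z) ^ 6 = R.x := by
  rw [R.xz.mul_pow, R.x_pow_six, show 6 = 3 * 2 from rfl, pow_mul, R.z_pow_three, one_pow, mul_one]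

theorem xz'_pow : (R.x * R.z⁻¹) ^ 6 = R.x := by
  rw [R.xz.inv_right.mul_pow, R.x_pow_six, inv_pow, show 6 = 3 * 2 from rfl, pow_mul, R.z_pow_three, one_pow,
    inv_one, mul_one]

include D in
/-- The two classes of elements of order fifteen. -/
theorem nconj_xz (hG : Nat.card G = 10200960) : ¬ IsConj (R.x * R.z) (R.x * R.z⁻¹) := by
  intro h
  obtain ⟨g, hg⟩ := isConj_iff.1 h
  have hgx : g * R.x * g⁻¹ = R.x := by
    have h1 := congrArg (· ^ 6) hg
    simp only [conj_pow, R.xz_pow, R.xz'_pow] at h1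
    exact h1
  have hmem : g ∈ Subgroup.zpowers (R.x * R.z) := by
    have heq : Subgroup.zpowers (R.x * R.z) = Subgroup.centralizer ({R.x} : Set G) := by
      refine Subgroup.eq_of_le_of_card_ge (Subgroup.zpowers_le.2 (Subgroup.mem_centralizer_singleton_iff.2 ?_)) ?_
      · rw [mul_assoc, ← R.xz.eq]
      · rw [Nat.card_zpowers, R.ord_xz]
        exact le_of_eq (D.toFrame.cn_five hG R.hx)
    rw [heq, Subgroup.mem_centralizer_singleton_iff]
    calc g * R.x = g * R.x * g⁻¹ * g := by group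
      _ = R.x * g := by rw [hgx]
  obtain ⟨i, rfl⟩ := Subgroup.mem_zpowers_iff.1 hmem
  rw [((Commute.refl (R.x * R.z)).zpow_left i).eq, mul_inv_cancel_right, mul_left_cancel_iff] at hg
  have h2 : R.z ^ 2 = 1 := by rw [pow_two]; nth_rewrite 1 [hg]; exact inv_mul_cancel _
  have := orderOf_dvd_of_pow_eq_one h2
  rw [R.hz] at this
  norm_num at this

/-- Thirteen pairwise non-conjugate elements. -/
def base : List G :=
  [1, R.t, R.x, R.u, R.u⁻¹, R.u * R.t, R.u⁻¹ * R.t, R.w, R.w⁻¹, R.v, R.v⁻¹, R.x * R.z, R.x * R.z⁻¹]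

theorem base_orders : R.base.map orderOf = [1, 2, 5, 7, 7, 14, 14, 11, 11, 23, 23, 15, 15] := by
  simp [base, R.ht, R.hx, R.hu, R.hw, R.hv, R.ord_ut, R.ord_u't, R.ord_xz, R.ord_xz']

include D in
theorem base_sep (hG : Nat.card G = 10200960) : Sep R.base := by
  have huu := D.S.not_real (by norm_num) (by norm_num) R.hu
  have hww := D.E.1.not_real (by norm_num) (by norm_num) R.hw
  have hvv := D.A.1.not_real (by norm_num) (by norm_num) R.hv
  have hut : ¬ IsConj (R.u * R.t) (R.u⁻¹ * R.t) := fun h => huu (by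
    have := conj_pow_of h 8
    rwa [R.ut_pow, R.u't_pow] at this)
  have hxz := R.nconj_xz D hG
  simp only [Sep, base, List.pairwise_cons, List.mem_cons, List.not_mem_nil, or_false, forall_eq_or_imp,
    forall_eq, List.Pairwise.nil, and_true, IsEmpty.forall_iff, implies_true]
  repeat' constructor
  all_goals first
    | exact huu
    | exact hww
    | exact hvv
    | exact hut
    | exact hxz
    | exact nconj_of_order (by
        simp only [orderOf_one, orderOf_inv, R.ht, R.hx, R.hu, R.hw, R.hv, R.ord_ut, R.ord_u't, R.ord_xz, R.ord_xz']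
        norm_num)

include D in
/-- Adding elements of orders three, four and six. -/
theorem base_append (hG : Nat.card G = 10200960) {L : List G} (hL : Sep L)
    (ho : ∀ a ∈ L, orderOf a = 3 ∨ orderOf a = 4 ∨ orderOf a = 6) : Sep (R.base ++ L) := by
  refine List.pairwise_append.2 ⟨R.base_sep D hG, hL, fun a ha b hb => nconj_of_order fun e => ?_⟩
  have hm : orderOf a ∈ R.base.map orderOf := List.mem_map.2 ⟨a, ha, rfl⟩
  rw [R.base_orders] at hm
  simp only [List.mem_cons, List.not_mem_nil, or_false] at hm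
  have := ho b hb
  omega

include D in
theorem cn_zt_dvd (hG : Nat.card G = 10200960) : cn (R.z * R.t) ∣ Nat.gcd 2688 (cn R.z) ∧ 6 ∣ cn (R.z * R.t) := by
  refine ⟨Nat.dvd_gcd ?_ ?_, R.ord_zt ▸ orderOf_dvd_cn rfl⟩
  · have h := cn_dvd_pow (R.z * R.t) 3
    rw [R.zt.mul_pow, R.z_pow_three, one_mul, pow_succ, show R.t ^ 2 = 1 from R.t_pow 1, one_mul,
      D.toFrame.inv_cn hG R.ht] at h
    exact h
  · have h := cn_dvd_pow (R.z * R.t) 4
    rwa [R.zt_pow] at h

include D in
/-- The class lengths of the thirteen elements. -/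
theorem base_sum (hG : Nat.card G = 10200960) : (R.base.map fun r => Nat.card G / cn r).sum = 7700308 := by
  have h14 : ∀ a : G, orderOf a = 14 → ∀ b : G, orderOf b = 7 → a ^ 8 = b → cn a = 14 := fun a ha b hb hab =>
    Nat.dvd_antisymm (by rw [← D.cn_seven hG hb, ← hab]; exact cn_dvd_pow a 8) (ha ▸ orderOf_dvd_cn rfl)
  have h15 : ∀ a : G, orderOf a = 15 → a ^ 6 = R.x → cn a = 15 := fun a ha hax =>
    Nat.dvd_antisymm (by rw [← D.toFrame.cn_five hG R.hx, ← hax]; exact cn_dvd_pow a 6) (ha ▸ orderOf_dvd_cn rfl)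
  have h1 : cn (1 : G) = 10200960 := by
    show Nat.card (Subgroup.centralizer ({1} : Set G)) = _
    rw [centralizer_one_eq_top, Subgroup.card_top, hG]
  simp only [base, List.map_cons, List.map_nil, List.sum_cons, List.sum_nil, h1, cn_inv,
    D.toFrame.inv_cn hG R.ht, D.toFrame.cn_five hG R.hx, D.cn_seven hG R.hu, D.cn_eleven R.hw,
    D.cn_twentythree R.hv, h14 _ R.ord_ut _ R.hu R.ut_pow,
    h14 _ R.ord_u't _ (by rw [orderOf_inv, R.hu]) R.u't_pow, h15 _ R.ord_xz R.xz_pow, h15 _ R.ord_xz' R.xz'_pow, hG]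
  norm_num

include D in
/-- The element of order three is conjugate to its inverse. -/
theorem z_real (hG : Nat.card G = 10200960) : IsConj R.z R.z⁻¹ := by
  by_contra hn
  obtain ⟨f, hf⟩ := D.toFrame.exists_order_four hG
  have hnt : ¬ IsConj (R.z * R.t) (R.z⁻¹ * R.t) := fun h => hn (by
    have := conj_pow_of h 4
    rwa [R.zt_pow, R.z't_pow] at this)
  have hL : Sep [R.z, R.z⁻¹, R.z * R.t, R.z⁻¹ * R.t, f] := by
    simp only [Sep, List.pairwise_cons, List.mem_cons, List.not_mem_nil, or_false, forall_eq_or_imp, forall_eq,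
      List.Pairwise.nil, and_true, IsEmpty.forall_iff, implies_true]
    repeat' constructor
    all_goals first
      | exact hn
      | exact hnt
      | exact nconj_of_order (by simp only [orderOf_inv, R.hz, hf, R.ord_zt, R.ord_z't]; norm_num)
  have h := (R.base_append D hG hL (fun a ha => by
    simp only [List.mem_cons, List.not_mem_nil, or_false] at ha
    rcases ha with rfl | rfl | rfl | rfl | rfl <;> simp [R.hz, hf, R.ord_zt, R.ord_z't])).length_le
  rw [D.card_classes] at h
  simp [base] at h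

end Reps

end Cfsg.Agent.Invol.M23Ord
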