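import Mathlib
import Cfsg.Agent.Lib.Invol.Order10200960.Reps
import Cfsg.Agent.Lib.Invol.Order10200960.CheckThree

/-!
Simple groups of order 10200960: the columns at elements of orders three and six, and the complete list of
seventeen classes with the orders of their centralizers.
-/

set_option autoImplicit false
set_option linter.style.haveILetI false
set_option linter.unusedSectionVars false

namespace Cfsg.Agent.Invol.M23Ord

open scoped ComplexConjugate
open Cfsg Cfsg.Agent.Block Cfsg.Agent.Char Cfsg.Agent.Invol.M12Ord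
open Cfsg.Agent.Invol.M22Ord (PBlk exists_pblk exists_gen)

universe u

variable {G : Type u} [Group G] [Finite G] [IsSimpleGroup G]
variable [Fact (Nat.Prime 5)] [Fact (Nat.Prime 7)] [Fact (Nat.Prime 11)] [Fact (Nat.Prime 23)]

namespace Data

variable (D : Data G)

include D in
/-- Integral values at an element of order three or six. -/
theorem col_regular (hG : Nat.card G = 10200960) {g : G} (hg : orderOf g = 3 ∨ orderOf g = 6)
    (hgt : ∀ t : G, orderOf t = 2 → ¬ IsConj g t) {a : IrrCharacter G → ℤ}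
    (ha : ∀ χ : IrrCharacter G, (χ : G → ℂ) g = a χ) {t : G} (ht : orderOf t = 2) :
    a D.c45 = 0 ∧ a D.c45' = 0 ∧ a D.c990 = 0 ∧ a D.c990' = 0 ∧ a D.c1035 = 0 ∧ a D.c2024 = -1 ∧
    a D.c896 = 1 - a D.c230 ∧ a D.c896' = 1 - a D.c230 ∧ a D.c231 = 2 * a D.c230 - 4 ∧
    a D.c770 = a D.c230 ∧ a D.c770' = a D.c230 ∧
    a D.c22 = a D.c231b + a D.c231c + 3 * a D.c230 - 5 ∧
    a D.c253 = 5 - (a D.c231b + a D.c231c) - 2 * a D.c230 ∧ a (trivialIrr G) = 1 := by
  haveI : Fact (Nat.Prime 3) := ⟨by norm_num⟩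
  have hnd : ∀ p : ℕ, 5 ≤ p → p.Prime → ¬ p ∣ orderOf g := fun p h5 hp hd => by
    rcases hg with h | h <;> rw [h] at hd
    · have := Nat.le_of_dvd (by norm_num) hd; omega
    · have := Nat.le_of_dvd (by norm_num) hd
      rcases (by omega : p = 5 ∨ p = 6) with rfl | rfl
      · norm_num at hd
      · norm_num at hp
  have h3 : 3 ∣ orderOf g := by rcases hg with h | h <;> rw [h] <;> norm_num
  obtain ⟨d22, d45, d45', d230, d231, d231b, d231c, d253, d770, d770', d896, d896', d990, d990', d1035, d2024⟩ :=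
    D.deg_list
  have hvan : ∀ χ : IrrCharacter G, 9 ∣ dg χ → a χ = 0 := fun χ hd => by
    have h := M23Ord.vanish hG (q := 3) (Or.inl rfl) χ (by simpa [fullPow] using hd) h3
    rw [ha] at h
    exact_mod_cast h
  have e45 := hvan _ (d45.symm ▸ (by norm_num : 9 ∣ 45))
  have e45' := hvan _ (d45'.symm ▸ (by norm_num : 9 ∣ 45))
  have e990 := hvan _ (d990.symm ▸ (by norm_num : 9 ∣ 990))
  have e990' := hvan _ (d990'.symm ▸ (by norm_num : 9 ∣ 990))
  have e1035 := hvan _ (d1035.symm ▸ (by norm_num : 9 ∣ 1035))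
  have htr : a (trivialIrr G) = 1 := Int.cast_injective (α := ℂ) (by rw [← ha, Int.cast_one]; rfl)
  obtain ⟨r11, r11'⟩ := D.rel_eleven (hnd 11 (by norm_num) (by norm_num))
  obtain ⟨r23, r23'⟩ := D.rel_twentythree hG (hnd 23 (by norm_num) (by norm_num))
  obtain ⟨r7, -⟩ := D.rel_seven (hnd 7 (by norm_num) (by norm_num))
  have r5 := D.rel_five (hnd 5 le_rfl (by norm_num))
  simp only [ha] at r11 r11' r23 r23' r7 r5
  norm_cast at r11 r11' r23 r23' r7 r5
  obtain ⟨i1, i22, i45, i230, i231, i253, i770, i896, i990, i1035, i2024⟩ := inv_vals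
  have o1 := M12Ord.orth_one_int (fun h => by subst h; simp at hg) a ha
  have ot := M12Ord.orth (hgt t ht) a (fun χ => invVal (dg χ)) ha (D.toFrame.inv_value_eq hG ht)
  rw [D.sum_univ] at o1 ot
  simp only [dg_trivial, d22, d45, d45', d230, d231, d231b, d231c, d253, d770, d770', d896, d896', d990, d990',
    d1035, d2024, htr, Nat.cast_ofNat, Nat.cast_one, i1, i22, i45, i230, i231, i253, i770, i896, i990, i1035,
    i2024] at o1 ot
  omega

end Data

/-- The classes, with the centralizers of the last two of orders eight and thirty-two in some order. -/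
structure Classes (G : Type u) [Group G] [Finite G] [IsSimpleGroup G] extends Reps G where
  f : G
  y : G
  hf : orderOf f = 4
  cases : (cn f = 8 ∧ cn y = 32) ∨ (cn f = 32 ∧ cn y = 8)
  cn_z : cn toReps.z = 180
  cn_zt : cn (toReps.z * toReps.t) = 12
  sep : Sep (toReps.base ++ [toReps.z, toReps.z * toReps.t, f, y])
  complete : ∀ g : G, ∃ r ∈ toReps.base ++ [toReps.z, toReps.z * toReps.t, f, y], IsConj r g

namespace Reps

variable (R : Reps G) (D : Data G)

include D in
/-- The integral column at the element of order three. -/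
theorem z_column (hG : Nat.card G = 10200960) :
    cn R.z = 180 ∧ ∃ a : IrrCharacter G → ℤ, (∀ χ : IrrCharacter G, (χ : G → ℂ) R.z = a χ) ∧ a D.c22 = 4 ∧
      a D.c230 = 5 ∧ a D.c231 = 6 ∧ a D.c231b = -3 ∧ a D.c231c = -3 ∧ a D.c253 = 1 := by
  classical
  haveI : Fact (Nat.Prime 3) := ⟨by norm_num⟩
  obtain ⟨a, ha, -⟩ := M12Ord.int_column (g := R.z) fun k hk => by
    rw [R.hz] at hk
    rw [← pow_mod_orderOf, R.hz]
    rcases (by have := hk; omega : k % 3 = 0 ∨ k % 3 = 1 ∨ k % 3 = 2) with h | h | h <;> rw [h]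
    · exact absurd (Nat.dvd_gcd (Nat.dvd_of_mod_eq_zero h) dvd_rfl) (by rw [hk]; norm_num)
    · rw [pow_one]
    · rw [show R.z ^ 2 = R.z⁻¹ from eq_inv_of_mul_eq_one_left (by rw [← pow_succ]; exact R.z_pow_three)]
      exact (R.z_real D hG).symm
  obtain ⟨e45, e45', e990, e990', e1035, e2024, e896, e896', e231, e770, e770', e22, e253, htr⟩ :=
    D.col_regular hG (Or.inl R.hz) (fun t ht => nconj_of_order (by rw [R.hz, ht]; norm_num)) ha R.ht
  obtain ⟨d22, d45, d45', d230, d231, d231b, d231c, d253, d770, d770', d896, d896', d990, d990', d1035, d2024⟩ :=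
    D.deg_list
  -- the order of the centralizer
  obtain ⟨Q, hQ⟩ := (IsPGroup.of_card (p := 3) (G := ↥(Subgroup.zpowers R.z)) (n := 1)
    (by rw [Nat.card_zpowers, R.hz, pow_one])).exists_le_sylow
  have hQc : Nat.card (Q : Subgroup G) = 3 ^ 2 := by rw [Q.card_eq_multiplicity, hG, fact_three]
  have h9 : 9 ∣ cn R.z := by
    have := Subgroup.card_dvd_of_le (H := (Q : Subgroup G)) (K := Subgroup.centralizer ({R.z} : Set G)) fun q hq =>
      Subgroup.mem_centralizer_singleton_iff.2 (congrArg Subtype.val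
        (IsPGroup.commutative_of_card_eq_prime_sq hQc ⟨q, hq⟩ ⟨R.z, hQ (Subgroup.mem_zpowers R.z)⟩))
    rwa [hQc] at this
  have h5 : 5 ∣ cn R.z := R.hx ▸ orderOf_dvd_cn R.xz.eq
  have hno : ∀ q, q.Prime → (q = 7 ∨ q = 11 ∨ q = 23) → ¬ q ∣ cn R.z := fun q hq hq' h => by
    haveI : Fact q.Prime := ⟨hq⟩
    obtain ⟨b, hb⟩ := exists_prime_orderOf_dvd_card' (G := Subgroup.centralizer ({R.z} : Set G)) q h
    rw [← Subgroup.orderOf_coe] at hb
    have h3 := orderOf_dvd_cn (Subgroup.mem_centralizer_singleton_iff.1 b.2).symm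
    rw [R.hz] at h3
    rcases hq' with rfl | rfl | rfl
    · rw [D.cn_seven hG hb] at h3; norm_num at h3
    · rw [D.cn_eleven hb] at h3; norm_num at h3
    · rw [D.cn_twentythree hb] at h3; norm_num at h3
  have hcop : (cn R.z).Coprime 1771 := by
    rw [show (1771 : ℕ) = 7 * 11 * 23 by norm_num]
    exact Nat.Coprime.mul_right (Nat.Coprime.mul_right
      ((Nat.Prime.coprime_iff_not_dvd (by norm_num)).2 (hno 7 (by norm_num) (by norm_num))).symm
      ((Nat.Prime.coprime_iff_not_dvd (by norm_num)).2 (hno 11 (by norm_num) (by norm_num))).symm)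
      ((Nat.Prime.coprime_iff_not_dvd (by norm_num)).2 (hno 23 (by norm_num) (by norm_num))).symm
  obtain ⟨j, hj⟩ : 45 ∣ cn R.z := Nat.Coprime.mul_dvd_of_dvd_of_dvd (by norm_num : Nat.Coprime 9 5) h9 h5
  have hd : cn R.z ∣ 1771 * (45 * 2 ^ 7) := by
    have := hG ▸ cn_dvd_card R.z
    simpa using this
  have hj7 : j ∣ 2 ^ 7 := Nat.dvd_of_mul_dvd_mul_left (by norm_num : 0 < 45) (hj ▸ hcop.dvd_of_dvd_mul_left hd)
  have hC : cn R.z ∈ ([45, 90, 180, 360, 720, 1440, 2880, 5760] : List ℕ) := by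
    obtain ⟨i, hi, rfl⟩ := (Nat.dvd_prime_pow Nat.prime_two).1 hj7
    rw [hj]
    interval_cases i <;> simp
  have hC' : cn R.z ≤ 5760 := by
    simp only [List.mem_cons, List.not_mem_nil, or_false] at hC
    omega
  -- congruences and integrality
  have hc3 : ∀ χ : IrrCharacter G, (3 : ℤ) ∣ a χ - (dg χ : ℤ) := fun χ =>
    M12Ord.congr_deg (p := 3) χ (j := 1) (by rw [R.hz, pow_one]) (ha χ)
  have hidx := fun χ => M23Ord.idx_mod hG χ (ha χ)
  have hnorm := norm_eq a ha
  rw [D.sum_univ] at hnorm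
  simp only [htr, e45, e45', e990, e990', e1035, e2024, e896, e896', e231, e770, e770'] at hnorm
  have hb : ∀ χ : IrrCharacter G, a χ * a χ ≤ (cn R.z : ℤ) := fun χ => by
    have := M12Ord.norm_le {χ} a (g := R.z) fun φ _ => ha φ
    rwa [Finset.sum_singleton] at this
  have hc5 : (15 : ℤ) ∣ a D.c230 - 5 := by
    have h3 := hc3 D.c230
    have h := hidx D.c230
    rw [d230] at h3 h
    have hne : ¬ (5 : ℕ) ∣ 10200960 / cn R.z := by
      simp only [List.mem_cons, List.not_mem_nil, or_false] at hC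
      rcases hC with e | e | e | e | e | e | e | e <;> rw [e] <;> norm_num
    have h5' : (5 : ℤ) ∣ ((10200960 / cn R.z : ℕ) : ℤ) * a D.c230 :=
      Int.dvd_trans (by norm_num) (Int.dvd_of_emod_eq_zero h)
    have h5'' : (5 : ℤ) ∣ a D.c230 :=
      (((by norm_num : Nat.Prime 5).prime |> Nat.prime_iff_prime_int.1 ∘ Nat.prime_iff.2).dvd_mul.1 h5').resolve_left
        (by exact_mod_cast hne)
    omega
  have hch := List.all_eq_true.1 (List.all_eq_true.1 checkThree_true _ hC) _
    (mem_valsC hc5 (le_trans (hb _) (by exact_mod_cast hC')))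
  have hr3 : ∀ χ : IrrCharacter G, dg χ = 231 → (3 : ℤ) ∣ a χ := fun χ hd' => by
    have := hc3 χ
    rw [hd'] at this
    omega
  simp only [Bool.or_eq_true, decide_eq_true_eq, List.all_eq_true] at hch
  have hsq := fun χ => mul_self_nonneg (a χ)
  have hnorm' : baseNorm (a D.c230) + a D.c22 * a D.c22 + a D.c253 * a D.c253 + a D.c231b * a D.c231b +
      a D.c231c * a D.c231c = (cn R.z : ℤ) := by
    rw [← hnorm, baseNorm]
    ring
  have hch1 := hch.resolve_left (by linarith [hsq D.c22, hsq D.c253, hsq D.c231b, hsq D.c231c])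
    (a D.c231b) (mem_threes (hr3 _ d231b) (le_trans (hb _) (by exact_mod_cast hC')))
  have hch2 := hch1.resolve_left (by linarith [hsq D.c22, hsq D.c253, hsq D.c231c])
    (a D.c231c) (mem_threes (hr3 _ d231c) (le_trans (hb _) (by exact_mod_cast hC')))
  have h22 := hidx D.c22
  have h253 := hidx D.c253
  rw [d22] at h22
  rw [d253] at h253
  have hdiv : ∀ (n : ℕ) (b : ℤ), (((10200960 / cn R.z : ℕ) : ℤ) * b) % (n : ℤ) = 0 →
      Nat.beq ((10200960 / cn R.z * b.natAbs) % n) 0 = true := fun n b h => by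
    have h' := Int.natCast_dvd.1 (Int.dvd_of_emod_eq_zero h)
    rw [Int.natAbs_mul, Int.natAbs_natCast] at h'
    rw [Nat.beq_eq]
    exact Nat.mod_eq_zero_of_dvd h'
  rw [e22] at h22
  rw [e253] at h253
  have h896 := hidx D.c896
  rw [d896, e896] at h896
  have k896 := Nat.eq_of_beq_eq_true (hdiv _ _ h896)
  simp only [threeOK, Bool.or_eq_true, Bool.not_eq_true', decide_eq_false_iff_not, Bool.and_eq_true, beq_iff_eq,
    Nat.beq_eq] at hch2
  have k22 := Nat.eq_of_beq_eq_true (hdiv _ _ h22)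
  have k253 := Nat.eq_of_beq_eq_true (hdiv _ _ h253)
  rw [e22, e253] at hnorm'
  obtain ⟨⟨⟨hC180, hc⟩, hr⟩, hr'⟩ : ((cn R.z = 180 ∧ a D.c230 = 5) ∧ a D.c231b = -3) ∧ a D.c231c = -3 := by
    rcases hch2 with (((h | h) | h) | h) | h
    · exact absurd (by linarith) h
    · rw [← Bool.not_eq_true, Nat.beq_eq] at h
      exact absurd k22 h
    · rw [← Bool.not_eq_true, Nat.beq_eq] at h
      exact absurd k253 h
    · rw [← Bool.not_eq_true, Nat.beq_eq] at h
      exact absurd k896 h
    · exact h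
  exact ⟨hC180, a, ha, by omega, hc, by omega, hr, hr', by omega⟩

include D in
/-- The element of order six is conjugate to its inverse. -/
theorem zt_real (hG : Nat.card G = 10200960) : IsConj (R.z * R.t) (R.z⁻¹ * R.t) := by
  by_contra hn
  obtain ⟨f, hf⟩ := D.toFrame.exists_order_four hG
  obtain ⟨hz, -⟩ := R.z_column D hG
  have hL : Sep [R.z, R.z * R.t, R.z⁻¹ * R.t, f] := by
    simp only [Sep, List.pairwise_cons, List.mem_cons, List.not_mem_nil, or_false, forall_eq_or_imp, forall_eq,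
      List.Pairwise.nil, and_true, IsEmpty.forall_iff, implies_true]
    repeat' constructor
    all_goals first
      | exact hn
      | exact nconj_of_order (by simp only [R.hz, hf, R.ord_zt, R.ord_z't]; norm_num)
  have hS := R.base_append D hG hL (fun a ha => by
    simp only [List.mem_cons, List.not_mem_nil, or_false] at ha
    rcases ha with rfl | rfl | rfl | rfl <;> simp [R.hz, hf, R.ord_zt, R.ord_z't])
  obtain ⟨-, hsum⟩ := hS.complete (by rw [D.card_classes]; simp [base])
  have hinv : cn (R.z⁻¹ * R.t) = cn (R.z * R.t) := by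
    rw [← cn_inv (R.z * R.t), mul_inv_rev, show R.t⁻¹ = R.t from inv_eq_of_mul_eq_one_left (by
      rw [← pow_two]; exact R.t_pow 1), ← (R.zt.inv_left).eq]
  obtain ⟨h12, h6⟩ := R.cn_zt_dvd D hG
  rw [hz] at h12
  have hb : cn (R.z * R.t) = 6 ∨ cn (R.z * R.t) = 12 := by
    obtain ⟨k, hk⟩ := h6
    have h2 : cn (R.z * R.t) ≤ 12 := Nat.le_of_dvd (by norm_num) (h12.trans (by norm_num))
    have := cn_pos (R.z * R.t)
    omega
  rw [List.map_append, List.sum_append, R.base_sum D hG] at hsum
  simp only [List.map_cons, List.map_nil, List.sum_cons, List.sum_nil, hinv, hz, hG] at hsum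
  have hmul := Nat.div_mul_cancel (hG ▸ cn_dvd_card f)
  generalize hN : 10200960 / cn f = n at hsum hmul
  rcases hb with hb | hb <;> rw [hb] at hsum <;> norm_num at hsum
  · omega
  · obtain rfl : n = 743820 := by omega
    omega

include D in
/-- The column at the element of order six. -/
theorem zt_column (hG : Nat.card G = 10200960) : cn (R.z * R.t) = 12 := by
  classical
  haveI : Fact (Nat.Prime 3) := ⟨by norm_num⟩
  obtain ⟨hz, b, hb, b22, b230, b231, b231b, b231c, b253⟩ := R.z_column D hG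
  have hzi : (R.z * R.t)⁻¹ = R.z⁻¹ * R.t := by
    rw [mul_inv_rev, show R.t⁻¹ = R.t from inv_eq_of_mul_eq_one_left (by rw [← pow_two]; exact R.t_pow 1),
      ← (R.zt.inv_left).eq]
  obtain ⟨a, ha, -⟩ := M12Ord.int_column (g := R.z * R.t) fun k hk => by
    rw [R.ord_zt] at hk
    rw [← pow_mod_orderOf, R.ord_zt]
    rcases (by omega : k % 6 = 0 ∨ k % 6 = 1 ∨ k % 6 = 2 ∨ k % 6 = 3 ∨ k % 6 = 4 ∨ k % 6 = 5) with
      h | h | h | h | h | h <;> rw [h]
    · exact absurd (Nat.dvd_gcd (show 2 ∣ k by omega) (by norm_num : 2 ∣ 6)) (by rw [hk]; norm_num)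
    · rw [pow_one]
    · exact absurd (Nat.dvd_gcd (show 2 ∣ k by omega) (by norm_num : 2 ∣ 6)) (by rw [hk]; norm_num)
    · exact absurd (Nat.dvd_gcd (show 3 ∣ k by omega) (by norm_num : 3 ∣ 6)) (by rw [hk]; norm_num)
    · exact absurd (Nat.dvd_gcd (show 2 ∣ k by omega) (by norm_num : 2 ∣ 6)) (by rw [hk]; norm_num)
    · rw [show (R.z * R.t) ^ 5 = R.z⁻¹ * R.t by
        rw [← hzi]
        refine eq_inv_of_mul_eq_one_left ?_
        rw [← pow_succ, show 5 + 1 = orderOf (R.z * R.t) from R.ord_zt.symm]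
        exact pow_orderOf_eq_one _]
      exact (R.zt_real D hG).symm
  obtain ⟨e45, e45', e990, e990', e1035, e2024, e896, e896', e231, e770, e770', e22, e253, htr⟩ :=
    D.col_regular hG (Or.inr R.ord_zt) (fun t ht => nconj_of_order (by rw [R.ord_zt, ht]; norm_num)) ha R.ht
  obtain ⟨f45, f45', f990, f990', f1035, f2024, f896, f896', f231, f770, f770', f22, f253, ftr⟩ :=
    D.col_regular hG (Or.inl R.hz) (fun t ht => nconj_of_order (by rw [R.hz, ht]; norm_num)) hb R.ht
  have oz := M12Ord.orth (nconj_of_order (by rw [R.ord_zt, R.hz]; norm_num) : ¬ IsConj (R.z * R.t) R.z) a b ha hb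
  rw [D.sum_univ] at oz
  simp only [htr, ftr, e45, e45', e990, e990', e1035, e2024, e896, e896', e231, e770, e770', e22, e253, f45, f45',
    f990, f990', f1035, f2024, f896, f896', f770, f770', b22, b230, b231, b231b, b231c, b253] at oz
  have hc : a D.c230 = 1 := by omega
  have hnorm := norm_eq a ha
  rw [D.sum_univ] at hnorm
  simp only [htr, e45, e45', e990, e990', e1035, e2024, e896, e896', e231, e770, e770', e22, e253, hc] at hnorm
  obtain ⟨h12, h6⟩ := R.cn_zt_dvd D hG
  rw [hz] at h12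
  have hle : cn (R.z * R.t) ≤ 12 := Nat.le_of_dvd (by norm_num) (h12.trans (by norm_num))
  have hmod : ∀ χ : IrrCharacter G, dg χ = 231 → (3 : ℤ) ∣ 7 - a χ := fun χ hd => by
    refine M12Ord.congr_int χ R.z_pow_three R.zt (by rw [R.ht]; norm_num) (ha χ) ?_
    rw [D.toFrame.inv_value_eq hG R.ht χ, hd]
    rfl
  obtain ⟨-, -, -, -, -, d231b, d231c, -⟩ := D.deg_list
  have hr := hmod _ d231b
  have hr' := hmod _ d231c
  generalize a D.c231b = r at hr hnorm
  generalize a D.c231c = r' at hr' hnorm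
  have h1 : -3 ≤ r ∧ r ≤ 3 := by constructor <;> nlinarith [mul_self_nonneg r', mul_self_nonneg (r + r' - 2)]
  have h2 : -3 ≤ r' ∧ r' ≤ 3 := by constructor <;> nlinarith [mul_self_nonneg r, mul_self_nonneg (r + r' - 2)]
  obtain ⟨h1, h1'⟩ := h1
  obtain ⟨h2, h2'⟩ := h2
  interval_cases r <;> interval_cases r' <;> omega

include R D in
/-- The seventeen classes. -/
theorem exists_classes (hG : Nat.card G = 10200960) : Nonempty (Classes G) := by
  classical
  obtain ⟨f, hf⟩ := D.toFrame.exists_order_four hG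
  obtain ⟨hz, -⟩ := R.z_column D hG
  have hzt := R.zt_column D hG
  have hL : Sep [R.z, R.z * R.t, f] := by
    simp only [Sep, List.pairwise_cons, List.mem_cons, List.not_mem_nil, or_false, forall_eq_or_imp, forall_eq,
      List.Pairwise.nil, and_true, IsEmpty.forall_iff, implies_true]
    repeat' constructor
    all_goals exact nconj_of_order (by simp only [R.hz, hf, R.ord_zt]; norm_num)
  have hS := R.base_append D hG hL (fun a ha => by
    simp only [List.mem_cons, List.not_mem_nil, or_false] at ha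
    rcases ha with rfl | rfl | rfl <;> simp [R.hz, hf, R.ord_zt])
  obtain ⟨y, hy⟩ := exists_not_conj (R.base ++ [R.z, R.z * R.t, f]) (by rw [D.card_classes]; simp [base])
  have hS' : Sep ((R.base ++ [R.z, R.z * R.t, f]) ++ [y]) :=
    List.pairwise_append.2 ⟨hS, List.pairwise_singleton _ _, fun a ha b hb => by
      rw [List.mem_singleton] at hb; subst hb; exact hy a ha⟩
  obtain ⟨hall, hsum⟩ := hS'.complete (by rw [D.card_classes]; simp [base])
  rw [List.map_append, List.map_append, List.sum_append, List.sum_append, R.base_sum D hG] at hsum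
  simp only [List.map_cons, List.map_nil, List.sum_cons, List.sum_nil, hz, hzt, hG] at hsum
  norm_num at hsum
  have hno : ∀ q, q.Prime → (q = 5 ∨ q = 7 ∨ q = 11 ∨ q = 23) → ¬ q ∣ cn f := fun q hq hq' h => by
    haveI : Fact q.Prime := ⟨hq⟩
    obtain ⟨b, hb⟩ := exists_prime_orderOf_dvd_card' (G := Subgroup.centralizer ({f} : Set G)) q h
    rw [← Subgroup.orderOf_coe] at hb
    have h4 := orderOf_dvd_cn (Subgroup.mem_centralizer_singleton_iff.1 b.2).symm
    rw [hf] at h4
    rcases hq' with rfl | rfl | rfl | rfl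
    · rw [D.toFrame.cn_five hG hb] at h4; norm_num at h4
    · rw [D.cn_seven hG hb] at h4; norm_num at h4
    · rw [D.cn_eleven hb] at h4; norm_num at h4
    · rw [D.cn_twentythree hb] at h4; norm_num at h4
  have h1152 : cn f ∣ 1152 := by
    have hd : cn f ∣ 8855 * 1152 := by
      have := hG ▸ cn_dvd_card f
      simpa using this
    refine Nat.Coprime.dvd_of_dvd_mul_left ?_ hd
    rw [show (8855 : ℕ) = 5 * 7 * 11 * 23 by norm_num]
    exact Nat.Coprime.mul_right (Nat.Coprime.mul_right (Nat.Coprime.mul_right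
      ((Nat.Prime.coprime_iff_not_dvd (by norm_num)).2 (hno 5 (by norm_num) (by norm_num))).symm
      ((Nat.Prime.coprime_iff_not_dvd (by norm_num)).2 (hno 7 (by norm_num) (by norm_num))).symm)
      ((Nat.Prime.coprime_iff_not_dvd (by norm_num)).2 (hno 11 (by norm_num) (by norm_num))).symm)
      ((Nat.Prime.coprime_iff_not_dvd (by norm_num)).2 (hno 23 (by norm_num) (by norm_num))).symm
  have hy0 : 0 < 10200960 / cn y :=
    Nat.div_pos (Nat.le_of_dvd (by norm_num) (hG ▸ cn_dvd_card y)) (cn_pos y)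
  have hy1 : 10200960 / (10200960 / cn y) = cn y := Nat.div_div_self (hG ▸ cn_dvd_card y) (by norm_num)
  have he : 10200960 / cn y = 1593900 - 10200960 / cn f := by omega
  have h := two_classes (cn f) (List.mem_range.2 (by have := Nat.le_of_dvd (by norm_num) h1152; omega))
    (Nat.mod_eq_zero_of_dvd h1152) (by omega)
    (by rw [← he]; exact Nat.mod_eq_zero_of_dvd (Nat.div_dvd_of_dvd (hG ▸ cn_dvd_card y)))
  rw [← he, hy1] at h
  have hlist : (R.base ++ [R.z, R.z * R.t, f]) ++ [y] = R.base ++ [R.z, R.z * R.t, f, y] := by simp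
  rw [hlist] at hS' hall
  exact ⟨⟨R, f, y, hf, h, hz, hzt, hS', hall⟩⟩

end Reps

theorem Data.exists_classes (D : Data G) (hG : Nat.card G = 10200960) : Nonempty (Classes G) := by
  obtain ⟨R⟩ := D.exists_reps hG
  exact R.exists_classes D hG

end Cfsg.Agent.Invol.M23Ord
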