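import Mathlib
import Cfsg.Agent.Lib.Invol.Order10200960.ThreeColumn

/-!
Simple groups of order 10200960: the possible orders of elements and the values of the character of degree 22.
-/

set_option autoImplicit false
set_option linter.style.haveILetI false
set_option linter.unusedSectionVars false

namespace Cfsg.Agent.Invol.M23Ord

open scoped ComplexConjugate
open Cfsg Cfsg.Agent.Block Cfsg.Agent.Char Cfsg.Agent.Invol.M12Ord
open Cfsg.Agent.Invol.M22Ord (PBlk exists_pblk exists_gen)

universe u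

variable {G : Type u} [Group G] [Finite G]

/-- The sum of a class function over the group, from a full list of classes. -/
theorem sum_classes [Fintype G] {L : List G} (h : Sep L) (hk : L.length = Nat.card (ConjClasses G)) (φ : G → ℂ)
    (hφ : ∀ a b : G, IsConj a b → φ a = φ b) :
    ∑ g : G, φ g = (L.map fun r => ((Nat.card G / cn r : ℕ) : ℂ) * φ r).sum := by
  classical
  haveI := Fintype.ofFinite (ConjClasses G)
  have huniv : (L.map ConjClasses.mk).toFinset = Finset.univ := by
    refine Finset.eq_univ_of_card _ ?_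
    rw [List.toFinset_card_of_nodup h.nodup_mk, List.length_map, hk, Nat.card_eq_fintype_card]
  rw [← Finset.sum_fiberwise (Finset.univ : Finset G) ConjClasses.mk, ← huniv,
    List.sum_toFinset _ h.nodup_mk, List.map_map]
  refine congrArg List.sum (List.map_congr_left fun r _ => ?_)
  show ∑ g ∈ Finset.univ.filter (fun g => ConjClasses.mk g = ConjClasses.mk r), φ g = _
  rw [Finset.sum_congr rfl (g := fun _ => φ r) fun g hg =>
      hφ g r (ConjClasses.mk_eq_mk_iff_isConj.1 (Finset.mem_filter.1 hg).2), Finset.sum_const, nsmul_eq_mul]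
  congr 2
  rw [← Set.ncard_coe_finset, show ((Finset.univ.filter fun g => ConjClasses.mk g = ConjClasses.mk r) : Set G) =
    {x : G | IsConj x r} from by ext x; simp [ConjClasses.mk_eq_mk_iff_isConj]]
  exact (Nat.div_eq_of_eq_mul_left (cn_pos r) (ncard_class r).symm).symm

/-- The value of the character of degree 22 at an element of given order and centralizer order. -/
def val22 (n c : ℕ) : ℤ :=
  if n = 1 then 22 else if n = 2 then 6 else if n = 3 then 4 else if n = 5 then 2 else if n = 7 then 1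
  else if n = 14 ∨ n = 15 ∨ n = 23 then -1 else if n = 4 ∨ n = 8 then (if c = 32 then 2 else 0) else 0

variable [IsSimpleGroup G]
variable [Fact (Nat.Prime 5)] [Fact (Nat.Prime 7)] [Fact (Nat.Prime 11)] [Fact (Nat.Prime 23)]

namespace Data

variable (D : Data G)

include D in
/-- The character of degree 22 has integral values. -/
theorem int22 (g : G) : ∃ a : ℤ, (D.c22 : G → ℂ) g = a := by
  refine IsChar.exists_int_of_fixed (IsIrr.isCharacter D.c22.2) g fun k hk => ?_
  obtain ⟨k', hk', hmod⟩ := exists_coprime_lift (N := Nat.card G) Nat.card_pos (orderOf_dvd_natCard g) hk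
  rw [pow_eq_pow_iff_modEq.2 hmod.symm]
  let ψ : IrrCharacter G := ⟨fun x => (D.c22 : G → ℂ) (x ^ k'), IsIrr.pow_map D.c22.2 hk'⟩
  have hd : dg ψ = 22 := by
    apply Nat.cast_injective (R := ℂ)
    rw [← value_one]
    show (D.c22 : G → ℂ) ((1 : G) ^ k') = _
    rw [one_pow, value_one, D.deg_list.1]
  have h := congrArg (fun χ : IrrCharacter G => (χ : G → ℂ) g) (D.eq_c22 (χ := ψ) hd)
  exact h

include D in
/-- The squares of the values are less than the orders of the centralizers. -/
theorem sq_lt {g : G} {a : ℤ} (ha : (D.c22 : G → ℂ) g = a) : 1 + a * a ≤ (cn g : ℤ) := by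
  classical
  have hne : trivialIrr G ≠ D.c22 := fun e => by
    have := congrArg dg e
    rw [dg_trivial, D.deg_list.1] at this
    norm_num at this
  have h := M12Ord.norm_le {trivialIrr G, D.c22} (fun χ => if χ = D.c22 then a else 1) (g := g) fun χ hχ => by
    rcases Finset.mem_insert.1 hχ with rfl | hχ
    · rw [if_neg hne]; simp [trivial_value]
    · rw [Finset.mem_singleton.1 hχ, if_pos rfl, ha]
  rw [Finset.sum_pair hne] at h
  simpa [if_neg hne] using h

end Data

namespace Classes

variable (C : Classes G) (D : Data G)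

include D in
theorem rep_orders (hG : Nat.card G = 10200960) : orderOf C.y = 4 ∨ orderOf C.y = 8 := by
  classical
  have hs := C.sep
  have hno : ¬ IsConj C.toReps.t C.y := by
    refine (List.pairwise_append.1 hs).2.2 _ ?_ _ (by simp)
    simp [Reps.base]
  have hno1 : ¬ IsConj (1 : G) C.y := by
    refine (List.pairwise_append.1 hs).2.2 _ ?_ _ (by simp)
    simp [Reps.base]
  have hnf : ¬ IsConj C.f C.y := by
    have h1 := (List.pairwise_append.1 hs).2.1
    simp only [List.pairwise_cons, List.mem_cons, List.not_mem_nil, or_false, forall_eq_or_imp, forall_eq] at h1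
    tauto
  have hd : orderOf C.y ∣ cn C.y := orderOf_dvd_cn rfl
  have hd32 : orderOf C.y ∣ 2 ^ 5 := by
    rcases C.cases with ⟨-, h⟩ | ⟨-, h⟩ <;> rw [h] at hd
    · simpa using hd
    · exact hd.trans (by norm_num)
  obtain ⟨i, hi5, hi⟩ := (Nat.dvd_prime_pow Nat.prime_two).1 hd32
  have hi0 : i ≠ 0 := fun h0 => hno1 (by
    rw [h0, pow_zero, orderOf_eq_one_iff] at hi
    rw [hi])
  have hi1 : i ≠ 1 := fun h1 => hno (D.toFrame.inv_conj hG C.ht (by rw [hi, h1, pow_one]))
  rcases (by omega : i = 2 ∨ i = 3 ∨ i = 4 ∨ i = 5) with rfl | rfl | hi'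
  · exact Or.inl hi
  · exact Or.inr hi
  exfalso
  have h16 : 16 ∣ cn C.y := by
    refine dvd_trans ?_ hd
    rw [hi]
    exact pow_dvd_pow 2 (n := i) (m := 4) (by omega)
  rcases C.cases with ⟨hf, hy⟩ | ⟨-, hy⟩
  · -- the fourth power has order four or two
    obtain ⟨k, hk, hk4⟩ : ∃ k, k ≠ 0 ∧ orderOf (C.y ^ k) = 4 := by
      refine ⟨2 ^ (i - 2), pow_ne_zero _ two_ne_zero, ?_⟩
      rw [orderOf_pow' _ (pow_ne_zero _ two_ne_zero), hi, Nat.gcd_eq_right (pow_dvd_pow 2 (by omega)),
        Nat.pow_div (by omega) (by norm_num), show i - (i - 2) = 2 by omega]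
    obtain ⟨r, hr, hc⟩ := C.complete (C.y ^ k)
    have ho := conj_orderOf hc
    rw [hk4] at ho
    have hcn : cn (C.y ^ k) = 8 := by
      simp only [Reps.base, List.cons_append, List.nil_append, List.mem_cons, List.not_mem_nil, or_false] at hr
      rcases hr with rfl | rfl | rfl | rfl | rfl | rfl | rfl | rfl | rfl | rfl | rfl | rfl | rfl | rfl | rfl | rfl | rfl
      case inr.inr.inr.inr.inr.inr.inr.inr.inr.inr.inr.inr.inr.inr.inr.inl =>
        rw [← cn_eq_of_isConj hc, hf]
      case inr.inr.inr.inr.inr.inr.inr.inr.inr.inr.inr.inr.inr.inr.inr.inr =>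
        rw [hi] at ho
        rcases hi' with rfl | rfl <;> norm_num at ho
      all_goals simp only [orderOf_one, orderOf_inv, C.ht, C.hx, C.hu, C.hw, C.hv, C.hz, C.toReps.ord_ut,
        C.toReps.ord_u't, C.toReps.ord_xz, C.toReps.ord_xz', C.toReps.ord_zt] at ho
      all_goals norm_num at ho
    have h32 := cn_dvd_pow C.y k
    rw [hy, hcn] at h32
    norm_num at h32
  · rw [hy] at h16
    norm_num at h16

include D in
/-- Every element has one of twelve orders, which determine its centralizer except at orders four and eight. -/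
theorem order_cases (hG : Nat.card G = 10200960) (g : G) :
    (orderOf g = 1 ∧ cn g = 10200960) ∨ (orderOf g = 2 ∧ cn g = 2688) ∨
    (orderOf g = 3 ∧ cn g = 180 ∧ IsConj C.toReps.z g) ∨ (orderOf g = 5 ∧ cn g = 15) ∨
    (orderOf g = 6 ∧ cn g = 12) ∨ (orderOf g = 7 ∧ cn g = 14) ∨ (orderOf g = 11 ∧ cn g = 11) ∨
    (orderOf g = 14) ∨ (orderOf g = 15) ∨ (orderOf g = 23 ∧ cn g = 23) ∨
    ((orderOf g = 4 ∨ orderOf g = 8) ∧ (IsConj C.f g ∨ IsConj C.y g)) := by
  obtain ⟨r, hr, hc⟩ := C.complete g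
  rw [← conj_orderOf hc, ← cn_eq_of_isConj hc]
  simp only [Reps.base, List.cons_append, List.nil_append, List.mem_cons, List.not_mem_nil, or_false] at hr
  have hy := C.rep_orders D hG
  rcases hr with rfl | rfl | rfl | rfl | rfl | rfl | rfl | rfl | rfl | rfl | rfl | rfl | rfl | rfl | rfl | rfl | rfl
  all_goals try simp only [orderOf_one, orderOf_inv, cn_inv, C.ht, C.hx, C.hu, C.hw, C.hv, C.hz, C.hf,
    C.toReps.ord_ut, C.toReps.ord_u't, C.toReps.ord_xz, C.toReps.ord_xz', C.toReps.ord_zt,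
    D.toFrame.inv_cn hG C.ht, D.toFrame.cn_five hG C.hx, D.cn_seven hG C.hu, D.cn_eleven C.hw,
    D.cn_twentythree C.hv, C.cn_z, C.cn_zt]
  all_goals norm_num
  · show Nat.card (Subgroup.centralizer ({1} : Set G)) = _
    rw [centralizer_one_eq_top, Subgroup.card_top, hG]
  · exact isConj_iff.1 hc
  · exact Or.inl (isConj_iff.1 hc)
  · rcases hy with h | h <;> rw [h] <;> norm_num <;> first | exact Or.inr (isConj_iff.1 hc) | exact Or.inr (Or.inr (isConj_iff.1 hc))

include C D in
theorem val_order_three (hG : Nat.card G = 10200960) {g : G} (hg : orderOf g = 3) : (D.c22 : G → ℂ) g = 4 := by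
  obtain ⟨-, b, hb, b22, -⟩ := C.toReps.z_column D hG
  rcases C.order_cases D hG g with h | h | ⟨-, -, hc⟩ | h | h | h | h | h | h | h | ⟨h, -⟩ <;> try omega
  rw [← IsClass.eq_of_isConj (IsIrr.classFun D.c22.2) hc, hb, b22]
  norm_num

include C D in
theorem val_known (hG : Nat.card G = 10200960) {g : G} (hg : orderOf g ≠ 4 ∧ orderOf g ≠ 8) :
    (D.c22 : G → ℂ) g = (val22 (orderOf g) (cn g) : ℂ) := by
  haveI : Fact (Nat.Prime 2) := ⟨Nat.prime_two⟩
  haveI : Fact (Nat.Prime 3) := ⟨by norm_num⟩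
  obtain ⟨a, ha⟩ := D.int22 g
  have hd := D.deg_list.1
  have hsq := D.sq_lt ha
  have hpow : ∀ k : ℕ, orderOf g / Nat.gcd (orderOf g) k = orderOf (g ^ k) := fun k => (orderOf_pow g).symm
  rcases C.order_cases D hG g with h | h | h | h | h | h | h | h | h | h | ⟨h, -⟩
  · rw [h.1, orderOf_eq_one_iff.1 h.1, value_one, hd]
    norm_num [val22]
  · rw [h.1, D.toFrame.inv_value_eq hG h.1, hd]
    norm_num [val22, inv_vals.2.1]
  · rw [h.1, C.val_order_three D hG h.1]
    norm_num [val22]
  · -- order five: two congruences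
    have h5 := M12Ord.congr_deg (p := 5) D.c22 (j := 1) (by rw [h.1, pow_one]) ha
    obtain ⟨z, hz⟩ := exists_prime_orderOf_dvd_card' (G := Subgroup.centralizer ({g} : Set G)) 3
      (by rw [show Nat.card (Subgroup.centralizer ({g} : Set G)) = 15 from h.2]; norm_num)
    rw [← Subgroup.orderOf_coe] at hz
    have hc : Commute g (z : G) := (Subgroup.mem_centralizer_singleton_iff.1 z.2).symm
    obtain ⟨b, hb⟩ := D.int22 (g * (z : G))
    have hgz : orderOf (g * (z : G)) = 15 := by
      rw [hc.orderOf_mul_eq_mul_orderOf_of_coprime (by rw [h.1, hz]; norm_num), h.1, hz]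
    have hb5 := M12Ord.congr_int (p := 5) D.c22 (u := g) (v := (z : G)) (by rw [← h.1]; exact pow_orderOf_eq_one g)
      hc (by rw [hz]; norm_num) hb (b := 4) (by rw [C.val_order_three D hG hz]; norm_num)
    have hb3 := M12Ord.congr_int (p := 3) D.c22 (u := (z : G)) (v := g) (by rw [← hz]; exact pow_orderOf_eq_one _)
      hc.symm (by rw [h.1]; norm_num) (a := b) (by rw [← hc.eq]; exact hb) ha
    have hbs := D.sq_lt hb
    have hcb : cn (g * (z : G)) ≤ 15 := by
      have h6 := cn_dvd_pow (g * (z : G)) 6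
      rw [hc.mul_pow, show g ^ 6 = g by rw [pow_succ, ← h.1, pow_orderOf_eq_one, one_mul],
        show (z : G) ^ 6 = 1 by rw [show 6 = 3 * 2 from rfl, pow_mul, ← hz, pow_orderOf_eq_one, one_pow],
        mul_one, h.2] at h6
      exact Nat.le_of_dvd (by norm_num) h6
    rw [hd] at h5
    rw [h.2] at hsq
    push_cast at hsq
    have hb1 : -3 ≤ b ∧ b ≤ 3 := by constructor <;> nlinarith
    have ha1 : -3 ≤ a ∧ a ≤ 3 := by constructor <;> nlinarith
    rw [ha, h.1]
    norm_num [val22]
    have : a = 2 := by omega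
    simp [this]
  · have h2 : orderOf (g ^ 3) = 2 := by rw [← hpow, h.1]; rfl
    have h3 : orderOf (g ^ 4) = 3 := by rw [← hpow, h.1]; rfl
    have h6 : g ^ 6 = 1 := by rw [← h.1]; exact pow_orderOf_eq_one g
    have he : g ^ 4 * g ^ 3 = g := by rw [← pow_add, show 4 + 3 = 6 + 1 from rfl, pow_add, h6, one_mul, pow_one]
    have hb3 := M12Ord.congr_int (p := 3) D.c22 (u := g ^ 4) (v := g ^ 3)
      (by rw [← h3]; exact pow_orderOf_eq_one _) (Commute.pow_pow (Commute.refl g) 4 3) (by rw [h2]; norm_num)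
      (a := a) (by rw [he]; exact ha) (b := 6) (by
        rw [D.toFrame.inv_value_eq hG h2, hd]; push_cast [inv_vals.2.1]; norm_num [inv_vals.2.1])
    have hb2 := M12Ord.congr_int (p := 2) D.c22 (u := g ^ 3) (v := g ^ 4)
      (by rw [← h2]; exact pow_orderOf_eq_one _) (Commute.pow_pow (Commute.refl g) 3 4) (by rw [h3]; norm_num)
      (a := a) (by rw [← pow_add, show 3 + 4 = 4 + 3 from rfl, pow_add, he]; exact ha) (b := 4)
      (by rw [C.val_order_three D hG h3]; norm_num)
    rw [h.2] at hsq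
    push_cast at hsq
    have ha1 : -3 ≤ a ∧ a ≤ 3 := by constructor <;> nlinarith
    rw [ha, h.1]
    norm_num [val22]
    omega
  · have h7 := M12Ord.congr_deg (p := 7) D.c22 (j := 1) (by rw [h.1, pow_one]) ha
    rw [hd] at h7
    rw [h.2] at hsq
    push_cast at hsq
    have ha1 : -3 ≤ a ∧ a ≤ 3 := by constructor <;> nlinarith
    rw [ha, h.1]
    norm_num [val22]
    have : a = 1 := by omega
    simp [this]
  · rw [M23Ord.vanish hG (q := 11) (by norm_num) D.c22 (by rw [hd]; norm_num [fullPow]) (by rw [h.1]), h.1]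
    norm_num [val22]
  · have h7 : orderOf (g ^ 8) = 7 := by rw [← hpow, h]; rfl
    have h2 : orderOf (g ^ 7) = 2 := by rw [← hpow, h]; rfl
    have h14 : g ^ 14 = 1 := by rw [← h]; exact pow_orderOf_eq_one g
    have hb := M12Ord.congr_int (p := 7) D.c22 (u := g ^ 8) (v := g ^ 7) (by rw [← h7]; exact pow_orderOf_eq_one _)
      (Commute.pow_pow (Commute.refl g) 8 7) (by rw [h2]; norm_num) (a := a)
      (by rw [← pow_add, show 8 + 7 = 14 + 1 from rfl, pow_add, h14, one_mul, pow_one]; exact ha) (b := 6)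
      (by rw [D.toFrame.inv_value_eq hG h2, hd]; push_cast [inv_vals.2.1]; norm_num [inv_vals.2.1])
    have hle : cn g ≤ 14 := by
      have h6 := cn_dvd_pow g 8
      rw [D.cn_seven hG h7] at h6
      exact Nat.le_of_dvd (by norm_num) h6
    have ha1 : -3 ≤ a ∧ a ≤ 3 := by constructor <;> nlinarith
    rw [ha, h]
    norm_num [val22]
    have : a = -1 := by omega
    simp [this]
  · have h5 : orderOf (g ^ 6) = 5 := by rw [← hpow, h]; rfl
    have h3 : orderOf (g ^ 10) = 3 := by rw [← hpow, h]; rfl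
    have h15 : g ^ 15 = 1 := by rw [← h]; exact pow_orderOf_eq_one g
    have hb := M12Ord.congr_int (p := 5) D.c22 (u := g ^ 6) (v := g ^ 10) (by rw [← h5]; exact pow_orderOf_eq_one _)
      (Commute.pow_pow (Commute.refl g) 6 10) (by rw [h3]; norm_num) (a := a)
      (by rw [← pow_add, show 6 + 10 = 15 + 1 from rfl, pow_add, h15, one_mul, pow_one]; exact ha) (b := 4)
      (by rw [C.val_order_three D hG h3]; norm_num)
    have hle : cn g ≤ 15 := by
      have h6 := cn_dvd_pow g 6
      rw [D.toFrame.cn_five hG h5] at h6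
      exact Nat.le_of_dvd (by norm_num) h6
    have ha1 : -3 ≤ a ∧ a ≤ 3 := by constructor <;> nlinarith
    rw [ha, h]
    norm_num [val22]
    have : a = -1 := by omega
    simp [this]
  · have h7 := M12Ord.congr_deg (p := 23) D.c22 (j := 1) (by rw [h.1, pow_one]) ha
    rw [hd] at h7
    rw [h.2] at hsq
    push_cast at hsq
    have ha1 : -4 ≤ a ∧ a ≤ 4 := by constructor <;> nlinarith
    rw [ha, h.1]
    norm_num [val22]
    have : a = -1 := by omega
    simp [this]
  · omega

include C D in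
/-- The values of the character of degree 22. -/
theorem val22_eq (hG : Nat.card G = 10200960) (g : G) :
    (D.c22 : G → ℂ) g = (val22 (orderOf g) (cn g) : ℂ) := by
  classical
  by_cases hg : orderOf g ≠ 4 ∧ orderOf g ≠ 8
  · exact C.val_known D hG hg
  cases nonempty_fintype G
  have hclass : ∀ a b : G, IsConj a b → (D.c22 : G → ℂ) a = (D.c22 : G → ℂ) b := fun a b h =>
    IsClass.eq_of_isConj (IsIrr.classFun D.c22.2) h
  have hlen : (C.toReps.base ++ [C.toReps.z, C.toReps.z * C.toReps.t, C.f, C.y]).length = Nat.card (ConjClasses G) := by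
    rw [D.card_classes]; simp [Reps.base]
  have hne : D.c22 ≠ trivialIrr G := fun e => by
    have := congrArg dg e
    rw [dg_trivial, D.deg_list.1] at this
    norm_num at this
  have h0 : (Nat.card G : ℂ) ≠ 0 := Nat.cast_ne_zero.2 Nat.card_pos.ne'
  have hsum : ∑ x : G, (D.c22 : G → ℂ) x = 0 := by
    have h := classInner_irr_eq_ite D.c22.2 (trivialIrr G).2
    rw [classInner, inv_mul_eq_iff_eq_mul₀ h0, if_neg (fun e => hne (Subtype.ext e)), mul_zero] at h
    simpa [trivial_value] using h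
  have hsq : ∑ x : G, (D.c22 : G → ℂ) x * (D.c22 : G → ℂ) x = 10200960 := by
    have h := classInner_irr_eq_ite D.c22.2 D.c22.2
    rw [classInner, inv_mul_eq_iff_eq_mul₀ h0, if_pos rfl, mul_one, hG] at h
    rw [Finset.sum_congr rfl fun x _ => ?_, h]
    · norm_num
    · obtain ⟨m, hm⟩ := D.int22 x
      rw [hm, map_intCast]
  rw [sum_classes C.sep hlen _ hclass] at hsum
  rw [sum_classes C.sep hlen (fun x => (D.c22 : G → ℂ) x * (D.c22 : G → ℂ) x) (fun a b h => by simp only [hclass a b h])]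
    at hsq
  have hv : ∀ r : G, orderOf r ≠ 4 ∧ orderOf r ≠ 8 → (D.c22 : G → ℂ) r = (val22 (orderOf r) (cn r) : ℂ) :=
    fun r hr => C.val_known D hG hr
  obtain ⟨a, ha⟩ := D.int22 C.f
  obtain ⟨b, hb⟩ := D.int22 C.y
  have h14 : ∀ r : G, orderOf r = 14 → cn r = 14 := fun r hr => by
    refine Nat.dvd_antisymm ?_ (hr ▸ orderOf_dvd_cn rfl)
    rw [← D.cn_seven hG (g := r ^ 8) (by rw [orderOf_pow, hr]; rfl)]
    exact cn_dvd_pow r 8
  have h15 : ∀ r : G, orderOf r = 15 → cn r = 15 := fun r hr => by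
    refine Nat.dvd_antisymm ?_ (hr ▸ orderOf_dvd_cn rfl)
    rw [← D.toFrame.cn_five hG (x := r ^ 6) (by rw [orderOf_pow, hr]; rfl)]
    exact cn_dvd_pow r 6
  have hu' : orderOf C.u⁻¹ = 7 := by rw [orderOf_inv, C.hu]
  have hw' : orderOf C.w⁻¹ = 11 := by rw [orderOf_inv, C.hw]
  have hv' : orderOf C.v⁻¹ = 23 := by rw [orderOf_inv, C.hv]
  have h1 : cn (1 : G) = 10200960 := by
    show Nat.card (Subgroup.centralizer ({1} : Set G)) = _
    rw [centralizer_one_eq_top, Subgroup.card_top, hG]
  simp only [Reps.base, List.cons_append, List.nil_append, List.map_cons, List.map_nil, List.sum_cons,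
    List.sum_nil, add_zero, ha, hb,
    hv 1 (by rw [orderOf_one]; norm_num), hv C.t (by rw [C.ht]; norm_num), hv C.x (by rw [C.hx]; norm_num),
    hv C.u (by rw [C.hu]; norm_num), hv C.u⁻¹ (by rw [hu']; norm_num),
    hv _ (show orderOf (C.u * C.t) ≠ 4 ∧ orderOf (C.u * C.t) ≠ 8 by rw [C.toReps.ord_ut]; norm_num),
    hv _ (show orderOf (C.u⁻¹ * C.t) ≠ 4 ∧ orderOf (C.u⁻¹ * C.t) ≠ 8 by rw [C.toReps.ord_u't]; norm_num),
    hv C.w (by rw [C.hw]; norm_num), hv C.w⁻¹ (by rw [hw']; norm_num), hv C.v (by rw [C.hv]; norm_num),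
    hv C.v⁻¹ (by rw [hv']; norm_num),
    hv _ (show orderOf (C.x * C.z) ≠ 4 ∧ orderOf (C.x * C.z) ≠ 8 by rw [C.toReps.ord_xz]; norm_num),
    hv _ (show orderOf (C.x * C.z⁻¹) ≠ 4 ∧ orderOf (C.x * C.z⁻¹) ≠ 8 by rw [C.toReps.ord_xz']; norm_num),
    hv C.z (by rw [C.hz]; norm_num),
    hv _ (show orderOf (C.z * C.t) ≠ 4 ∧ orderOf (C.z * C.t) ≠ 8 by rw [C.toReps.ord_zt]; norm_num),
    orderOf_one, orderOf_inv, C.ht, C.hx, C.hu, C.hw, C.hv, C.hz, C.toReps.ord_ut, C.toReps.ord_u't,
    C.toReps.ord_xz, C.toReps.ord_xz', C.toReps.ord_zt, h1, cn_inv, D.toFrame.inv_cn hG C.ht,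
    D.toFrame.cn_five hG C.hx, D.cn_seven hG C.hu, D.cn_eleven C.hw, D.cn_twentythree C.hv,
    h14 _ C.toReps.ord_ut, h14 _ C.toReps.ord_u't, h15 _ C.toReps.ord_xz, h15 _ C.toReps.ord_xz', C.cn_z, C.cn_zt,
    hG] at hsum hsq
  have hab : (cn C.f = 8 ∧ cn C.y = 32 ∧ a = 0 ∧ b = 2) ∨ (cn C.f = 32 ∧ cn C.y = 8 ∧ a = 2 ∧ b = 0) := by
    rcases C.cases with ⟨h8, h32⟩ | ⟨h32, h8⟩ <;> rw [h8, h32] at hsum hsq <;> norm_num [val22] at hsum hsq
    · have e1 : (4 * a + b : ℤ) = 2 := by
        apply Int.cast_injective (α := ℂ)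
        push_cast
        linear_combination hsum / 318780
      have e2 : (4 * (a * a) + b * b : ℤ) = 4 := by
        apply Int.cast_injective (α := ℂ)
        push_cast
        linear_combination hsq / 318780
      obtain rfl : b = 2 - 4 * a := by omega
      have : 0 ≤ a ∧ a ≤ 0 := by constructor <;> nlinarith
      exact Or.inl ⟨h8, h32, by omega, by omega⟩
    · have e1 : (a + 4 * b : ℤ) = 2 := by
        apply Int.cast_injective (α := ℂ)
        push_cast
        linear_combination hsum / 318780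
      have e2 : (a * a + 4 * (b * b) : ℤ) = 4 := by
        apply Int.cast_injective (α := ℂ)
        push_cast
        linear_combination hsq / 318780
      obtain rfl : a = 2 - 4 * b := by omega
      have : 0 ≤ b ∧ b ≤ 0 := by constructor <;> nlinarith
      exact Or.inr ⟨h32, h8, by omega, by omega⟩
  rcases C.order_cases D hG g with h | h | h | h | h | h | h | h | h | h | ⟨hord, hc⟩
  all_goals try omega
  have hval : val22 (orderOf g) (cn g) = if cn g = 32 then 2 else 0 := by
    rcases hord with e | e <;> rw [e] <;> norm_num [val22]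
  rw [hval]
  rcases hc with hc | hc <;> rw [← hclass _ _ hc, ← cn_eq_of_isConj hc] <;>
    rcases hab with ⟨e1, e2, e3, e4⟩ | ⟨e1, e2, e3, e4⟩ <;> simp only [e1, e2, e3, e4, ha, hb] <;> norm_num

end Classes

end Cfsg.Agent.Invol.M23Ord
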