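import Mathlib

/-!
Coordinates on an elementary group of order nine, and the finitely many matrices over the field of three elements
that act on it.
-/

set_option autoImplicit false
set_option linter.style.haveILetI false
set_option linter.unusedSectionVars false

namespace Cfsg.Agent.Invol.M23Ord

/-- Vectors over the field of three elements. -/
abbrev V3 := ZMod 3 × ZMod 3

/-- Matrices, given by their columns. -/
abbrev M3 := V3 × V3

/-- The image of a vector. -/
def app (m : M3) (v : V3) : V3 := (v.1 * m.1.1 + v.2 * m.2.1, v.1 * m.1.2 + v.2 * m.2.2)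

/-- The product. -/
def comp (m n : M3) : M3 := (app m n.1, app m n.2)

/-- The determinant. -/
def dt (m : M3) : ZMod 3 := m.1.1 * m.2.2 - m.2.1 * m.1.2

/-- The identity. -/
def idM : M3 := ((1, 0), (0, 1))

/-- Minus the identity. -/
def negM : M3 := ((2, 0), (0, 2))

/-- Powers. -/
def pw (m : M3) : ℕ → M3
  | 0 => idM
  | k + 1 => comp (pw m k) m

/-- The quaternion group of eight elements. -/
def quat : List M3 :=
  [((1, 0), (0, 1)), ((2, 0), (0, 2)), ((0, 1), (2, 0)), ((0, 2), (1, 0)), ((1, 1), (1, 2)), ((2, 2), (2, 1)),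
   ((1, 2), (2, 2)), ((2, 1), (1, 1))]

theorem dt_comp (m n : M3) : dt (comp m n) = dt m * dt n := by
  simp only [dt, comp, app]
  ring

theorem quat_spec : ∀ m : M3, dt m = 1 → pw m 16 = idM → m ∈ quat := by decide +kernel

theorem quat_cases : ∀ m ∈ quat, m = idM ∨ m = negM ∨ comp m m = negM := by decide +kernel

theorem exists_eighth : ∀ m : M3, dt m ≠ 1 → dt m ≠ 0 → pw m 16 = idM → ∃ n ∈ quat, pw (comp m n) 4 = negM := by
  decide +kernel

theorem four_det : ∀ m : M3, pw m 4 = idM → dt m = 1 ∨ ∃ v : V3, v ≠ (0, 0) ∧ app m v = v := by decide +kernel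

theorem five_id : ∀ m : M3, m.1 = (1, 0) → pw m 5 = idM → m = idM := by decide +kernel

theorem negM_app : ∀ v : V3, app negM v = -v := by decide +kernel

theorem idM_app : ∀ v : V3, app idM v = v := by decide +kernel

universe u

variable {G : Type u} [Group G]

/-- Two commuting generators of order three. -/
structure Coords (G : Type u) [Group G] where
  z : G
  q : G
  hz : z ^ 3 = 1
  hq : q ^ 3 = 1
  hz1 : z ≠ 1
  comm : Commute z q
  indep : q ∉ Subgroup.zpowers z

namespace Coords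

variable (B : Coords G)

/-- The element with given coordinates. -/
def el (v : V3) : G := B.z ^ v.1.val * B.q ^ v.2.val

theorem el_zero : B.el 0 = 1 := by simp [el]

theorem el_fst : B.el (1, 0) = B.z := by simp [el, ZMod.val_one]

theorem el_snd : B.el (0, 1) = B.q := by simp [el, ZMod.val_one]

theorem el_add (v w : V3) : B.el (v + w) = B.el v * B.el w := by
  simp only [el, Prod.fst_add, Prod.snd_add, ZMod.val_add]
  rw [← pow_eq_pow_mod _ B.hz, ← pow_eq_pow_mod _ B.hq, pow_add, pow_add]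
  exact (Commute.pow_pow B.comm _ _).mul_mul_mul_comm _ _

theorem el_nsmul (n : ℕ) (v : V3) : B.el (n • v) = B.el v ^ n := by
  induction n with
  | zero => simp [B.el_zero]
  | succ k ih => rw [succ_nsmul, B.el_add, ih, pow_succ]

theorem el_neg (v : V3) : B.el (-v) = (B.el v)⁻¹ :=
  eq_inv_of_mul_eq_one_left (by rw [← B.el_add, neg_add_cancel, B.el_zero])

theorem el_eq_one {v : V3} (h : B.el v = 1) : v = 0 := by
  obtain ⟨a, b⟩ := v
  simp only [el] at h
  have hb : b = 0 := by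
    by_contra hb
    refine B.indep ?_
    have h1 : B.q ^ b.val = (B.z ^ a.val)⁻¹ := eq_inv_of_mul_eq_one_right h
    have h2 : B.q = (B.q ^ b.val) ^ b.val := by
      rw [← pow_mul, pow_eq_pow_mod _ B.hq, show b.val * b.val % 3 = 1 from ?_, pow_one]
      exact (by decide : ∀ c : ZMod 3, c ≠ 0 → c.val * c.val % 3 = 1) b hb
    rw [h2, h1]
    exact pow_mem (inv_mem (pow_mem (Subgroup.mem_zpowers B.z) _)) _
  subst hb
  rw [ZMod.val_zero, pow_zero, mul_one] at h
  have ha := orderOf_dvd_of_pow_eq_one h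
  haveI : Fact (Nat.Prime 3) := ⟨by norm_num⟩
  rw [orderOf_eq_prime B.hz B.hz1] at ha
  have h3 := ZMod.val_lt a
  have : a.val = 0 := by omega
  rw [ZMod.val_eq_zero] at this
  rw [this]
  rfl

theorem el_inj : Function.Injective B.el := fun v w h => by
  have : B.el (v + -w) = 1 := by rw [B.el_add, B.el_neg, h, mul_inv_cancel]
  exact eq_of_sub_eq_zero (by rw [sub_eq_add_neg]; exact B.el_eq_one this)

theorem conj_el (g : G) {m : M3} (h1 : g * B.z * g⁻¹ = B.el m.1) (h2 : g * B.q * g⁻¹ = B.el m.2) (v : V3) :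
    g * B.el v * g⁻¹ = B.el (app m v) := by
  have h : g * B.el v * g⁻¹ = (g * B.z * g⁻¹) ^ v.1.val * (g * B.q * g⁻¹) ^ v.2.val := by
    rw [el, conj_pow, conj_pow]
    group
  rw [h, h1, h2, ← B.el_nsmul, ← B.el_nsmul, ← B.el_add]
  congr 1
  refine Prod.ext ?_ ?_ <;>
    simp [app, nsmul_eq_mul, mul_comm]

/-- The matrix of conjugation. -/
noncomputable def mat (g : G) : M3 :=
  (Function.invFun B.el (g * B.z * g⁻¹), Function.invFun B.el (g * B.q * g⁻¹))

variable {Q : Subgroup G}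

theorem mat_spec (hQ : ∀ x, x ∈ Q ↔ ∃ v, B.el v = x) {g : G} (hg : g ∈ Subgroup.normalizer (Q : Set G)) (v : V3) :
    g * B.el v * g⁻¹ = B.el (app (B.mat g) v) := by
  refine B.conj_el g (Function.invFun_eq ?_).symm (Function.invFun_eq ?_).symm v
  · exact (hQ _).1 ((Subgroup.mem_normalizer_iff.1 hg _).1 ((hQ _).2 ⟨_, B.el_fst⟩))
  · exact (hQ _).1 ((Subgroup.mem_normalizer_iff.1 hg _).1 ((hQ _).2 ⟨_, B.el_snd⟩))

theorem mat_unique (hQ : ∀ x, x ∈ Q ↔ ∃ v, B.el v = x) {g : G} (hg : g ∈ Subgroup.normalizer (Q : Set G)) {m : M3}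
    (h : ∀ v, g * B.el v * g⁻¹ = B.el (app m v)) : B.mat g = m := by
  have h1 := B.el_inj ((B.mat_spec hQ hg (1, 0)).symm.trans (h (1, 0)))
  have h2 := B.el_inj ((B.mat_spec hQ hg (0, 1)).symm.trans (h (0, 1)))
  simp only [app, one_mul, zero_mul, add_zero, zero_add] at h1 h2
  exact Prod.ext h1 h2

theorem mat_one (hQ : ∀ x, x ∈ Q ↔ ∃ v, B.el v = x) : B.mat 1 = idM :=
  B.mat_unique hQ (one_mem _) fun v => by rw [idM_app, one_mul, inv_one, mul_one]

theorem mat_mul (hQ : ∀ x, x ∈ Q ↔ ∃ v, B.el v = x) {g h : G} (hg : g ∈ Subgroup.normalizer (Q : Set G))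
    (hh : h ∈ Subgroup.normalizer (Q : Set G)) : B.mat (g * h) = comp (B.mat g) (B.mat h) := by
  refine B.mat_unique hQ (mul_mem hg hh) fun v => ?_
  have : g * h * B.el v * (g * h)⁻¹ = g * (h * B.el v * h⁻¹) * g⁻¹ := by group
  rw [this, B.mat_spec hQ hh, B.mat_spec hQ hg]
  congr 1
  simp only [comp, app]
  refine Prod.ext ?_ ?_ <;> ring

theorem mat_pow (hQ : ∀ x, x ∈ Q ↔ ∃ v, B.el v = x) {g : G} (hg : g ∈ Subgroup.normalizer (Q : Set G)) (k : ℕ) :
    B.mat (g ^ k) = pw (B.mat g) k := by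
  induction k with
  | zero => rw [pow_zero, B.mat_one hQ]; rfl
  | succ n ih => rw [pow_succ, B.mat_mul hQ (pow_mem hg n) hg, ih]; rfl

theorem mat_eq_idM_iff (hQ : ∀ x, x ∈ Q ↔ ∃ v, B.el v = x) {g : G} (hg : g ∈ Subgroup.normalizer (Q : Set G)) :
    B.mat g = idM ↔ ∀ x ∈ Q, Commute g x := by
  refine ⟨fun h x hx => ?_, fun h => B.mat_unique hQ hg fun v => ?_⟩
  · obtain ⟨v, rfl⟩ := (hQ x).1 hx
    have h' := B.mat_spec hQ hg v
    rw [h, idM_app, mul_inv_eq_iff_eq_mul] at h'
    exact h'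
  · rw [idM_app, mul_inv_eq_iff_eq_mul]
    exact h _ ((hQ _).2 ⟨v, rfl⟩)

theorem dt_ne_zero (hQ : ∀ x, x ∈ Q ↔ ∃ v, B.el v = x) {g : G} (hg : g ∈ Subgroup.normalizer (Q : Set G)) :
    dt (B.mat g) ≠ 0 := fun h => by
  have := B.mat_mul hQ hg (inv_mem hg)
  rw [mul_inv_cancel, B.mat_one hQ] at this
  have h1 := congrArg dt this
  rw [dt_comp, h, zero_mul] at h1
  revert h1
  decide

end Coords

end Cfsg.Agent.Invol.M23Ord
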