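import Mathlib
import Cfsg.Agent.Lib.Invol.Order10200960.Values
import Cfsg.Agent.Lib.Invol.Order10200960.ThreeMatrix
import Cfsg.Agent.Lib.Invol.Order443520.GroupTools

/-!
Simple groups of order 10200960: the normalizer of a Sylow subgroup at three, an element of order eight, and the
centralizer of the elements of order four.
-/

set_option autoImplicit false
set_option linter.style.haveILetI false
set_option linter.unusedSectionVars false

namespace Cfsg.Agent.Invol.M23Ord

open scoped ComplexConjugate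
open Cfsg Cfsg.Agent.Block Cfsg.Agent.Char Cfsg.Agent.Invol.M12Ord
open Cfsg.Agent.Invol.M22Ord (conjSet mem_conjSet card_conjSet)

universe u

theorem dt_cases : ∀ x y : ZMod 3, x ≠ 0 → y ≠ 0 → y ≠ 1 → (x * y = 1 ∧ x ≠ 1) ∨ (x = 1 ∧ x * y ≠ 1) := by decide

variable {G : Type u} [Group G] [Finite G]

/-- The Sylow subgroup at three with coordinates, and the part of its normalizer of determinant one. -/
structure ThreeLocal (G : Type u) [Group G] [Finite G] where
  Q : Sylow 3 G
  B : Coords G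
  hQ : ∀ x, x ∈ (Q : Subgroup G) ↔ ∃ v, B.el v = x
  card_Q : Nat.card (Q : Subgroup G) = 9
  card_norm : Nat.card (Subgroup.normalizer ((Q : Subgroup G) : Set G)) = 144
  cen_Q : Subgroup.centralizer ((Q : Subgroup G) : Set G) = (Q : Subgroup G)
  R : Subgroup G
  R_le : R ≤ Subgroup.normalizer ((Q : Subgroup G) : Set G)
  Q_le : (Q : Subgroup G) ≤ R
  mem_R : ∀ g, g ∈ Subgroup.normalizer ((Q : Subgroup G) : Set G) → (g ∈ R ↔ dt (B.mat g) = 1)
  card_R : Nat.card R = 72
  fibre : ∀ m ∈ quat, ({g ∈ (R : Set G) | B.mat g = m}).ncard = 9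

variable [IsSimpleGroup G]
variable [Fact (Nat.Prime 5)] [Fact (Nat.Prime 7)] [Fact (Nat.Prime 11)] [Fact (Nat.Prime 23)]

namespace Classes

variable (C : Classes G) (D : Data G)

include C D in
theorem no_nine (hG : Nat.card G = 10200960) (g : G) : orderOf g ≠ 9 := by
  intro h
  rcases C.order_cases D hG g with h' | h' | h' | h' | h' | h' | h' | h' | h' | h' | ⟨h', -⟩ <;> omega

include C D in
theorem three_conj (hG : Nat.card G = 10200960) {g : G} (hg : orderOf g = 3) :
    cn g = 180 ∧ IsConj C.toReps.z g := by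
  rcases C.order_cases D hG g with h | h | ⟨-, h1, h2⟩ | h | h | h | h | h | h | h | ⟨h, -⟩
  all_goals try omega
  exact ⟨h1, h2⟩

include C D in
theorem exists_threeLocal (hG : Nat.card G = 10200960) (Q : Sylow 3 G) : ∃ T : ThreeLocal G, T.Q = Q := by
  classical
  haveI : Fact (Nat.Prime 3) := ⟨by norm_num⟩
  haveI : Fact (Nat.Prime 2) := ⟨Nat.prime_two⟩
  have hQ9 : Nat.card (Q : Subgroup G) = 9 := by rw [Q.card_eq_multiplicity, hG, fact_three]; norm_num
  have hQc : Nat.card (Q : Subgroup G) = 3 ^ 2 := by rw [hQ9]; norm_num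
  have hcomm : ∀ a ∈ (Q : Subgroup G), ∀ b ∈ (Q : Subgroup G), Commute a b := fun a ha b hb =>
    congrArg Subtype.val (IsPGroup.commutative_of_card_eq_prime_sq hQc ⟨a, ha⟩ ⟨b, hb⟩)
  have hcube : ∀ a ∈ (Q : Subgroup G), a ^ 3 = 1 := fun a ha => by
    have hd : orderOf a ∣ 3 ^ 2 := hQc ▸ Subgroup.orderOf_dvd_natCard _ ha
    obtain ⟨i, hi, he⟩ := (Nat.dvd_prime_pow (by norm_num)).1 hd
    interval_cases i
    · rw [pow_zero, orderOf_eq_one_iff] at he
      rw [he, one_pow]
    · rw [show (3 : ℕ) = orderOf a by simpa using he.symm, pow_orderOf_eq_one]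
    · exact absurd (by simpa using he) (C.no_nine D hG a)
  obtain ⟨z, hzQ, hz1⟩ : ∃ z ∈ (Q : Subgroup G), z ≠ 1 := by
    by_contra h
    push Not at h
    have : (Q : Subgroup G) = ⊥ := (Subgroup.eq_bot_iff_forall _).2 h
    rw [this, Subgroup.card_bot] at hQ9
    omega
  have hz3 : orderOf z = 3 := orderOf_eq_prime (hcube z hzQ) hz1
  obtain ⟨q, hqQ, hqn⟩ : ∃ q ∈ (Q : Subgroup G), q ∉ Subgroup.zpowers z := by
    by_contra h
    push Not at h
    have := Subgroup.card_dvd_of_le (show (Q : Subgroup G) ≤ Subgroup.zpowers z from h)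
    rw [hQ9, Nat.card_zpowers, hz3] at this
    norm_num at this
  let B : Coords G := ⟨z, q, hcube z hzQ, hcube q hqQ, hz1, hcomm z hzQ q hqQ, hqn⟩
  have hel : ∀ v, B.el v ∈ (Q : Subgroup G) := fun v => mul_mem (pow_mem hzQ _) (pow_mem hqQ _)
  have hspec : ∀ x, x ∈ (Q : Subgroup G) ↔ ∃ v, B.el v = x := by
    intro x
    refine ⟨fun hx => ?_, fun ⟨v, hv⟩ => hv ▸ hel v⟩
    have hinj : Function.Injective fun v : V3 => (⟨B.el v, hel v⟩ : (Q : Subgroup G)) := fun v w h =>
      B.el_inj (congrArg Subtype.val h)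
    obtain ⟨v, hv⟩ := (hinj.bijective_of_nat_card_le (by rw [hQ9]; simp)).2 ⟨x, hx⟩
    exact ⟨v, congrArg Subtype.val hv⟩
  -- the normalizer inside the centralizer of `z`
  set N := Subgroup.normalizer ((Q : Subgroup G) : Set G) with hN
  set H := Subgroup.centralizer ({z} : Set G) with hH
  have hQH : (Q : Subgroup G) ≤ H := fun a ha => Subgroup.mem_centralizer_singleton_iff.2 (hcomm a ha z hzQ).eq
  have hQN : (Q : Subgroup G) ≤ N := Subgroup.le_normalizer
  have hHc : Nat.card H = 180 := (C.three_conj D hG hz3).1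
  have hidm : ∀ g ∈ (Q : Subgroup G), B.mat g = idM := fun g hg =>
    (B.mat_eq_idM_iff hspec (hQN hg)).2 fun x hx => hcomm g hg x hx
  have hno5 : ¬ 5 ∣ Nat.card (N ⊓ H : Subgroup G) := fun h => by
    obtain ⟨a, ha⟩ := exists_prime_orderOf_dvd_card' (G := (N ⊓ H : Subgroup G)) 5 h
    rw [← Subgroup.orderOf_coe] at ha
    obtain ⟨haN, haH⟩ := Subgroup.mem_inf.1 a.2
    have h5 : pw (B.mat a) 5 = idM := by
      rw [← B.mat_pow hspec haN, show (a : G) ^ 5 = 1 by rw [← ha]; exact pow_orderOf_eq_one _, B.mat_one hspec]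
    have h1 : (B.mat a).1 = (1, 0) := by
      refine B.el_inj (Eq.trans (Function.invFun_eq ⟨(1, 0), ?_⟩) ?_)
      · rw [B.el_fst]
        exact (mul_inv_eq_iff_eq_mul.2 (Subgroup.mem_centralizer_singleton_iff.1 haH)).symm
      · rw [B.el_fst]
        exact mul_inv_eq_iff_eq_mul.2 (Subgroup.mem_centralizer_singleton_iff.1 haH)
    have hc := (B.mat_eq_idM_iff hspec haN).1 (five_id _ h1 h5)
    have := Subgroup.card_dvd_of_le (show (Q : Subgroup G) ≤ Subgroup.centralizer ({(a : G)} : Set G) from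
      fun x hx => Subgroup.mem_centralizer_singleton_iff.2 (hc x hx).eq.symm)
    rw [hQ9, show Nat.card (Subgroup.centralizer ({(a : G)} : Set G)) = 15 from D.toFrame.cn_five hG ha] at this
    norm_num at this
  have hNH : Nat.card (N ⊓ H : Subgroup G) = 18 := by
    have h1 := card_sylow_modEq_one 3 H
    rw [(Q.subtype hQH).card_eq_index_normalizer,
      show ((Q.subtype hQH : Sylow 3 H) : Set H) = (((Q : Subgroup G).subgroupOf H : Subgroup H) : Set H) from rfl,
      ← Subgroup.subgroupOf_normalizer_eq hQH, Subgroup.index] at h1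
    have h2 := Subgroup.card_mul_index (N.subgroupOf H)
    rw [Subgroup.index, hHc] at h2
    have h3 : Nat.card (N.subgroupOf H) = Nat.card (N ⊓ H : Subgroup G) := by
      rw [← Subgroup.inf_subgroupOf_right, Nat.card_congr (Subgroup.subgroupOfEquivOfLe inf_le_right).toEquiv]
    rw [h3] at h2
    obtain ⟨k, hk⟩ := Subgroup.card_dvd_of_le (le_inf hQN hQH)
    rw [hQ9] at hk
    rw [hk] at h2 hno5
    generalize Nat.card (H ⧸ N.subgroupOf H) = i at h1 h2
    have hk20 : k ∈ Nat.divisors 20 := Nat.mem_divisors.2 ⟨⟨i, by rw [mul_assoc] at h2; omega⟩, by norm_num⟩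
    rw [show Nat.divisors 20 = {1, 2, 4, 5, 10, 20} by decide] at hk20
    simp only [Finset.mem_insert, Finset.mem_singleton] at hk20
    rw [hk]
    unfold Nat.ModEq at h1
    rcases hk20 with rfl | rfl | rfl | rfl | rfl | rfl <;> omega
  have hcenN : Subgroup.centralizer ((Q : Subgroup G) : Set G) ≤ N ⊓ H :=
    le_inf (Subgroup.centralizer_le_normalizer _)
      (Subgroup.centralizer_le (Set.singleton_subset_iff.2 hzQ))
  have hcen : Subgroup.centralizer ((Q : Subgroup G) : Set G) = (Q : Subgroup G) := by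
    have hle : (Q : Subgroup G) ≤ Subgroup.centralizer ((Q : Subgroup G) : Set G) := fun a ha =>
      Subgroup.mem_centralizer_iff.2 fun b hb => (hcomm b hb a ha).eq
    obtain ⟨k, hk⟩ := Subgroup.card_dvd_of_le hle
    have hd := Subgroup.card_dvd_of_le hcenN
    rw [hNH, hk, hQ9] at hd
    rw [hQ9] at hk
    have hk2 : k ∣ 2 := Nat.dvd_of_mul_dvd_mul_left (by norm_num : 0 < 9) hd
    rcases (Nat.dvd_prime Nat.prime_two).1 hk2 with rfl | rfl
    · exact (Subgroup.eq_of_le_of_card_ge hle (by omega)).symm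
    exfalso
    obtain ⟨s, hs⟩ := exists_prime_orderOf_dvd_card' (G := Subgroup.centralizer ((Q : Subgroup G) : Set G)) 2
      (by rw [hk]; norm_num)
    rw [← Subgroup.orderOf_coe] at hs
    have := Subgroup.card_dvd_of_le (show (Q : Subgroup G) ≤ Subgroup.centralizer ({(s : G)} : Set G) from
      fun x hx => Subgroup.mem_centralizer_singleton_iff.2 (Subgroup.mem_centralizer_iff.1 s.2 x hx))
    rw [hQ9, show Nat.card (Subgroup.centralizer ({(s : G)} : Set G)) = 2688 from D.toFrame.inv_cn hG hs] at this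
    norm_num at this
  -- all eight elements are conjugate in the normalizer
  have hNc : Nat.card N = 144 := by
    haveI : IsMulCommutative (Q : Subgroup G) := ⟨⟨fun a b => Subtype.ext (hcomm a a.2 b b.2).eq⟩⟩
    have hset : ((conjSet N z : Finset G) : Set G) = ((Q : Subgroup G) : Set G) \ {1} := by
      ext x
      simp only [Finset.mem_coe, mem_conjSet, Set.mem_sdiff, SetLike.mem_coe, Set.mem_singleton_iff]
      constructor
      · rintro ⟨n, hn, rfl⟩
        exact ⟨(Subgroup.mem_normalizer_iff.1 hn z).1 hzQ, fun h => hz1 (conj_eq_one_iff.1 h)⟩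
      · rintro ⟨hx, hx1⟩
        have hxo : orderOf x = 3 := orderOf_eq_prime (hcube x hx) hx1
        obtain ⟨g, hg⟩ := isConj_iff.1 ((C.three_conj D hG hz3).2.symm.trans (C.three_conj D hG hxo).2)
        obtain ⟨n, hn, hnx⟩ := Q.conj_eq_normalizer_conj_of_mem z g⁻¹ hzQ (by rw [inv_inv, hg]; exact hx)
        rw [inv_inv, hg] at hnx
        exact ⟨n⁻¹, inv_mem hn, by rw [inv_inv, ← hnx]⟩
    rw [card_conjSet N z, hNH, ← Set.ncard_coe_finset, hset, Set.ncard_sdiff_singleton_of_mem (one_mem _),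
      ← Nat.card_coe_set_eq]
    show (Nat.card (Q : Subgroup G) - 1) * 18 = 144
    rw [hQ9]
  -- the kernel of the determinant
  let R : Subgroup G :=
    { carrier := {g | g ∈ N ∧ dt (B.mat g) = 1}
      one_mem' := ⟨one_mem _, by rw [B.mat_one hspec]; rfl⟩
      mul_mem' := fun {a b} ha hb => ⟨mul_mem ha.1 hb.1, by
        rw [B.mat_mul hspec ha.1 hb.1, dt_comp, ha.2, hb.2, mul_one]⟩
      inv_mem' := fun {a} ha => ⟨inv_mem ha.1, by
        have h := congrArg dt (B.mat_mul hspec ha.1 (inv_mem ha.1))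
        rw [mul_inv_cancel, B.mat_one hspec, dt_comp, ha.2, one_mul] at h
        rw [← h]; rfl⟩ }
  have hRN : R ≤ N := fun g hg => hg.1
  have hQR : (Q : Subgroup G) ≤ R := fun g hg => ⟨hQN hg, by rw [hidm g hg]; rfl⟩
  have h16 : ∀ g ∈ N, pw (B.mat g) 16 = idM := fun g hg => by
    haveI : ((Q : Subgroup G).subgroupOf N).Normal :=
      (Subgroup.normal_subgroupOf_iff_le_normalizer hQN).2 le_rfl
    have hi : ((Q : Subgroup G).subgroupOf N).index = 16 := by
      have := Subgroup.card_mul_index ((Q : Subgroup G).subgroupOf N)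
      rw [Nat.card_congr (Subgroup.subgroupOfEquivOfLe hQN).toEquiv, hQ9, hNc] at this
      omega
    have hmem := Subgroup.pow_index_mem ((Q : Subgroup G).subgroupOf N) (⟨g, hg⟩ : N)
    rw [hi, Subgroup.mem_subgroupOf] at hmem
    rw [← B.mat_pow hspec hg]
    exact hidm _ hmem
  haveI := Fintype.ofFinite G
  have hfib : ∀ m, (Finset.univ.filter fun g => g ∈ R ∧ B.mat g = m).card ≤ 9 := by
    intro m
    by_cases hex : ∃ g₀, g₀ ∈ R ∧ B.mat g₀ = m
    · obtain ⟨g₀, hg₀, hm⟩ := hex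
      refine le_trans (Finset.card_le_card_of_injOn (fun g => g₀⁻¹ * g) (t := Finset.univ.filter fun g => g ∈ (Q : Subgroup G))
        (fun g hg => ?_) (fun a _ b _ h => mul_left_cancel h)) ?_
      · simp only [Finset.coe_filter, Finset.mem_univ, true_and, Set.mem_ofPred_eq, Finset.mem_filter] at hg ⊢
        rw [← hcen, Subgroup.mem_centralizer_iff]
        intro x hx
        obtain ⟨v, rfl⟩ := (hspec x).1 hx
        have h1 := B.mat_spec hspec hg.1.1 v
        have h2 := B.mat_spec hspec hg₀.1 v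
        rw [hg.2] at h1
        rw [hm] at h2
        rw [← h2] at h1
        calc B.el v * (g₀⁻¹ * g) = g₀⁻¹ * (g₀ * B.el v * g₀⁻¹) * g := by group
          _ = g₀⁻¹ * (g * B.el v * g⁻¹) * g := by rw [h1]
          _ = g₀⁻¹ * g * B.el v := by group
      · rw [← Fintype.card_subtype, ← Nat.card_eq_fintype_card]
        exact le_of_eq hQ9
    · rw [Finset.card_eq_zero.2 (Finset.filter_eq_empty_iff.2 fun g _ h => hex ⟨g, h⟩)]
      omega
  have hRsum : Nat.card R = ∑ m ∈ quat.toFinset, (Finset.univ.filter fun g => g ∈ R ∧ B.mat g = m).card := by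
    rw [Nat.card_eq_fintype_card, Fintype.card_subtype,
      Finset.card_eq_sum_card_fiberwise (f := B.mat) (t := quat.toFinset) fun g hg =>
        List.mem_toFinset.2 (quat_spec _ (Finset.mem_filter.1 (Finset.mem_coe.1 hg)).2.2
          (h16 g (Finset.mem_filter.1 (Finset.mem_coe.1 hg)).2.1))]
    simp only [Finset.filter_filter]
  have hR72 : Nat.card R = 72 := by
    have hle : Nat.card R ≤ 72 := by
      rw [hRsum]
      refine le_trans (Finset.sum_le_card_nsmul _ _ 9 fun m _ => hfib m) ?_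
      rw [show quat.toFinset.card = 8 by decide]
      norm_num
    have hidx : R.relIndex N ≤ 2 := by
      by_cases hex : ∃ g₀, g₀ ∈ N ∧ g₀ ∉ R
      · obtain ⟨g₀, hg₀, hg₀R⟩ := hex
        refine le_of_eq ((Subgroup.index_eq_two_iff).2 ⟨⟨g₀, hg₀⟩, fun b => ?_⟩)
        have hb := B.dt_ne_zero hspec b.2
        have h0 := B.dt_ne_zero hspec hg₀
        have h0' : dt (B.mat g₀) ≠ 1 := fun h => hg₀R ⟨hg₀, h⟩
        simp only [Subgroup.mem_subgroupOf, Subgroup.coe_mul, xor_def]
        show ((b : G) * g₀ ∈ N ∧ _) ∧ ¬ ((b : G) ∈ N ∧ _) ∨ ((b : G) ∈ N ∧ _) ∧ ¬ ((b : G) * g₀ ∈ N ∧ _)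
        rw [B.mat_mul hspec b.2 hg₀, dt_comp]
        revert hb h0 h0'
        generalize dt (B.mat (b : G)) = x
        generalize dt (B.mat g₀) = y
        intro hb h0 h0'
        rcases dt_cases x y hb h0 h0' with ⟨h1, h2⟩ | ⟨h1, h2⟩
        · exact Or.inl ⟨⟨mul_mem b.2 hg₀, h1⟩, fun h => h2 h.2⟩
        · exact Or.inr ⟨⟨b.2, h1⟩, fun h => h2 h.2⟩
      · push Not at hex
        rw [Subgroup.relIndex_eq_one.2 hex]
        norm_num
    have hm : Nat.card R * R.relIndex N = 144 := by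
      rw [← hNc, Subgroup.relIndex, ← Nat.card_congr (Subgroup.subgroupOfEquivOfLe hRN).toEquiv,
        Subgroup.card_mul_index]
    have : R.relIndex N ≠ 0 := fun h => by rw [h, mul_zero] at hm; norm_num at hm
    interval_cases hr : R.relIndex N <;> omega
  refine ⟨⟨Q, B, hspec, hQ9, hNc, hcen, R, hRN, hQR, fun g hg => ⟨fun h => h.2, fun h => ⟨hg, h⟩⟩, hR72,
    fun m hm => ?_⟩, rfl⟩
  have hs := Finset.sum_le_card_nsmul (quat.toFinset.erase m) _ 9 fun k _ => hfib k
  rw [← Finset.add_sum_erase _ _ (List.mem_toFinset.2 hm), hR72] at hRsum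
  rw [Finset.card_erase_of_mem (List.mem_toFinset.2 hm), show quat.toFinset.card = 8 by decide] at hs
  have := hfib m
  rw [show ({g ∈ (R : Set G) | B.mat g = m}) = ((Finset.univ.filter fun g => g ∈ R ∧ B.mat g = m) : Set G) by
    ext g; simp, Set.ncard_coe_finset]
  simp only [smul_eq_mul] at hs
  omega

end Classes

namespace ThreeLocal

variable (T : ThreeLocal G)

theorem mat_of_mem {g : G} (hg : g ∈ T.R) : T.B.mat g ∈ quat := by
  refine quat_spec _ ((T.mem_R g (T.R_le hg)).1 hg) ?_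
  haveI : ((T.Q : Subgroup G).subgroupOf T.R).Normal :=
    (Subgroup.normal_subgroupOf_iff_le_normalizer T.Q_le).2 T.R_le
  have hi : ((T.Q : Subgroup G).subgroupOf T.R).index = 8 := by
    have := Subgroup.card_mul_index ((T.Q : Subgroup G).subgroupOf T.R)
    rw [Nat.card_congr (Subgroup.subgroupOfEquivOfLe T.Q_le).toEquiv, T.card_Q, T.card_R] at this
    omega
  have hmem := Subgroup.pow_index_mem ((T.Q : Subgroup G).subgroupOf T.R) (⟨g, hg⟩ : T.R)
  rw [hi, Subgroup.mem_subgroupOf] at hmem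
  have hid : T.B.mat (g ^ 8) = idM := (T.B.mat_eq_idM_iff T.hQ (pow_mem (T.R_le hg) 8)).2 fun x hx => by
    rw [← T.cen_Q, Subgroup.mem_centralizer_iff] at hmem
    exact (hmem x hx).symm
  rw [← T.B.mat_pow T.hQ (T.R_le hg), show g ^ 16 = g ^ 8 * g ^ 8 by rw [← pow_add],
    T.B.mat_mul T.hQ (pow_mem (T.R_le hg) 8) (pow_mem (T.R_le hg) 8), hid]
  rfl

theorem mem_Q_iff {g : G} (hg : g ∈ Subgroup.normalizer ((T.Q : Subgroup G) : Set G)) :
    g ∈ (T.Q : Subgroup G) ↔ T.B.mat g = idM := by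
  rw [T.B.mat_eq_idM_iff T.hQ hg]
  conv_lhs => rw [← T.cen_Q, Subgroup.mem_centralizer_iff]
  exact ⟨fun h x hx => (h x hx).symm, fun h x hx => (h x hx).eq.symm⟩

/-- An element inverting the Sylow subgroup is an involution. -/
theorem inv_of_negM {g : G} (hg : g ∈ Subgroup.normalizer ((T.Q : Subgroup G) : Set G)) (h : T.B.mat g = negM) :
    orderOf g = 2 := by
  haveI : Fact (Nat.Prime 2) := ⟨Nat.prime_two⟩
  have hne : g ≠ 1 := fun e => by
    rw [e, T.B.mat_one T.hQ] at h
    exact absurd h (by decide)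
  refine orderOf_eq_prime ?_ hne
  have h2 : g ^ 2 ∈ (T.Q : Subgroup G) := by
    rw [T.mem_Q_iff (pow_mem hg 2), T.B.mat_pow T.hQ hg, h]
    rfl
  obtain ⟨v, hv⟩ := (T.hQ _).1 h2
  have hc := T.B.mat_spec T.hQ hg v
  rw [h, negM_app, hv, T.B.el_neg, hv] at hc
  have h4 : (g ^ 2) ^ 2 = 1 := by
    rw [pow_two (g ^ 2)]
    nth_rewrite 1 [show g ^ 2 = (g ^ 2)⁻¹ from (by group : g ^ 2 = g * g ^ 2 * g⁻¹).trans hc]
    exact inv_mul_cancel _
  have h3 : (g ^ 2) ^ 3 = 1 := by
    rw [← hv, ← T.B.el_nsmul, show (3 : ℕ) • v = 0 from (by decide : ∀ w : V3, (3 : ℕ) • w = 0) v, T.B.el_zero]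
  calc g ^ 2 = (g ^ 2) ^ 3 * ((g ^ 2) ^ 2)⁻¹ := by group
    _ = 1 := by rw [h3, h4, inv_one, one_mul]

/-- Outside the Sylow subgroup the elements of `R` have order two or four. -/
theorem outside {g : G} (hg : g ∈ T.R) (hgQ : g ∉ (T.Q : Subgroup G)) :
    (orderOf g = 2 ∧ T.B.mat g = negM) ∨ (orderOf g = 4 ∧ T.B.mat g ≠ negM) := by
  rcases quat_cases _ (T.mat_of_mem hg) with h | h | h
  · exact absurd ((T.mem_Q_iff (T.R_le hg)).2 h) hgQ
  · exact Or.inl ⟨T.inv_of_negM (T.R_le hg) h, h⟩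
  · have h2 : orderOf (g ^ 2) = 2 := by
      refine T.inv_of_negM (pow_mem (T.R_le hg) 2) ?_
      rw [pow_two, T.B.mat_mul T.hQ (T.R_le hg) (T.R_le hg), h]
    haveI : Fact (Nat.Prime 2) := ⟨Nat.prime_two⟩
    have hneg : T.B.mat g ≠ negM := fun e => by
      rw [e] at h
      exact absurd h (by decide)
    refine Or.inr ⟨?_, hneg⟩
    refine orderOf_eq_prime_pow (p := 2) (n := 1) (fun e => ?_) ?_
    · rw [pow_one] at e
      rw [e, orderOf_one] at h2
      norm_num at h2
    · rw [show 2 ^ (1 + 1) = 2 * 2 from rfl, pow_mul]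
      have h := pow_orderOf_eq_one (g ^ 2)
      rwa [h2] at h

end ThreeLocal

namespace Classes

variable (C : Classes G) (D : Data G)

include C D in
theorem exists_order_eight (hG : Nat.card G = 10200960) : ∃ g : G, orderOf g = 8 := by
  classical
  haveI : Fact (Nat.Prime 3) := ⟨by norm_num⟩
  haveI : Fact (Nat.Prime 2) := ⟨Nat.prime_two⟩
  obtain ⟨Q⟩ : Nonempty (Sylow 3 G) := inferInstance
  obtain ⟨T, -⟩ := C.exists_threeLocal D hG Q
  set N := Subgroup.normalizer ((T.Q : Subgroup G) : Set G) with hN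
  obtain ⟨g, hgN, hgR⟩ : ∃ g, g ∈ N ∧ g ∉ T.R := by
    by_contra h
    push Not at h
    have := Subgroup.card_dvd_of_le (show N ≤ T.R from h)
    rw [T.card_norm, T.card_R] at this
    norm_num at this
  have h16 : pw (T.B.mat g) 16 = idM := by
    haveI : ((T.Q : Subgroup G).subgroupOf N).Normal :=
      (Subgroup.normal_subgroupOf_iff_le_normalizer (T.Q_le.trans T.R_le)).2 le_rfl
    have hi : ((T.Q : Subgroup G).subgroupOf N).index = 16 := by
      have := Subgroup.card_mul_index ((T.Q : Subgroup G).subgroupOf N)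
      rw [Nat.card_congr (Subgroup.subgroupOfEquivOfLe (T.Q_le.trans T.R_le)).toEquiv, T.card_Q, T.card_norm] at this
      omega
    have hmem := Subgroup.pow_index_mem ((T.Q : Subgroup G).subgroupOf N) (⟨g, hgN⟩ : N)
    rw [hi, Subgroup.mem_subgroupOf] at hmem
    rw [← T.B.mat_pow T.hQ hgN]
    exact (T.mem_Q_iff (pow_mem hgN 16)).1 hmem
  obtain ⟨n, hn, hn4⟩ := exists_eighth _ (fun h => hgR ((T.mem_R g hgN).2 h)) (T.B.dt_ne_zero T.hQ hgN) h16
  obtain ⟨h, hhR, hhn⟩ : ∃ h, h ∈ T.R ∧ T.B.mat h = n := by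
    have h9 := T.fibre n hn
    obtain ⟨x, hx⟩ := Set.nonempty_of_ncard_ne_zero (by rw [h9]; norm_num)
    exact ⟨x, hx.1, hx.2⟩
  have hk := T.inv_of_negM (pow_mem (mul_mem hgN (T.R_le hhR)) 4)
    (by rw [T.B.mat_pow T.hQ (mul_mem hgN (T.R_le hhR)), T.B.mat_mul T.hQ hgN (T.R_le hhR), hhn, hn4])
  refine ⟨g * h, orderOf_eq_prime_pow (p := 2) (n := 2) (fun e => ?_) ?_⟩
  · rw [show (2 : ℕ) ^ 2 = 4 from rfl] at e
    rw [e, orderOf_one] at hk
    norm_num at hk
  · rw [show 2 ^ (2 + 1) = 4 * 2 from rfl, pow_mul]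
    exact hk ▸ pow_orderOf_eq_one ((g * h) ^ 4)

include C D in
/-- The centralizer of an element of order four has order thirty-two. -/
theorem cn_four (hG : Nat.card G = 10200960) {g : G} (hg : orderOf g = 4) : cn g = 32 := by
  obtain ⟨k, hk⟩ := C.exists_order_eight D hG
  have hky : IsConj C.y k := by
    rcases C.order_cases D hG k with h | h | h | h | h | h | h | h | h | h | ⟨-, h | h⟩
    all_goals try omega
    · have := conj_orderOf h
      rw [C.hf, hk] at this
      omega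
  have hy8 : orderOf C.y = 8 := (conj_orderOf hky).trans hk
  have hall : ∀ a : G, orderOf a = 4 → cn a = cn C.f := fun a ha => by
    rcases C.order_cases D hG a with h | h | h | h | h | h | h | h | h | h | ⟨-, h | h⟩
    all_goals try omega
    · exact (cn_eq_of_isConj h).symm
    · have := conj_orderOf h
      rw [hy8, ha] at this
      omega
  rw [hall g hg]
  rcases C.cases with ⟨hf, hy⟩ | ⟨hf, -⟩
  · exfalso
    have h2 : orderOf (C.y ^ 2) = 4 := by rw [orderOf_pow, hy8]; rfl
    have := cn_dvd_pow C.y 2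
    rw [hy, hall _ h2, hf] at this
    norm_num at this
  · exact hf

include C D in
theorem val_four (hG : Nat.card G = 10200960) {g : G} (hg : orderOf g = 4) : (D.c22 : G → ℂ) g = 2 := by
  rw [C.val22_eq D hG g, hg, C.cn_four D hG hg]
  norm_num [val22]

end Classes

end Cfsg.Agent.Invol.M23Ord
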