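import Mathlib
import Cfsg.Agent.Lib.Invol.Order10200960.SylowThree

/-!
Simple groups of order 10200960: centralizers of commuting elements of orders seven, three and two, and the
normalizer of a subgroup of order seven.
-/

set_option autoImplicit false
set_option linter.style.haveILetI false
set_option linter.unusedSectionVars false

namespace Cfsg.Agent.Invol.M23Ord

open scoped ComplexConjugate
open Cfsg Cfsg.Agent.Block Cfsg.Agent.Char Cfsg.Agent.Invol.M12Ord
open Cfsg.Agent.Invol.M22Ord (PBlk conjSet mem_conjSet card_conjSet exists_gen)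

universe u

variable {G : Type u} [Group G] [Finite G]

/-- The fixed points of an element of prime order among a set it permutes. -/
theorem fixed_mod [DecidableEq G] {p : ℕ} [Fact p.Prime] {v : G} (hv : v ^ p = 1) (S : Finset G) (hS : ∀ y ∈ S, v * y * v⁻¹ ∈ S) :
    (S.filter fun y => v * y * v⁻¹ = y).card % p = S.card % p := by
  classical
  let f : {y // y ∈ S} → {y // y ∈ S} := fun y => ⟨v * y.1 * v⁻¹, hS _ y.2⟩
  have hf : Function.Injective f := fun a b h => by
    have h' : v * a.1 * v⁻¹ = v * b.1 * v⁻¹ := congrArg Subtype.val h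
    exact Subtype.ext (mul_left_cancel (mul_right_cancel h'))
  let σ : Equiv.Perm {y // y ∈ S} := Equiv.ofBijective f hf.bijective_of_finite
  have h1 : ∀ k y, ((σ ^ k) y).1 = v ^ k * y.1 * (v ^ k)⁻¹ := fun k => by
    induction k with
    | zero => intro y; simp
    | succ n ih =>
      intro y
      rw [pow_succ', Equiv.Perm.mul_apply]
      show v * ((σ ^ n) y).1 * v⁻¹ = _
      rw [ih, pow_succ']
      group
  have hσ : σ ^ p ^ 1 = 1 := by
    refine Equiv.ext fun y => Subtype.ext ?_
    rw [pow_one, h1, hv]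
    simp
  have h := Equiv.Perm.card_compl_support_modEq (p := p) hσ
  rw [Fintype.card_coe] at h
  rw [← h]
  have e : σ.supportᶜ = S.attach.filter fun y => v * y.1 * v⁻¹ = y.1 := by
    ext y
    simp [Equiv.Perm.mem_support, Subtype.ext_iff, σ, f]
  rw [e, Finset.filter_attach (fun y => v * y * v⁻¹ = y), Finset.card_map, Finset.card_attach]

/-- The fixed points of an element of prime order in a subgroup it normalizes. -/
theorem fixed_mod_sub {p : ℕ} [Fact p.Prime] {v : G} (hv : v ^ p = 1) {M : Subgroup G}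
    (hM : v ∈ Subgroup.normalizer (M : Set G)) :
    Nat.card (M ⊓ Subgroup.centralizer ({v} : Set G) : Subgroup G) % p = Nat.card M % p := by
  classical
  haveI := Fintype.ofFinite G
  have hc : ∀ H : Subgroup G, (Finset.univ.filter fun y => y ∈ H).card = Nat.card H := fun H => by
    rw [Nat.card_eq_fintype_card, Fintype.card_subtype]
  rw [← hc, ← hc, ← fixed_mod hv (Finset.univ.filter fun y => y ∈ M) fun y hy => by
    simpa using (Subgroup.mem_normalizer_iff.1 hM y).1 (by simpa using hy)]
  refine congrArg (· % p) (congrArg Finset.card ?_)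
  ext y
  simp only [Finset.mem_filter, Finset.mem_univ, true_and, Subgroup.mem_inf, Subgroup.mem_centralizer_singleton_iff,
    mul_inv_eq_iff_eq_mul]
  exact ⟨fun h => ⟨h.1, h.2.symm⟩, fun h => ⟨h.1, h.2.symm⟩⟩

variable [IsSimpleGroup G]
variable [Fact (Nat.Prime 5)] [Fact (Nat.Prime 7)] [Fact (Nat.Prime 11)] [Fact (Nat.Prime 23)]

namespace Data

variable (D : Data G)

include D in
/-- The centralizer of an element of order seven is cyclic. -/
theorem cen_seven (hG : Nat.card G = 10200960) {u t : G} (hu : orderOf u = 7) (ht : orderOf t = 2)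
    (hc : Commute u t) :
    Subgroup.centralizer ({u} : Set G) = Subgroup.zpowers (u * t) ∧ orderOf (u * t) = 14 := by
  have ho : orderOf (u * t) = 14 := by
    rw [hc.orderOf_mul_eq_mul_orderOf_of_coprime (by rw [hu, ht]; norm_num), hu, ht]
  refine ⟨(Subgroup.eq_of_le_of_card_ge ?_ ?_).symm, ho⟩
  · exact Subgroup.zpowers_le.2 (Subgroup.mem_centralizer_singleton_iff.2 ((Commute.refl u).mul_left hc.symm).eq)
  · rw [Nat.card_zpowers, ho]
    exact (D.cn_seven hG hu).le

include D in
theorem cen_seven_le (hG : Nat.card G = 10200960) {u t : G} (hu : orderOf u = 7) (ht : orderOf t = 2)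
    (hc : Commute u t) {y : G} (hy : Commute y u) : Commute y t := by
  have hm : y ∈ Subgroup.zpowers (u * t) :=
    (D.cen_seven hG hu ht hc).1 ▸ Subgroup.mem_centralizer_singleton_iff.2 hy.eq
  obtain ⟨i, rfl⟩ := Subgroup.mem_zpowers_iff.1 hm
  exact (hc.mul_left (Commute.refl t)).zpow_left i

include D in
/-- Only one involution commutes with an element of order seven. -/
theorem inv_unique (hG : Nat.card G = 10200960) {u t : G} (hu : orderOf u = 7) (ht : orderOf t = 2)
    (hc : Commute u t) {y : G} (hy : Commute y u) (hy2 : y ^ 2 = 1) : y = 1 ∨ y = t := by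
  obtain ⟨heq, ho⟩ := D.cen_seven hG hu ht hc
  have hm : y ∈ Subgroup.zpowers (u * t) := heq ▸ Subgroup.mem_centralizer_singleton_iff.2 hy.eq
  obtain ⟨i, hi⟩ := mem_powers_iff_mem_zpowers.2 hm
  change (u * t) ^ i = y at hi
  have hd : 14 ∣ i * 2 := ho ▸ orderOf_dvd_of_pow_eq_one (by rw [pow_mul, hi, hy2])
  obtain ⟨k, hk⟩ : 7 ∣ i := Nat.dvd_of_mul_dvd_mul_right (by norm_num : 0 < 2) hd
  have ht7 : (u * t) ^ 7 = t := by
    rw [hc.mul_pow, ← hu, pow_orderOf_eq_one, one_mul, hu, show 7 = 2 * 3 + 1 from rfl, pow_succ, pow_mul, ← ht,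
      pow_orderOf_eq_one, one_pow, one_mul]
  rw [hk, pow_mul, ht7] at hi
  rcases Nat.even_or_odd k with ⟨j, rfl⟩ | ⟨j, rfl⟩
  · refine Or.inl ?_
    rw [← hi, ← two_mul, pow_mul, ← ht, pow_orderOf_eq_one, one_pow]
  · refine Or.inr ?_
    rw [← hi, pow_succ, pow_mul, ← ht, pow_orderOf_eq_one, one_pow, one_mul]

include D in
/-- The normalizer of a subgroup of order seven. -/
theorem card_normalizer_seven (hG : Nat.card G = 10200960) {u : G} (hu : orderOf u = 7) :
    Nat.card (Subgroup.normalizer ((Subgroup.zpowers u : Subgroup G) : Set G)) = 42 := by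
  have hP : Nat.card (D.S.P : Subgroup G) = 7 := D.S.hP
  obtain ⟨P, hPu⟩ : ∃ P : Sylow 7 G, (P : Subgroup G) = Subgroup.zpowers u := by
    obtain ⟨Q, hQ⟩ := (IsPGroup.of_card (p := 7) (G := ↥(Subgroup.zpowers u)) (n := 1)
      (by rw [Nat.card_zpowers, hu, pow_one])).exists_le_sylow
    refine ⟨Q, (Subgroup.eq_of_le_of_card_ge hQ ?_).symm⟩
    rw [Nat.card_zpowers, hu, Q.card_eq_multiplicity, ← D.S.P.card_eq_multiplicity]
    exact hP.le
  have h1 : (Subgroup.normalizer ((P : Subgroup G) : Set G)).index =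
      (Subgroup.normalizer ((D.S.P : Subgroup G) : Set G)).index :=
    P.card_eq_index_normalizer.symm.trans D.S.P.card_eq_index_normalizer
  have h2 := Subgroup.card_mul_index (Subgroup.normalizer ((P : Subgroup G) : Set G))
  have h3 := Subgroup.card_mul_index (Subgroup.normalizer ((D.S.P : Subgroup G) : Set G))
  rw [D.S.card_N (c := 2) (by rw [D.card_C_seven hG]), hG] at h3
  rw [h1, hG] at h2
  rw [← hPu]
  have : (Subgroup.normalizer ((D.S.P : Subgroup G) : Set G)).index = 242880 := by omega
  rw [this] at h2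
  omega

end Data

namespace Classes

variable (C : Classes G) (D : Data G)

include C D in
theorem six_conj (hG : Nat.card G = 10200960) {g : G} (hg : orderOf g = 6) :
    IsConj (C.toReps.z * C.toReps.t) g := by
  obtain ⟨r, hr, hc⟩ := C.complete g
  have ho := conj_orderOf hc
  rw [hg] at ho
  simp only [Reps.base, List.cons_append, List.nil_append, List.mem_cons, List.not_mem_nil, or_false] at hr
  have hy := C.rep_orders D hG
  rcases hr with rfl | rfl | rfl | rfl | rfl | rfl | rfl | rfl | rfl | rfl | rfl | rfl | rfl | rfl | rfl | rfl | rfl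
  all_goals try simp only [orderOf_one, orderOf_inv, C.ht, C.hx, C.hu, C.hw, C.hv, C.hz, C.hf, C.toReps.ord_ut,
    C.toReps.ord_u't, C.toReps.ord_xz, C.toReps.ord_xz'] at ho
  all_goals first
    | omega
    | exact hc

include C D in
/-- The centralizer of a commuting pair of orders two and three. -/
theorem cent_six (hG : Nat.card G = 10200960) {t z : G} (ht : orderOf t = 2) (hz : orderOf z = 3)
    (hc : Commute z t) :
    Subgroup.centralizer ({z * t} : Set G) =
        Subgroup.centralizer ({z} : Set G) ⊓ Subgroup.centralizer ({t} : Set G) ∧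
      Nat.card (Subgroup.centralizer ({z} : Set G) ⊓ Subgroup.centralizer ({t} : Set G) : Subgroup G) = 12 := by
  have ho : orderOf (z * t) = 6 := by
    rw [hc.orderOf_mul_eq_mul_orderOf_of_coprime (by rw [hz, ht]; norm_num), hz, ht]
  have heq : Subgroup.centralizer ({z * t} : Set G) =
      Subgroup.centralizer ({z} : Set G) ⊓ Subgroup.centralizer ({t} : Set G) := by
    have h2 : t ^ 2 = 1 := by rw [← ht]; exact pow_orderOf_eq_one t
    have h3 : z ^ 3 = 1 := by rw [← hz]; exact pow_orderOf_eq_one z
    ext x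
    simp only [Subgroup.mem_inf, Subgroup.mem_centralizer_singleton_iff]
    refine ⟨fun h => ⟨?_, ?_⟩, fun h => (Commute.mul_right h.1 h.2).eq⟩
    · rw [show z = (z * t) ^ 4 by rw [hc.mul_pow, show (4 : ℕ) = 3 + 1 from rfl, pow_succ, h3, one_mul,
        show 3 + 1 = 2 * 2 from rfl, pow_mul, h2, one_pow, mul_one]]
      exact (Commute.pow_right (show Commute x (z * t) from h) 4).eq
    · rw [show t = (z * t) ^ 3 by rw [hc.mul_pow, h3, pow_succ, h2, one_mul, one_mul]]
      exact (Commute.pow_right (show Commute x (z * t) from h) 3).eq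
  refine ⟨heq, ?_⟩
  rw [← heq]
  exact (cn_eq_of_isConj (C.six_conj D hG ho)).symm.trans C.cn_zt

include C D in
/-- An involution has commuting elements of orders seven and three. -/
theorem exists_partners (hG : Nat.card G = 10200960) {t : G} (ht : orderOf t = 2) :
    ∃ u z : G, orderOf u = 7 ∧ orderOf z = 3 ∧ Commute u t ∧ Commute z t := by
  obtain ⟨g, hg⟩ := isConj_iff.1 (D.toFrame.inv_conj hG C.ht ht)
  refine ⟨MulAut.conj g C.u, MulAut.conj g C.z, ?_, ?_, ?_, ?_⟩
  · rw [MulEquiv.orderOf_eq, C.hu]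
  · rw [MulEquiv.orderOf_eq, C.hz]
  · have h := C.ut.map (MulAut.conj g).toMonoidHom
    simp only [MulEquiv.coe_toMonoidHom, MulAut.conj_apply] at h ⊢
    rwa [hg] at h
  · have h := C.zt.map (MulAut.conj g).toMonoidHom
    simp only [MulEquiv.coe_toMonoidHom, MulAut.conj_apply] at h ⊢
    rwa [hg] at h

end Classes

end Cfsg.Agent.Invol.M23Ord
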