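import Mathlib
import Cfsg.Agent.Lib.Invol.Order10200960.CentElements
import Cfsg.Agent.Lib.Block.SmallOrd.Middle

/-!
Simple groups of order 10200960: the centralizer of an involution has just one normal subgroup of order sixteen,
elementary and self-centralizing, and no other normal subgroup strictly above the involution.
-/

set_option autoImplicit false
set_option linter.style.haveILetI false
set_option linter.unusedSectionVars false

namespace Cfsg.Agent.Invol.M23Ord

open scoped ComplexConjugate
open Cfsg Cfsg.Agent.Block Cfsg.Agent.Char Cfsg.Agent.Invol.M12Ord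
open Cfsg.Agent.Invol.M22Ord (conjSet mem_conjSet card_conjSet)

universe u

variable {G : Type u} [Group G] [Finite G]

theorem dvd_card_conj {M H : Subgroup G} (hH : H ≤ Subgroup.normalizer (M : Set G)) {a h : G} (ha : a ∈ M)
    (hh : h ∈ H) : h * a * h⁻¹ ∈ M :=
  (Subgroup.mem_normalizer_iff.1 (hH hh) a).1 ha

variable [IsSimpleGroup G]
variable [Fact (Nat.Prime 5)] [Fact (Nat.Prime 7)] [Fact (Nat.Prime 11)] [Fact (Nat.Prime 23)]

namespace Classes

variable (C : Classes G) (D : Data G)

include C D in
/-- No normal subgroup of order 128 in the centralizer of an involution. -/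
theorem no_128 (hG : Nat.card G = 10200960) {t : G} (ht : orderOf t = 2) {M : Subgroup G}
    (hM : M ≤ Subgroup.centralizer ({t} : Set G))
    (hn : Subgroup.centralizer ({t} : Set G) ≤ Subgroup.normalizer (M : Set G)) : Nat.card M ≠ 128 := by
  classical
  haveI : Fact (Nat.Prime 2) := ⟨Nat.prime_two⟩
  haveI : Fact (Nat.Prime 3) := ⟨by norm_num⟩
  intro hc
  obtain ⟨u, z, -, hz, -, hzt⟩ := C.exists_partners D hG ht
  obtain ⟨-, h12⟩ := C.cent_six D hG ht hz hzt
  have hzH : z ∈ Subgroup.centralizer ({t} : Set G) := Subgroup.mem_centralizer_singleton_iff.2 hzt.eq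
  have hmod := fixed_mod_sub (p := 3) (by rw [← hz]; exact pow_orderOf_eq_one z) (hn hzH)
  rw [hc] at hmod
  set A : Subgroup G := M ⊓ Subgroup.centralizer ({z} : Set G) with hA
  set B : Subgroup G := Subgroup.centralizer ({z} : Set G) ⊓ Subgroup.centralizer ({t} : Set G) with hB
  obtain ⟨S⟩ : Nonempty (Sylow 2 B) := inferInstance
  have hS : Nat.card (S : Subgroup B) = 4 := by
    rw [S.card_eq_multiplicity, h12, show (12 : ℕ) = 2 ^ 2 * 3 by norm_num,
      Nat.factorization_mul (by norm_num) (by norm_num), Finsupp.add_apply, Nat.prime_two.factorization_pow,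
      Finsupp.single_eq_same, Nat.factorization_eq_zero_of_not_dvd (by norm_num : ¬ 2 ∣ 3)]
    norm_num
  haveI : (M.subgroupOf (Subgroup.centralizer ({t} : Set G))).Normal := (Subgroup.normal_subgroupOf_iff_le_normalizer hM).2 hn
  have hidx : (M.subgroupOf (Subgroup.centralizer ({t} : Set G))).index = 21 := by
    have h := Subgroup.card_mul_index (M.subgroupOf (Subgroup.centralizer ({t} : Set G)))
    rw [Nat.card_congr (Subgroup.subgroupOfEquivOfLe hM).toEquiv, hc,
      show Nat.card (Subgroup.centralizer ({t} : Set G)) = 2688 from D.toFrame.inv_cn hG ht] at h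
    omega
  have hle : (S : Subgroup B).map B.subtype ≤ A := by
    rintro _ ⟨a, ha, rfl⟩
    refine Subgroup.mem_inf.2 ⟨?_, a.2.1⟩
    have h4 : (a : G) ^ 4 = 1 := congrArg Subtype.val (congrArg Subtype.val
      (show (⟨a, ha⟩ : (S : Subgroup B)) ^ 4 = 1 by rw [← hS]; exact pow_card_eq_one'))
    have h21 := Subgroup.pow_index_mem (M.subgroupOf (Subgroup.centralizer ({t} : Set G)))
      (⟨(a : G), a.2.2⟩ : Subgroup.centralizer ({t} : Set G))
    rw [hidx, Subgroup.mem_subgroupOf] at h21
    show (a : G) ∈ M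
    have h' : (a : G) ^ 21 ∈ M := h21
    rwa [show (21 : ℕ) = 4 * 5 + 1 from rfl, pow_succ, pow_mul, h4, one_pow, one_mul] at h'
  have h4A := Subgroup.card_dvd_of_le hle
  rw [← Nat.card_congr ((S : Subgroup B).equivMapOfInjective _ B.subtype_injective).toEquiv, hS] at h4A
  have hAB : A ≤ B := fun a ha => ⟨ha.2, hM ha.1⟩
  have hd1 := Subgroup.card_dvd_of_le hAB
  rw [h12] at hd1
  have hd2 : Nat.card A ∣ 128 := hc ▸ Subgroup.card_dvd_of_le (inf_le_left : A ≤ M)
  have hA4 : Nat.card A = 4 := Nat.dvd_antisymm ((Nat.dvd_gcd hd1 hd2).trans (by norm_num)) h4A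
  rw [hA4] at hmod
  norm_num at hmod

include C D in
/-- A normal subgroup above the involution has order sixteen or is everything. -/
theorem normal_cases (hG : Nat.card G = 10200960) {t : G} (ht : orderOf t = 2) {M : Subgroup G}
    (hM : M ≤ Subgroup.centralizer ({t} : Set G))
    (hn : Subgroup.centralizer ({t} : Set G) ≤ Subgroup.normalizer (M : Set G)) (htM : t ∈ M)
    (hne : ∃ y ∈ M, y ≠ 1 ∧ y ≠ t) : Nat.card M = 16 ∨ M = Subgroup.centralizer ({t} : Set G) := by
  classical
  haveI : Fact (Nat.Prime 2) := ⟨Nat.prime_two⟩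
  obtain ⟨u, z, hu, -, hut, -⟩ := C.exists_partners D hG ht
  set H := Subgroup.centralizer ({t} : Set G) with hH
  have hHc : Nat.card H = 2688 := D.toFrame.inv_cn hG ht
  have hdvd : Nat.card M ∣ 2688 := hHc ▸ Subgroup.card_dvd_of_le hM
  have huH : u ∈ H := Subgroup.mem_centralizer_singleton_iff.2 hut.eq
  by_cases h7 : 7 ∣ Nat.card M
  · refine Or.inr ?_
    obtain ⟨a, ha⟩ := exists_prime_orderOf_dvd_card' (G := M) 7 h7
    rw [← Subgroup.orderOf_coe] at ha
    obtain ⟨u', hu'M, hu'⟩ : ∃ u' ∈ M, orderOf u' = 7 := ⟨a, a.2, ha⟩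
    have hc' : Commute u' t := Subgroup.mem_centralizer_singleton_iff.1 (hM hu'M)
    obtain ⟨hcen, ho14⟩ := D.cen_seven hG hu' ht hc'
    -- the index divides three
    haveI : (M.subgroupOf H).Normal := (Subgroup.normal_subgroupOf_iff_le_normalizer hM).2 hn
    set P := Subgroup.zpowers (⟨u', hM hu'M⟩ : H) with hPdef
    have hPc : Nat.card P = 7 := by rw [hPdef, Nat.card_zpowers, ← Subgroup.orderOf_coe]; exact hu'
    let P' : Sylow 7 H := Sylow.ofCard P (by
      rw [hPc, hHc, show (2688 : ℕ) = 7 ^ 1 * 384 by norm_num, Nat.factorization_mul (by norm_num) (by norm_num),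
        Finsupp.add_apply, (show Nat.Prime 7 by norm_num).factorization_pow, Finsupp.single_eq_same,
        Nat.factorization_eq_zero_of_not_dvd (by norm_num : ¬ 7 ∣ 384)]
      norm_num)
    have htop := Sylow.normalizer_sup_eq_top' (N := M.subgroupOf H) P'
      (Subgroup.zpowers_le.2 (Subgroup.mem_subgroupOf.2 hu'M))
    set NP := Subgroup.normalizer ((P' : Subgroup H) : Set H) with hNP
    have hidx : (M.subgroupOf H).index = (M.subgroupOf H).relIndex NP := by
      rw [← Subgroup.relIndex_top_right, ← htop, Subgroup.relIndex_sup_right]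
      rfl
    have hN42 : Nat.card NP ∣ 42 := by
      rw [← D.card_normalizer_seven hG hu', Nat.card_congr (NP.equivMapOfInjective _ H.subtype_injective).toEquiv]
      refine Subgroup.card_dvd_of_le ?_
      rintro _ ⟨a, ha, rfl⟩
      have hP' : ((P' : Subgroup H)).map H.subtype = Subgroup.zpowers u' := by
        show P.map H.subtype = _
        rw [hPdef, MonoidHom.map_zpowers]
        rfl
      rw [← hP']
      exact Subgroup.le_normalizer_map H.subtype ⟨a, ha, rfl⟩
    have hin : Subgroup.zpowers (u' * t) ≤ M ⊓ NP.map H.subtype := by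
      refine Subgroup.zpowers_le.2 ⟨mul_mem hu'M htM, ⟨⟨u' * t, mul_mem (hM hu'M) (hM htM)⟩, ?_, rfl⟩⟩
      refine Subgroup.centralizer_le_normalizer _ (Subgroup.mem_centralizer_iff.2 fun x hx => ?_)
      obtain ⟨i, rfl⟩ := Subgroup.mem_zpowers_iff.1 hx
      refine Commute.zpow_left ?_ i
      exact Subtype.ext ((Commute.refl u').mul_right hc').eq
    have h14 : 14 ∣ Nat.card ((M.subgroupOf H) ⊓ NP : Subgroup H) := by
      rw [← ho14, ← Nat.card_zpowers, Nat.card_congr
        (((M.subgroupOf H) ⊓ NP).equivMapOfInjective _ H.subtype_injective).toEquiv]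
      refine Subgroup.card_dvd_of_le (hin.trans (le_of_eq ?_))
      rw [Subgroup.map_inf _ _ _ H.subtype_injective, Subgroup.subgroupOf_map_subtype, inf_of_le_left hM]
    have h3 : (M.subgroupOf H).index ∣ 3 := by
      obtain ⟨k, hk⟩ := h14
      obtain ⟨j, hj⟩ := hN42
      have h := Subgroup.card_mul_index ((M.subgroupOf H).subgroupOf NP)
      rw [← Subgroup.relIndex, ← hidx, ← Subgroup.inf_subgroupOf_right,
        Nat.card_congr (Subgroup.subgroupOfEquivOfLe inf_le_right).toEquiv, hk] at h
      have : 14 * ((M.subgroupOf H).index * (k * j)) = 14 * 3 := by rw [← h] at hj; linarith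
      exact ⟨k * j, (Nat.eq_of_mul_eq_mul_left (by norm_num : 0 < 14) this).symm⟩
    have hmul := Subgroup.card_mul_index (M.subgroupOf H)
    rw [Nat.card_congr (Subgroup.subgroupOfEquivOfLe hM).toEquiv, hHc] at hmul
    rcases (Nat.dvd_prime (by norm_num)).1 h3 with h1 | h1 <;> rw [h1] at hmul
    · exact Subgroup.eq_of_le_of_card_ge hM (by omega)
    exfalso
    -- the two-part of a subgroup of order 896 would be normal
    haveI := Fintype.ofFinite G
    have hMc : Nat.card M = 896 := by omega
    set U := Finset.univ.filter fun g => g ∈ M ∧ 7 ∣ orderOf g with hU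
    have hset : ∀ a : G, orderOf a = 7 ∨ orderOf a = 14 → a ∈ M → (∃ k, a ^ k = u' ∨ a ^ k = u'⁻¹) →
        conjSet H a ⊆ U ∧ (conjSet H a).card = 192 := by
      intro a ha haM hpow
      refine ⟨fun b hb => ?_, ?_⟩
      · obtain ⟨h, hh, rfl⟩ := mem_conjSet.1 hb
        simp only [hU, Finset.mem_filter, Finset.mem_univ, true_and]
        refine ⟨dvd_card_conj hn haM hh, ?_⟩
        rw [← MulAut.conj_apply, MulEquiv.orderOf_eq]
        rcases ha with e | e <;> rw [e] <;> norm_num
      · have hcle : Subgroup.centralizer ({a} : Set G) ≤ Subgroup.centralizer ({u'} : Set G) := fun y hy => by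
          obtain ⟨k, hk | hk⟩ := hpow
          · rw [Subgroup.mem_centralizer_singleton_iff] at hy ⊢
            rw [← hk]
            exact (Commute.pow_right hy k).eq
          · rw [Subgroup.mem_centralizer_singleton_iff] at hy ⊢
            rw [← inv_inv u', ← hk]
            exact (Commute.pow_right hy k).inv_right.eq
        have hcH : H ⊓ Subgroup.centralizer ({a} : Set G) = Subgroup.centralizer ({a} : Set G) :=
          inf_eq_right.2 fun y hy => Subgroup.mem_centralizer_singleton_iff.2
            (D.cen_seven_le hG hu' ht hc' (Subgroup.mem_centralizer_singleton_iff.1 (hcle hy))).eq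
        have h := card_conjSet H a
        have hca : Nat.card (Subgroup.centralizer ({a} : Set G)) = 14 := by
          rcases ha with e | e
          · exact D.cn_seven hG e
          · refine Nat.dvd_antisymm ?_ (e ▸ orderOf_dvd_cn rfl)
            rw [← D.cn_seven hG hu']
            exact Subgroup.card_dvd_of_le hcle
        rw [hHc, hcH, hca] at h
        omega
    have huu := D.S.not_real (by norm_num) (by norm_num) hu'
    have h7' : u' ^ 7 = 1 := by rw [← hu']; exact pow_orderOf_eq_one u'
    have hp8 : (u' * t) ^ 8 = u' ∧ (u'⁻¹ * t) ^ 8 = u'⁻¹ := by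
      have ht8 : t ^ 8 = 1 := by rw [show 8 = 2 * 4 from rfl, pow_mul, ← ht, pow_orderOf_eq_one, one_pow]
      constructor
      · rw [hc'.mul_pow, ht8, mul_one, pow_succ, h7', one_mul]
      · rw [hc'.inv_left.mul_pow, ht8, mul_one, inv_pow, pow_succ, h7', one_mul]
    have ho14' : orderOf (u'⁻¹ * t) = 14 := by
      rw [hc'.inv_left.orderOf_mul_eq_mul_orderOf_of_coprime (by rw [orderOf_inv, hu', ht]; norm_num), orderOf_inv,
        hu', ht]
    have s1 := hset u' (Or.inl hu') hu'M ⟨1, Or.inl (pow_one _)⟩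
    have s2 := hset u'⁻¹ (Or.inl (by rw [orderOf_inv, hu'])) (inv_mem hu'M) ⟨1, Or.inr (pow_one _)⟩
    have s3 := hset (u' * t) (Or.inr ho14) (mul_mem hu'M htM) ⟨8, Or.inl hp8.1⟩
    have s4 := hset (u'⁻¹ * t) (Or.inr ho14') (mul_mem (inv_mem hu'M) htM) ⟨8, Or.inr hp8.2⟩
    have hdis : ∀ a b : G, ¬ IsConj a b → Disjoint (conjSet H a) (conjSet H b) := fun a b hab => by
      rw [Finset.disjoint_left]
      intro y hy hy'
      obtain ⟨g, -, rfl⟩ := mem_conjSet.1 hy
      obtain ⟨k, -, hk⟩ := mem_conjSet.1 hy'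
      exact hab ((isConj_iff.2 ⟨g, rfl⟩ : IsConj a (g * a * g⁻¹)).trans
        (isConj_iff.2 ⟨k, hk⟩ : IsConj b (g * a * g⁻¹)).symm)
    have hn34 : ¬ IsConj (u' * t) (u'⁻¹ * t) := fun h => huu (by
      have := conj_pow_of h 8
      rwa [hp8.1, hp8.2] at this)
    have hU768 : 768 ≤ U.card := by
      refine le_trans ?_ (Finset.card_le_card (Finset.union_subset (Finset.union_subset s1.1 s2.1)
        (Finset.union_subset s3.1 s4.1)))
      rw [Finset.card_union_of_disjoint, Finset.card_union_of_disjoint (hdis _ _ huu),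
        Finset.card_union_of_disjoint (hdis _ _ hn34), s1.2, s2.2, s3.2, s4.2]
      simp only [Finset.disjoint_union_left, Finset.disjoint_union_right]
      refine ⟨⟨?_, ?_⟩, ?_, ?_⟩
      all_goals exact hdis _ _ (nconj_of_order (by
        simp only [orderOf_inv, hu', ho14, ho14']
        norm_num))
    obtain ⟨S⟩ : Nonempty (Sylow 2 M) := inferInstance
    have hS : Nat.card (S : Subgroup M) = 128 := by
      rw [S.card_eq_multiplicity, hMc, show (896 : ℕ) = 2 ^ 7 * 7 by norm_num,
        Nat.factorization_mul (by norm_num) (by norm_num), Finsupp.add_apply, Nat.prime_two.factorization_pow,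
        Finsupp.single_eq_same, Nat.factorization_eq_zero_of_not_dvd (by norm_num : ¬ 2 ∣ 7)]
      norm_num
    set S' := (S : Subgroup M).map M.subtype with hS'
    have hS'c : Nat.card S' = 128 := by
      rw [hS', ← Nat.card_congr ((S : Subgroup M).equivMapOfInjective _ M.subtype_injective).toEquiv, hS]
    have hS'M : S' ≤ M := Subgroup.map_subtype_le _
    set V := Finset.univ.filter fun g => g ∈ M ∧ ¬ 7 ∣ orderOf g with hV
    have hUV : U.card + V.card = 896 := by
      rw [← hMc, Nat.card_eq_fintype_card, Fintype.card_subtype, hU, hV,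
        ← Finset.filter_filter, ← Finset.filter_filter, Finset.card_filter_add_card_filter_not]
    have hVeq : Finset.univ.filter (fun g => g ∈ S') = V := by
      refine Finset.eq_of_subset_of_card_le (fun g hg => ?_) ?_
      · simp only [hV, Finset.mem_filter, Finset.mem_univ, true_and] at hg ⊢
        refine ⟨hS'M hg, fun h => ?_⟩
        have := h.trans (hS'c ▸ Subgroup.orderOf_dvd_natCard _ hg)
        norm_num at this
      · rw [show (Finset.univ.filter fun g => g ∈ S').card = 128 by
          rw [← hS'c, Nat.card_eq_fintype_card, Fintype.card_subtype]]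
        omega
    refine C.no_128 D hG ht (hS'M.trans hM) (fun h hh => ?_) hS'c
    refine M22Ord.mem_normalizer_of_inv fun y hy => ?_
    have hy' : y ∈ V := hVeq ▸ Finset.mem_filter.2 ⟨Finset.mem_univ _, hy⟩
    have : h * y * h⁻¹ ∈ V := by
      simp only [hV, Finset.mem_filter, Finset.mem_univ, true_and] at hy' ⊢
      refine ⟨dvd_card_conj hn hy'.1 hh, ?_⟩
      rw [← MulAut.conj_apply, MulEquiv.orderOf_eq]
      exact hy'.2
    rw [← hVeq] at this
    exact (Finset.mem_filter.1 this).2
  · refine Or.inl ?_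
    have h384 : Nat.card M ∣ 384 := by
      refine Nat.Coprime.dvd_of_dvd_mul_left (((Nat.Prime.coprime_iff_not_dvd (by norm_num)).2 h7).symm) ?_
      simpa using hdvd
    have hmod := fixed_mod_sub (p := 7) (by rw [← hu]; exact pow_orderOf_eq_one u) (hn huH)
    set A : Subgroup G := M ⊓ Subgroup.centralizer ({u} : Set G) with hA
    have hA2 : Nat.card A = 2 := by
      have h1 := Subgroup.card_dvd_of_le (inf_le_right : A ≤ Subgroup.centralizer ({u} : Set G))
      rw [show Nat.card (Subgroup.centralizer ({u} : Set G)) = 14 from D.cn_seven hG hu] at h1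
      have h2 := Subgroup.card_dvd_of_le (inf_le_left : A ≤ M)
      have h3 : 2 ∣ Nat.card A := ht ▸ Subgroup.orderOf_dvd_natCard _
        (show t ∈ A from ⟨htM, Subgroup.mem_centralizer_singleton_iff.2 hut.symm.eq⟩)
      refine Nat.dvd_antisymm ?_ h3
      exact Nat.Coprime.dvd_of_dvd_mul_left (Nat.Coprime.coprime_dvd_left h2
        ((Nat.Prime.coprime_iff_not_dvd (by norm_num : Nat.Prime 7)).2 h7).symm) (show Nat.card A ∣ 7 * 2 from h1)
    rw [hA2] at hmod
    obtain ⟨y, hy, hy1, hyt⟩ := hne
    have h3 : 2 < Nat.card M := by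
      by_contra h
      have hle : Subgroup.zpowers t ≤ M := Subgroup.zpowers_le.2 htM
      have heq := Subgroup.eq_of_le_of_card_ge hle (by rw [Nat.card_zpowers, ht]; omega)
      rw [← heq] at hy
      obtain ⟨i, hi⟩ := mem_powers_iff_mem_zpowers.2 hy
      change t ^ i = y at hi
      rcases Nat.even_or_odd i with ⟨j, rfl⟩ | ⟨j, rfl⟩
      · exact hy1 (by rw [← hi, ← two_mul, pow_mul, ← ht, pow_orderOf_eq_one, one_pow])
      · exact hyt (by rw [← hi, pow_succ, pow_mul, ← ht, pow_orderOf_eq_one, one_pow, one_mul])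
    have hm : Nat.card M ∈ Nat.divisors 384 := Nat.mem_divisors.2 ⟨h384, by norm_num⟩
    rw [show Nat.divisors 384 = {1, 2, 3, 4, 6, 8, 12, 16, 24, 32, 48, 64, 96, 128, 192, 384} by decide +kernel] at hm
    simp only [Finset.mem_insert, Finset.mem_singleton] at hm
    have h128 := C.no_128 D hG ht hM hn
    omega

end Classes

end Cfsg.Agent.Invol.M23Ord
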