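import Mathlib
import Cfsg.Agent.Lib.Invol.Order10200960.CentTwo

/-!
Simple groups of order 10200960: the elementary subgroup of order sixteen in the centralizer of an involution.
-/

set_option autoImplicit false
set_option linter.style.haveILetI false
set_option linter.unusedSectionVars false

namespace Cfsg.Agent.Invol.M23Ord

open scoped ComplexConjugate
open Cfsg Cfsg.Agent.Block Cfsg.Agent.Char Cfsg.Agent.Invol.M12Ord

universe u

variable {G : Type u} [Group G] [Finite G]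

/-- The normal subgroup of order sixteen of the centralizer of `t`. -/
structure Sixteen (t : G) where
  E : Subgroup G
  ht : orderOf t = 2
  card : Nat.card E = 16
  t_mem : t ∈ E
  le : E ≤ Subgroup.centralizer ({t} : Set G)
  norm : Subgroup.centralizer ({t} : Set G) ≤ Subgroup.normalizer (E : Set G)
  sq : ∀ y ∈ E, y * y = 1
  cen : Subgroup.centralizer (E : Set G) = E
  cases : ∀ M : Subgroup G, E ≤ M → M ≤ Subgroup.centralizer ({t} : Set G) →
    Subgroup.centralizer ({t} : Set G) ≤ Subgroup.normalizer (M : Set G) →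
    M = E ∨ M = Subgroup.centralizer ({t} : Set G)
  unique : ∀ M : Subgroup G, M ≤ Subgroup.centralizer ({t} : Set G) →
    Subgroup.centralizer ({t} : Set G) ≤ Subgroup.normalizer (M : Set G) → Nat.card M = 16 → M = E
  split : ∀ u : G, orderOf u = 7 → Commute u t → ∀ y ∈ E, y ≠ 1 → y ≠ t →
    ∀ w ∈ E, w ≠ 1 → w ≠ t → ∃ i : ℕ, w = u ^ i * y * (u ^ i)⁻¹ ∨ w = u ^ i * y * (u ^ i)⁻¹ * t

variable [IsSimpleGroup G]
variable [Fact (Nat.Prime 5)] [Fact (Nat.Prime 7)] [Fact (Nat.Prime 11)] [Fact (Nat.Prime 23)]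

namespace Data

variable (D : Data G)

include D in
/-- An element of order seven moves every element of a two-subgroup outside `{1, t}`, and not to its translate. -/
theorem seven_split (hG : Nat.card G = 10200960) {t u : G} (ht : orderOf t = 2) (hu : orderOf u = 7)
    (hut : Commute u t) {E : Subgroup G} (hc : Nat.card E = 16) (htE : t ∈ E)
    (hle : E ≤ Subgroup.centralizer ({t} : Set G)) (hn : u ∈ Subgroup.normalizer (E : Set G))
    {y : G} (hy : y ∈ E) (hy1 : y ≠ 1) (hyt : y ≠ t) :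
    (∀ i : Fin 7, ∀ j : Fin 7, ∀ a : Fin 2, ∀ b : Fin 2,
      u ^ (i : ℕ) * y * (u ^ (i : ℕ))⁻¹ * t ^ (a : ℕ) = u ^ (j : ℕ) * y * (u ^ (j : ℕ))⁻¹ * t ^ (b : ℕ) →
        i = j ∧ a = b) ∧
    ∀ w ∈ E, w ≠ 1 → w ≠ t → ∃ i : ℕ, w = u ^ i * y * (u ^ i)⁻¹ ∨ w = u ^ i * y * (u ^ i)⁻¹ * t := by
  classical
  have hnf : ¬ Commute y u := fun h => by
    obtain ⟨heq, ho⟩ := D.cen_seven hG hu ht hut
    have h16 : y ^ 16 = 1 := by
      have := orderOf_dvd_iff_pow_eq_one.1 (hc ▸ Subgroup.orderOf_dvd_natCard _ hy)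
      exact this
    have h14 : y ^ 14 = 1 := by
      have hd : orderOf y ∣ 14 := by
        have := orderOf_dvd_cn h.eq
        rwa [D.cn_seven hG hu] at this
      exact orderOf_dvd_iff_pow_eq_one.1 hd
    have h2 : y ^ 2 = 1 := by
      rw [show 16 = 14 + 2 from rfl, pow_add, h14, one_mul] at h16
      exact h16
    rcases D.inv_unique hG hu ht hut h h2 with h' | h'
    · exact hy1 h'
    · exact hyt h'
  have hu7 : u ^ 7 = 1 := by rw [← hu]; exact pow_orderOf_eq_one u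
  have hfix : ∀ k : ℕ, Commute y (u ^ k) → 7 ∣ k := fun k hk => by
    by_contra h7
    obtain ⟨m, hm⟩ := exists_pow_eq_self_of_coprime (x := u) (n := k)
      (by rw [hu]; exact ((Nat.Prime.coprime_iff_not_dvd (by norm_num)).2 h7).symm)
    exact hnf (hm ▸ hk.pow_right m)
  have ht2 : t * t = 1 := by rw [← pow_two, ← ht]; exact pow_orderOf_eq_one t
  have hshift : ∀ k : ℕ, ∀ a : G, (a = 1 ∨ a = t) → u ^ k * y * (u ^ k)⁻¹ = y * a → 7 ∣ k ∧ a = 1 := by
    intro k a ha h
    rcases ha with rfl | ha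
    · rw [mul_one, mul_inv_eq_iff_eq_mul] at h
      exact ⟨hfix k h.symm, rfl⟩
    exfalso
    rw [ha] at h
    have h2 : u ^ (2 * k) * y * (u ^ (2 * k))⁻¹ = y := by
      have ec : Commute (u ^ k) t := hut.pow_left k
      calc u ^ (2 * k) * y * (u ^ (2 * k))⁻¹ = u ^ k * (u ^ k * y * (u ^ k)⁻¹) * (u ^ k)⁻¹ := by
            rw [two_mul, pow_add]; group
        _ = (u ^ k * y * (u ^ k)⁻¹) * (u ^ k * t * (u ^ k)⁻¹) := by rw [h]; group; rw [← h]; group
        _ = y * t * t := by rw [h, ec.eq, mul_inv_cancel_right]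
        _ = y := by rw [mul_assoc, ht2, mul_one]
    rw [mul_inv_eq_iff_eq_mul] at h2
    obtain ⟨m, rfl⟩ : 7 ∣ k := ((show Nat.Prime 7 by norm_num).dvd_mul.1 (hfix _ h2.symm)).resolve_left (by norm_num)
    rw [pow_mul, hu7, one_pow, one_mul, inv_one, mul_one] at h
    exact ne_one_of_orderOf ht (by norm_num) (mul_eq_left.1 h.symm)
  have hinj : ∀ i : Fin 7, ∀ j : Fin 7, ∀ a : Fin 2, ∀ b : Fin 2,
      u ^ (i : ℕ) * y * (u ^ (i : ℕ))⁻¹ * t ^ (a : ℕ) = u ^ (j : ℕ) * y * (u ^ (j : ℕ))⁻¹ * t ^ (b : ℕ) →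
        i = j ∧ a = b := by
    intro i j a b h
    -- move to the exponent `j + 7 - i`
    have hk : u ^ ((i : ℕ) + (7 - (j : ℕ))) = (u ^ (j : ℕ))⁻¹ * u ^ (i : ℕ) := by
      rw [eq_inv_mul_iff_mul_eq, ← pow_add, show (j : ℕ) + ((i : ℕ) + (7 - (j : ℕ))) = 7 + i by omega, pow_add, hu7,
        one_mul]
    have hti : ∀ n : ℕ, Commute (u ^ (j : ℕ))⁻¹ (t ^ n) := fun n => ((hut.pow_left _).inv_left).pow_right n
    have h' : u ^ ((i : ℕ) + (7 - (j : ℕ))) * y * (u ^ ((i : ℕ) + (7 - (j : ℕ))))⁻¹ =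
        y * (t ^ (b : ℕ) * (t ^ (a : ℕ))⁻¹) := by
      rw [hk]
      calc (u ^ (j : ℕ))⁻¹ * u ^ (i : ℕ) * y * ((u ^ (j : ℕ))⁻¹ * u ^ (i : ℕ))⁻¹
          = (u ^ (j : ℕ))⁻¹ * (u ^ (i : ℕ) * y * (u ^ (i : ℕ))⁻¹ * t ^ (a : ℕ)) * ((t ^ (a : ℕ))⁻¹ * u ^ (j : ℕ)) := by
            group
        _ = y * ((u ^ (j : ℕ))⁻¹ * (t ^ (b : ℕ) * (t ^ (a : ℕ))⁻¹) * u ^ (j : ℕ)) := by rw [h]; group
        _ = y * (t ^ (b : ℕ) * (t ^ (a : ℕ))⁻¹) := by
            rw [((hti b).mul_right (hti a).inv_right).eq, inv_mul_cancel_right]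
    have hab : t ^ (b : ℕ) * (t ^ (a : ℕ))⁻¹ = 1 ∨ t ^ (b : ℕ) * (t ^ (a : ℕ))⁻¹ = t := by
      have hti' : t⁻¹ = t := inv_eq_of_mul_eq_one_left ht2
      fin_cases a <;> fin_cases b <;> simp [hti', ht2]
    obtain ⟨h7, h1⟩ := hshift _ _ hab h'
    refine ⟨Fin.ext ?_, ?_⟩
    · have := i.2; have := j.2; omega
    · have hne := ne_one_of_orderOf ht (by norm_num)
      have hne' : t⁻¹ ≠ 1 := fun e => hne (inv_eq_one.1 e)
      fin_cases a <;> fin_cases b <;> simp_all
  refine ⟨hinj, fun w hw hw1 hwt => ?_⟩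
  haveI := Fintype.ofFinite G
  let Φ : Fin 7 × Fin 2 → G := fun p => u ^ (p.1 : ℕ) * y * (u ^ (p.1 : ℕ))⁻¹ * t ^ (p.2 : ℕ)
  have hΦ : Function.Injective Φ := fun p q h => by
    obtain ⟨h1, h2⟩ := hinj _ _ _ _ h
    exact Prod.ext h1 h2
  have hset : Finset.univ.image Φ = (Finset.univ.filter fun g => g ∈ E) \ {1, t} := by
    refine Finset.eq_of_subset_of_card_le (fun g hg => ?_) ?_
    · obtain ⟨⟨i, a⟩, -, rfl⟩ := Finset.mem_image.1 hg
      have hmem : Φ (i, a) ∈ E :=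
        mul_mem ((Subgroup.mem_normalizer_iff.1 (pow_mem hn (i : ℕ)) y).1 hy) (pow_mem htE (a : ℕ))
      have hne : u ^ (i : ℕ) * y * (u ^ (i : ℕ))⁻¹ ≠ 1 ∧ u ^ (i : ℕ) * y * (u ^ (i : ℕ))⁻¹ ≠ t := by
        refine ⟨fun e => hy1 (conj_eq_one_iff.1 e), fun e => hyt ?_⟩
        rw [mul_inv_eq_iff_eq_mul, ← (hut.pow_left (i : ℕ)).eq] at e
        exact mul_left_cancel e
      simp only [Finset.mem_sdiff, Finset.mem_filter, Finset.mem_univ, true_and, Finset.mem_insert,
        Finset.mem_singleton, not_or]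
      refine ⟨hmem, ?_⟩
      fin_cases a
      · simpa [Φ] using hne
      · refine ⟨fun e => hne.2 ?_, fun e => hne.1 ?_⟩
        · simp only [Φ, pow_one] at e
          exact (eq_inv_of_mul_eq_one_left e).trans (inv_eq_of_mul_eq_one_left ht2)
        · simp only [Φ, pow_one] at e
          exact mul_eq_right.1 e
    · have h1t : (1 : G) ≠ t := (ne_one_of_orderOf ht (by norm_num)).symm
      rw [Finset.card_image_of_injective _ hΦ, Finset.card_sdiff_of_subset (by
        intro g hg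
        simp only [Finset.mem_insert, Finset.mem_singleton] at hg
        rcases hg with rfl | rfl <;> simp [htE, one_mem]), Finset.card_pair h1t, ← Fintype.card_subtype,
        ← Nat.card_eq_fintype_card, hc]
      simp
  have hwm : w ∈ Finset.univ.image Φ := by
    rw [hset]
    simp [hw, hw1, hwt]
  obtain ⟨⟨i, a⟩, -, rfl⟩ := Finset.mem_image.1 hwm
  refine ⟨i, ?_⟩
  fin_cases a
  · left; simp [Φ]
  · right; simp [Φ]

end Data

namespace Classes

variable (C : Classes G) (D : Data G)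

include C D in
theorem exists_sixteen (hG : Nat.card G = 10200960) {t : G} (ht : orderOf t = 2) : Nonempty (Sixteen t) := by
  classical
  haveI : Fact (Nat.Prime 2) := ⟨Nat.prime_two⟩
  obtain ⟨u, z, hu, hz, hut, hzt⟩ := C.exists_partners D hG ht
  set H := Subgroup.centralizer ({t} : Set G) with hH
  have hHc : Nat.card H = 2688 := D.toFrame.inv_cn hG ht
  have htH : t ∈ H := Subgroup.mem_centralizer_singleton_iff.2 rfl
  have huH : u ∈ H := Subgroup.mem_centralizer_singleton_iff.2 hut.eq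
  -- a proper normal subgroup above `t`
  set Z := Subgroup.zpowers (⟨t, htH⟩ : H) with hZ
  have hZn : Z.Normal := by
    refine ⟨fun a ha g => ?_⟩
    obtain ⟨i, rfl⟩ := Subgroup.mem_zpowers_iff.1 ha
    have hc : Commute (g : H) ⟨t, htH⟩ := Subtype.ext (Subgroup.mem_centralizer_singleton_iff.1 g.2)
    rw [(hc.zpow_right i).eq, mul_inv_cancel_right]
    exact Subgroup.zpow_mem _ (Subgroup.mem_zpowers _) i
  have hZc : Nat.card Z = 2 := by rw [hZ, Nat.card_zpowers, ← Subgroup.orderOf_coe]; exact ht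
  have hqc : Nat.card (H ⧸ Z) = 1344 := by
    have h := Subgroup.card_eq_card_quotient_mul_card_subgroup Z
    rw [hHc, hZc] at h
    omega
  obtain ⟨M, hMle, hMn, hZM, hMne, hMtop⟩ : ∃ M : Subgroup G, M ≤ H ∧ H ≤ Subgroup.normalizer (M : Set G) ∧
      t ∈ M ∧ (∃ y ∈ M, y ≠ 1 ∧ y ≠ t) ∧ M ≠ H := by
    haveI : Nontrivial (H ⧸ Z) := Finite.one_lt_card_iff_nontrivial.1 (by omega)
    by_cases hs : IsSimpleGroup (H ⧸ Z)
    · exfalso
      have hna : ¬ IsMulCommutative (H ⧸ Z) := fun h => by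
        letI : CommGroup (H ⧸ Z) := { (inferInstance : Group (H ⧸ Z)) with mul_comm := fun a b => h.1.1 a b }
        have hp := IsSimpleGroup.prime_card (α := H ⧸ Z)
        rw [hqc] at hp
        norm_num at hp
      have := Block.SmallOrd.mid_orders hna (by omega) (by omega)
      omega
    · obtain ⟨K, hKn, hKb, hKt⟩ : ∃ K : Subgroup (H ⧸ Z), K.Normal ∧ K ≠ ⊥ ∧ K ≠ ⊤ := by
        by_contra h
        push Not at h
        exact hs ⟨fun K hK => or_iff_not_imp_left.2 fun hb => h K hK hb⟩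
      set K' := K.comap (QuotientGroup.mk' Z) with hK'
      haveI : K'.Normal := hKn.comap _
      refine ⟨K'.map H.subtype, Subgroup.map_subtype_le _, ?_, ⟨⟨t, htH⟩, ?_, rfl⟩, ?_, ?_⟩
      · rw [← Subgroup.normal_subgroupOf_iff_le_normalizer (Subgroup.map_subtype_le _)]
        show ((K'.map H.subtype).comap H.subtype).Normal
        rw [Subgroup.comap_map_eq_self_of_injective H.subtype_injective]
        infer_instance
      · show QuotientGroup.mk' Z ⟨t, htH⟩ ∈ K
        rw [QuotientGroup.mk'_apply, (QuotientGroup.eq_one_iff (N := Z) _).2 (Subgroup.mem_zpowers _)]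
        exact one_mem K
      · obtain ⟨q, hqK, hq1⟩ := K.bot_or_exists_ne_one.resolve_left hKb
        obtain ⟨y, rfl⟩ := QuotientGroup.mk'_surjective Z q
        refine ⟨(y : G), ⟨y, hqK, rfl⟩, fun e => hq1 ?_, fun e => hq1 ?_⟩
        · rw [show y = 1 from Subtype.ext e, map_one]
        · rw [show y = ⟨t, htH⟩ from Subtype.ext e, QuotientGroup.mk'_apply]
          exact (QuotientGroup.eq_one_iff _).2 (Subgroup.mem_zpowers _)
      · intro e
        refine hKt ((Subgroup.eq_top_iff' K).2 fun q => ?_)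
        obtain ⟨y, rfl⟩ := QuotientGroup.mk'_surjective Z q
        obtain ⟨y', hy', hye⟩ := ((SetLike.ext_iff.1 e (y : G)).2 y.2)
        exact (H.subtype_injective hye) ▸ hy'
  have h16 : Nat.card M = 16 := ((C.normal_cases D hG ht hMle hMn hZM hMne).resolve_right hMtop)
  have hsplit : ∀ u : G, orderOf u = 7 → Commute u t → ∀ y ∈ M, y ≠ 1 → y ≠ t →
      ∀ w ∈ M, w ≠ 1 → w ≠ t → ∃ i : ℕ, w = u ^ i * y * (u ^ i)⁻¹ ∨ w = u ^ i * y * (u ^ i)⁻¹ * t :=
    fun u' hu' hut' y hy hy1 hyt => (D.seven_split hG ht hu' hut' h16 hZM hMle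
      (hMn (Subgroup.mem_centralizer_singleton_iff.2 hut'.eq)) hy hy1 hyt).2
  have hct : ∀ a ∈ M, Commute a t := fun a ha => Subgroup.mem_centralizer_singleton_iff.1 (hMle ha)
  have ht2 : t * t = 1 := by rw [← pow_two, ← ht]; exact pow_orderOf_eq_one t
  have hsq : ∀ y ∈ M, y * y = 1 := by
    -- all the squares are equal
    have hconj : ∀ y ∈ M, y ≠ 1 → y ≠ t → ∀ w ∈ M, w ≠ 1 → w ≠ t → ∃ i : ℕ,
        w * w = u ^ i * (y * y) * (u ^ i)⁻¹ := by
      intro y hy hy1 hyt w hw hw1 hwt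
      obtain ⟨i, h | h⟩ := hsplit u hu hut y hy hy1 hyt w hw hw1 hwt
      · exact ⟨i, by rw [h]; group⟩
      · refine ⟨i, ?_⟩
        have hc : Commute (u ^ i * y * (u ^ i)⁻¹) t :=
          ((hut.pow_left i).mul_left (hct y hy)).mul_left (hut.pow_left i).inv_left
        rw [h, hc.symm.mul_mul_mul_comm, ht2, mul_one]
        group
    by_contra hno
    push Not at hno
    obtain ⟨y, hy, hyy⟩ := hno
    have hy1 : y ≠ 1 := fun e => hyy (by rw [e, mul_one])
    have hyt : y ≠ t := fun e => hyy (by rw [e, ht2])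
    have hne : ∀ w ∈ M, w ≠ 1 → w ≠ t → w * w ≠ 1 := fun w hw hw1 hwt e => by
      obtain ⟨i, hi⟩ := hconj y hy hy1 hyt w hw hw1 hwt
      rw [e] at hi
      exact hyy (conj_eq_one_iff.1 hi.symm)
    have hsqt : ∀ w ∈ M, w ≠ 1 → w ≠ t → w * w = t := fun w hw hw1 hwt => by
      by_contra hwne
      have step : ∀ k : ℕ, 1 ≤ k → w ^ 2 ^ k ≠ 1 ∧ w ^ 2 ^ k ≠ t := by
        intro k hk
        induction k with
        | zero => omega
        | succ n ih =>
          rcases Nat.eq_zero_or_pos n with rfl | hn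
          · rw [show 2 ^ (0 + 1) = 2 from rfl, pow_two]
            exact ⟨hne w hw hw1 hwt, hwne⟩
          · obtain ⟨h1, h2⟩ := ih hn
            obtain ⟨i, hi⟩ := hconj w hw hw1 hwt _ (pow_mem hw _) h1 h2
            rw [pow_succ, pow_mul, pow_two, hi]
            refine ⟨fun e => hne w hw hw1 hwt (conj_eq_one_iff.1 e), fun e => hwne ?_⟩
            rw [mul_inv_eq_iff_eq_mul, ← (hut.pow_left i).eq] at e
            exact mul_left_cancel e
      exact (step 4 (by norm_num)).1 (orderOf_dvd_iff_pow_eq_one.1 (show orderOf w ∣ 2 ^ 4 by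
        have := Subgroup.orderOf_dvd_natCard _ hw
        rw [h16] at this
        exact this))
    have hinv : ∀ w ∈ M, w ≠ 1 → w ≠ t → w⁻¹ = w * t := fun w hw hw1 hwt => by
      refine inv_eq_of_mul_eq_one_right ?_
      rw [← mul_assoc, hsqt w hw hw1 hwt, ht2]
    have hanti : ∀ a ∈ M, ∀ b ∈ M, a ≠ 1 → a ≠ t → b ≠ 1 → b ≠ t → a * b ≠ 1 → a * b ≠ t →
        b * a = a * b * t := by
      intro a ha b hb ha1 hat hb1 hbt hab1 habt
      have h := hsqt _ (mul_mem ha hb) hab1 habt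
      calc b * a = a⁻¹ * ((a * b) * (a * b)) * b⁻¹ := by group
        _ = a * t * t * (b * t) := by rw [h, hinv a ha ha1 hat, hinv b hb hb1 hbt]
        _ = a * b * t := by rw [mul_assoc a t t, ht2, mul_one, mul_assoc]
    haveI := Fintype.ofFinite G
    have havoid : ∀ L : Finset G, L.card < 16 → ∃ g ∈ M, g ∉ L := fun L hL => by
      by_contra h
      push Not at h
      have := Finset.card_le_card (show Finset.univ.filter (fun g => g ∈ M) ⊆ L from
        fun g hg => h g (Finset.mem_filter.1 hg).2)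
      rw [← Fintype.card_subtype, ← Nat.card_eq_fintype_card, h16] at this
      omega
    obtain ⟨b, hb, hbn⟩ := havoid {1, t, y⁻¹, y⁻¹ * t} (lt_of_le_of_lt Finset.card_le_four (by norm_num))
    simp only [Finset.mem_insert, Finset.mem_singleton, not_or] at hbn
    have hab1 : y * b ≠ 1 := fun e => hbn.2.2.1 (eq_inv_of_mul_eq_one_right e)
    have habt : y * b ≠ t := fun e => hbn.2.2.2 (by rw [← e]; group)
    obtain ⟨g, hg, hgn⟩ := havoid ({1, t, y⁻¹, y⁻¹ * t} ∪ {b⁻¹, b⁻¹ * t, (y * b)⁻¹, (y * b)⁻¹ * t})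
      (lt_of_le_of_lt (Finset.card_union_le _ _) (by
        have h1 := Finset.card_le_four (a := (1 : G)) (b := t) (c := y⁻¹) (d := y⁻¹ * t)
        have h2 := Finset.card_le_four (a := b⁻¹) (b := b⁻¹ * t) (c := (y * b)⁻¹) (d := (y * b)⁻¹ * t)
        omega))
    simp only [Finset.mem_union, Finset.mem_insert, Finset.mem_singleton, not_or] at hgn
    obtain ⟨⟨g1, g2, g3, g4⟩, g5, g6, g7, g8⟩ := hgn
    have hA : ∀ a, g ≠ a⁻¹ → g ≠ a⁻¹ * t → a * g ≠ 1 ∧ a * g ≠ t := fun a h1 h2 =>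
      ⟨fun e => h1 (eq_inv_of_mul_eq_one_right e), fun e => h2 (by rw [← e]; group)⟩
    have e1 := hanti y hy g hg hy1 hyt g1 g2 (hA y g3 g4).1 (hA y g3 g4).2
    have e2 := hanti b hb g hg hbn.1 hbn.2.1 g1 g2 (hA b g5 g6).1 (hA b g5 g6).2
    have e3 := hanti (y * b) (mul_mem hy hb) g hg hab1 habt g1 g2 (hA _ g7 g8).1 (hA _ g7 g8).2
    have e4 : g * (y * b) = y * b * g := by
      calc g * (y * b) = g * y * b := by group
        _ = y * g * t * b := by rw [e1]
        _ = y * (g * b) * t := by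
            rw [mul_assoc (y * g) t b, ← (hct b hb).eq]; group
        _ = y * (b * g * t) * t := by rw [e2]
        _ = y * b * g * (t * t) := by group
        _ = y * b * g := by rw [ht2, mul_one]
    rw [e4] at e3
    exact ne_one_of_orderOf ht (by norm_num) (mul_eq_left.1 e3.symm)
  obtain ⟨y₀, hy₀, hy₀1, hy₀t⟩ := hMne
  have hcases : ∀ N : Subgroup G, M ≤ N → N ≤ H → H ≤ Subgroup.normalizer (N : Set G) → N = M ∨ N = H :=
    fun N hMN hN hn => (C.normal_cases D hG ht hN hn (hMN hZM) ⟨y₀, hMN hy₀, hy₀1, hy₀t⟩).imp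
      (fun h => (Subgroup.eq_of_le_of_card_ge hMN (by rw [h16, h])).symm) id
  have hcen : Subgroup.centralizer (M : Set G) = M := by
    have hcH : Subgroup.centralizer (M : Set G) ≤ H := Subgroup.centralizer_le (Set.singleton_subset_iff.2 hZM)
    refine (hcases _ (fun a ha => Subgroup.mem_centralizer_iff.2 fun b hb => M22Ord.comm_of_sq hsq hb ha) hcH
      fun h hh => M22Ord.mem_normalizer_of_inv (M22Ord.inv_centralizer fun s hs => ?_)).resolve_right fun e => ?_
    · have := dvd_card_conj hMn hs (inv_mem hh)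
      rwa [inv_inv] at this
    · have huc : u ∈ Subgroup.centralizer (M : Set G) := e ▸ huH
      obtain ⟨heq, -⟩ := D.cen_seven hG hu ht hut
      rcases D.inv_unique hG hu ht hut (Subgroup.mem_centralizer_iff.1 huc y₀ hy₀)
        (by rw [pow_two]; exact hsq _ hy₀) with h | h
      · exact hy₀1 h
      · exact hy₀t h
  refine ⟨⟨M, ht, h16, hZM, hMle, hMn, hsq, hcen, hcases, fun N hN hn hc => ?_, hsplit⟩⟩
  have hp : ∀ K : Subgroup G, Nat.card K = 16 → IsPGroup 2 K := fun K hK =>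
    IsPGroup.of_card (n := 4) (by rw [hK]; norm_num)
  obtain ⟨n, hn'⟩ := (IsPGroup.iff_card).1 ((hp N hc).to_sup_of_normal_right' (hp M h16) (hN.trans hMn))
  have hle : N ⊔ M ≤ H := sup_le hN hMle
  have hnorm : H ≤ Subgroup.normalizer ((N ⊔ M : Subgroup G) : Set G) := fun h hh => by
    refine M22Ord.mem_normalizer_of_inv fun a ha => ?_
    have hmap : (N ⊔ M).map (MulAut.conj h).toMonoidHom ≤ N ⊔ M := by
      rw [Subgroup.map_sup]
      refine sup_le_sup ?_ ?_
      · rintro _ ⟨b, hb, rfl⟩; exact dvd_card_conj hn hb hh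
      · rintro _ ⟨b, hb, rfl⟩; exact dvd_card_conj hMn hb hh
    exact hmap ⟨a, ha, rfl⟩
  rcases hcases _ le_sup_right hle hnorm with e | e
  · exact Subgroup.eq_of_le_of_card_ge (le_sup_left.trans e.le) (by rw [hc, h16])
  · rw [e, hHc] at hn'
    have h7 : 7 ∣ 2 ^ n := hn' ▸ (by norm_num : 7 ∣ 2688)
    have := (Nat.prime_dvd_prime_iff_eq (by norm_num : Nat.Prime 7) Nat.prime_two).1 ((by norm_num : Nat.Prime 7).dvd_of_dvd_pow h7)
    norm_num at this

end Classes

end Cfsg.Agent.Invol.M23Ord
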