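import Mathlib
import Cfsg.Agent.Lib.Invol.Order10200960.CentSixteen

/-!
Simple groups of order 10200960: an element of order three normalizing the elementary subgroup of order sixteen
and moving the involution.
-/

set_option autoImplicit false
set_option linter.style.haveILetI false
set_option linter.unusedSectionVars false

namespace Cfsg.Agent.Invol.M23Ord

open scoped ComplexConjugate Pointwise
open Cfsg Cfsg.Agent.Block Cfsg.Agent.Char Cfsg.Agent.Invol.M12Ord

universe u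

variable {G : Type u} [Group G] [Finite G]

/-- The relation "commute up to `K`". -/
def CommUpTo (K : Subgroup G) (u w : G) : Prop := ∃ p ∈ K, u * w = p * (w * u)

namespace CommUpTo

variable {K : Subgroup G} {u v w : G}

theorem of_comm (h : u * w = w * u) : CommUpTo K u w := ⟨1, one_mem _, by rw [h, one_mul]⟩

theorem symm (h : CommUpTo K u w) : CommUpTo K w u := by
  obtain ⟨p, hp, h⟩ := h
  exact ⟨p⁻¹, inv_mem hp, by rw [h, inv_mul_cancel_left]⟩

theorem mul_left (hu : ∀ p ∈ K, Commute u p) (h1 : CommUpTo K u w) (h2 : CommUpTo K v w) :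
    CommUpTo K (u * v) w := by
  obtain ⟨p, hp, h1⟩ := h1
  obtain ⟨q, hq, h2⟩ := h2
  refine ⟨q * p, mul_mem hq hp, ?_⟩
  calc u * v * w = u * q * (w * v) := by rw [mul_assoc, h2]; group
    _ = q * u * (w * v) := by rw [(hu q hq).eq]
    _ = q * (u * w) * v := by group
    _ = q * (p * (w * u)) * v := by rw [h1]
    _ = q * p * (w * (u * v)) := by group

end CommUpTo

/-- Four translates of a subgroup of order four cover an elementary group of order sixteen. -/
theorem cover_four {S X : Subgroup G} (hsq : ∀ w ∈ S, w * w = 1) (hS : Nat.card S = 16) (hX : Nat.card X = 4)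
    (hXS : X ≤ S) {b c : G} (hb : b ∈ S) (hc : c ∈ S) (hbX : b ∉ X) (hcX : c ∉ X) (hbcX : b * c ∉ X) :
    ∀ w ∈ S, ∃ k ∈ X, w = k ∨ w = k * b ∨ w = k * c ∨ w = k * (b * c) := by
  intro w hw
  have hr : ∀ i : Fin 4, (![1, b, c, b * c] : Fin 4 → G) i ∈ S := by
    intro i; fin_cases i <;> simp [one_mem, hb, hc, mul_mem hb hc]
  have hinj : Function.Injective fun p : X × Fin 4 =>
      (⟨(p.1 : G) * (![1, b, c, b * c] : Fin 4 → G) p.2, mul_mem (hXS p.1.2) (hr p.2)⟩ : S) := by
    rintro ⟨k, i⟩ ⟨l, j⟩ h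
    have h' : (k : G) * (![1, b, c, b * c] : Fin 4 → G) i = (l : G) * (![1, b, c, b * c] : Fin 4 → G) j :=
      congrArg Subtype.val h
    have hij : i = j := by
      by_contra hne
      have hmem : (![1, b, c, b * c] : Fin 4 → G) i * (![1, b, c, b * c] : Fin 4 → G) j ∈ X := by
        have e : (![1, b, c, b * c] : Fin 4 → G) i * (![1, b, c, b * c] : Fin 4 → G) j = (k : G)⁻¹ * l := by
          calc _ = (k : G)⁻¹ * ((k : G) * (![1, b, c, b * c] : Fin 4 → G) i) *
                (![1, b, c, b * c] : Fin 4 → G) j := by group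
            _ = (k : G)⁻¹ * l * ((![1, b, c, b * c] : Fin 4 → G) j * (![1, b, c, b * c] : Fin 4 → G) j) := by
              rw [h']; group
            _ = (k : G)⁻¹ * l := by rw [hsq _ (hr j), mul_one]
        exact e ▸ mul_mem (inv_mem k.2) l.2
      have hbb := hsq b hb
      have hcc := hsq c hc
      have hcb : c * b = b * c := M22Ord.comm_of_sq hsq hc hb
      have e1 : b * (b * c) = c := by rw [← mul_assoc, hbb, one_mul]
      have e2 : b * c * b = c := by rw [mul_assoc, hcb, ← mul_assoc, hbb, one_mul]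
      have e3 : b * c * c = b := by rw [mul_assoc, hcc, mul_one]
      have e4 : c * (b * c) = b := by rw [← mul_assoc, hcb, e3]
      revert hmem
      fin_cases i <;> fin_cases j <;> simp_all
    subst hij
    exact Prod.ext (Subtype.ext (mul_right_cancel h')) rfl
  obtain ⟨⟨k, i⟩, hki⟩ := (hinj.bijective_of_nat_card_le (by simp [hS, hX])).2 ⟨w, hw⟩
  have hki' : (k : G) * (![1, b, c, b * c] : Fin 4 → G) i = w := congrArg Subtype.val hki
  refine ⟨k, k.2, ?_⟩
  fin_cases i <;> simp at hki' <;> simp [← hki']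

variable [IsSimpleGroup G]
variable [Fact (Nat.Prime 5)] [Fact (Nat.Prime 7)] [Fact (Nat.Prime 11)] [Fact (Nat.Prime 23)]

namespace Classes

variable (C : Classes G) (D : Data G)

/-- A four-group in the subgroup of order sixteen, with an element of order three permuting it cyclically. -/
structure Mover {t : G} (S : Sixteen t) where
  s : G
  g : G
  s_mem : s ∈ S.E
  s_one : s ≠ 1
  s_t : s ≠ t
  g_norm : g ∈ Subgroup.normalizer (S.E : Set G)
  g_t : g * t * g⁻¹ = s
  g_s : g * s * g⁻¹ = s * t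

include C D in
theorem exists_mover (hG : Nat.card G = 10200960) {t : G} (S : Sixteen t) : Nonempty (Mover S) := by
  classical
  haveI : Fact (Nat.Prime 2) := ⟨Nat.prime_two⟩
  haveI : Fact (Nat.Prime 3) := ⟨by norm_num⟩
  obtain ⟨u, z, -, hz, -, hzt⟩ := C.exists_partners D hG S.ht
  have ht2 : t * t = 1 := S.sq t S.t_mem
  have hzH : z ∈ Subgroup.centralizer ({t} : Set G) := Subgroup.mem_centralizer_singleton_iff.2 hzt.eq
  have hz3 : z ^ 3 = 1 := by rw [← hz]; exact pow_orderOf_eq_one z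
  obtain ⟨-, hB12⟩ := C.cent_six D hG S.ht hz hzt
  set B := Subgroup.centralizer ({z} : Set G) ⊓ Subgroup.centralizer ({t} : Set G) with hB
  set X := S.E ⊓ Subgroup.centralizer ({z} : Set G) with hX
  have hXB : X ≤ B := fun a ha => ⟨ha.2, S.le ha.1⟩
  have htX : t ∈ X := ⟨S.t_mem, Subgroup.mem_centralizer_singleton_iff.2 hzt.symm.eq⟩
  have hXc : Nat.card X = 4 := by
    have h1 := Subgroup.card_dvd_of_le hXB
    have h2 := Subgroup.card_dvd_of_le (inf_le_left : X ≤ S.E)
    have h3 := fixed_mod_sub hz3 (S.norm hzH)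
    have h4 : 2 ∣ Nat.card X := S.ht ▸ Subgroup.orderOf_dvd_natCard _ htX
    rw [hB12] at h1
    rw [S.card] at h2 h3
    change Nat.card X % 3 = 16 % 3 at h3
    have hd : Nat.card X ∈ Nat.divisors 4 := Nat.mem_divisors.2 ⟨(Nat.dvd_gcd h1 h2).trans (by norm_num), by norm_num⟩
    rw [show Nat.divisors 4 = {1, 2, 4} by decide] at hd
    simp only [Finset.mem_insert, Finset.mem_singleton] at hd
    omega
  have hXn : B ≤ Subgroup.normalizer (X : Set G) := fun b hb => M22Ord.mem_normalizer_of_inv fun a ha => by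
    refine ⟨dvd_card_conj S.norm ha.1 hb.2, ?_⟩
    have h1 : Commute b z := Subgroup.mem_centralizer_singleton_iff.1 hb.1
    have h2 : Commute a z := Subgroup.mem_centralizer_singleton_iff.1 ha.2
    exact Subgroup.mem_centralizer_singleton_iff.2 (((h1.mul_left h2).mul_left h1.inv_left).eq)
  have htwo : ∀ w ∈ B, w ^ 2 ^ 1 = 1 → w ∈ X := fun w hw =>
    M22Ord.mem_of_index_three hXB hXn (by rw [hB12, hXc]) hw
  have hcomm : ∀ a ∈ S.E, ∀ b ∈ S.E, Commute a b := fun a ha b hb => M22Ord.comm_of_sq S.sq ha hb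
  -- the centralizer of `z` and another involution of the four-group is the same
  have hBle : ∀ x ∈ X, B ≤ Subgroup.centralizer ({x} : Set G) := by
    intro x hx
    have hzx : z ∈ Subgroup.centralizer ({x} : Set G) :=
      Subgroup.mem_centralizer_singleton_iff.2 (Subgroup.mem_centralizer_singleton_iff.1 hx.2).symm
    have hzB : z ∈ B := ⟨Subgroup.mem_centralizer_singleton_iff.2 rfl, hzH⟩
    have hle : X ⊔ Subgroup.zpowers z ≤ B := sup_le hXB (Subgroup.zpowers_le.2 hzB)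
    have h4 := Subgroup.card_dvd_of_le (le_sup_left : X ≤ X ⊔ Subgroup.zpowers z)
    have h3 := Subgroup.card_dvd_of_le (le_sup_right : Subgroup.zpowers z ≤ X ⊔ Subgroup.zpowers z)
    rw [Nat.card_zpowers, hz] at h3
    rw [hXc] at h4
    have h12 : 12 ∣ Nat.card (X ⊔ Subgroup.zpowers z : Subgroup G) :=
      Nat.Coprime.mul_dvd_of_dvd_of_dvd (by norm_num : Nat.Coprime 4 3) h4 h3
    rw [← Subgroup.eq_of_le_of_card_ge hle (by rw [hB12]; exact Nat.le_of_dvd Nat.card_pos h12)]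
    refine sup_le (fun a ha => ?_) (Subgroup.zpowers_le.2 hzx)
    exact Subgroup.mem_centralizer_singleton_iff.2 (hcomm a ha.1 x hx.1).eq
  -- conjugation inside the centralizer of `z`
  have hmove : ∀ x ∈ X, x ≠ 1 → ∃ a, a ∈ Subgroup.normalizer (X : Set G) ∧ Commute a z ∧ a * t * a⁻¹ = x := by
    intro x hx hx1
    have hzx : Commute z x := (Subgroup.mem_centralizer_singleton_iff.1 hx.2).symm
    have hxo : orderOf x = 2 := orderOf_eq_prime (by rw [pow_two]; exact S.sq x hx.1) hx1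
    have ho6 : orderOf (z * x) = 6 := by
      rw [hzx.orderOf_mul_eq_mul_orderOf_of_coprime (by rw [hz, hxo]; norm_num), hz, hxo]
    have hot : orderOf (z * t) = 6 := by
      rw [hzt.orderOf_mul_eq_mul_orderOf_of_coprime (by rw [hz, S.ht]; norm_num), hz, S.ht]
    obtain ⟨a, ha⟩ := isConj_iff.1 ((C.six_conj D hG hot).symm.trans (C.six_conj D hG ho6))
    have h4 : ∀ y : G, y * y = 1 → Commute z y → (z * y) ^ 4 = z ∧ (z * y) ^ 3 = y := fun y hy hzy => by
      have hy2 : y ^ 2 = 1 := by rw [pow_two, hy]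
      refine ⟨?_, ?_⟩
      · rw [hzy.mul_pow, show (4 : ℕ) = 3 + 1 from rfl, pow_succ, hz3, one_mul, show 3 + 1 = 2 * 2 from rfl, pow_mul,
          hy2, one_pow, mul_one]
      · rw [hzy.mul_pow, hz3, pow_succ, hy2, one_mul, one_mul]
    have haz : a * z * a⁻¹ = z := by
      have := congrArg (· ^ 4) ha
      simp only [conj_pow, (h4 t ht2 hzt).1, (h4 x (S.sq x hx.1) hzx).1] at this
      exact this
    have hat : a * t * a⁻¹ = x := by
      have := congrArg (· ^ 3) ha
      simp only [conj_pow, (h4 t ht2 hzt).2, (h4 x (S.sq x hx.1) hzx).2] at this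
      exact this
    have hazc : Commute a z := mul_inv_eq_iff_eq_mul.1 haz
    refine ⟨a, M22Ord.mem_normalizer_of_inv fun y hy => htwo _ ?_ ?_, hazc, hat⟩
    · have hyz : Commute (a * y * a⁻¹) z :=
        (hazc.mul_left (Subgroup.mem_centralizer_singleton_iff.1 hy.2)).mul_left hazc.inv_left
      refine ⟨Subgroup.mem_centralizer_singleton_iff.2 hyz.eq, Subgroup.mem_centralizer_singleton_iff.2 ?_⟩
      -- it commutes with `x`, and `t` lies in the four-group
      have hyx : Commute (a * y * a⁻¹) x := by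
        rw [← hat]
        exact (hcomm y hy.1 t S.t_mem).map (MulAut.conj a).toMonoidHom
      have hBx : B = Subgroup.centralizer ({z} : Set G) ⊓ Subgroup.centralizer ({x} : Set G) := by
        refine Subgroup.eq_of_le_of_card_ge (le_inf inf_le_left (hBle x hx)) ?_
        rw [hB12]
        exact le_of_eq (C.cent_six D hG hxo hz hzx).2
      exact Subgroup.mem_centralizer_singleton_iff.1
        (hBx.ge ⟨Subgroup.mem_centralizer_singleton_iff.2 hyz.eq, Subgroup.mem_centralizer_singleton_iff.2 hyx.eq⟩).2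
    · rw [pow_one, pow_two, show a * y * a⁻¹ * (a * y * a⁻¹) = a * (y * y) * a⁻¹ by group, S.sq y hy.1]
      group
  obtain ⟨s, hsX, hs1, hst⟩ : ∃ s ∈ X, s ≠ 1 ∧ s ≠ t := by
    by_contra h
    push Not at h
    haveI := Fintype.ofFinite G
    have hsub : Finset.univ.filter (fun y => y ∈ X) ⊆ {1, t} := fun y hy => by
      by_cases h1 : y = 1
      · simp [h1]
      · simp [h y (Finset.mem_filter.1 hy).2 h1]
    have := (Finset.card_le_card hsub).trans Finset.card_le_two
    rw [← Fintype.card_subtype, ← Nat.card_eq_fintype_card, hXc] at this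
    omega
  have hsE := hsX.1
  have hs2 : s * s = 1 := S.sq s hsE
  have hts : t * s = s * t := hcomm t S.t_mem s hsE
  have hstX : s * t ∈ X := mul_mem hsX htX
  have hst1 : s * t ≠ 1 := fun e => hst (by rw [eq_inv_of_mul_eq_one_left e, inv_eq_of_mul_eq_one_left ht2])
  have hstt : s * t ≠ t := fun e => hs1 (mul_eq_right.1 e)
  have hsts : s * t ≠ s := fun e => ne_one_of_orderOf S.ht (by norm_num) (mul_eq_left.1 e)
  have hXelts : ∀ y ∈ X, y = 1 ∨ y = t ∨ y = s ∨ y = s * t := by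
    intro y hy
    haveI := Fintype.ofFinite G
    by_contra h
    push Not at h
    have hsub : ({1, t, s, s * t, y} : Finset G) ⊆ Finset.univ.filter (fun w => w ∈ X) := by
      intro w hw
      simp only [Finset.mem_insert, Finset.mem_singleton] at hw
      rcases hw with rfl | rfl | rfl | rfl | rfl <;> simp [one_mem, htX, hsX, hstX, hy]
    have := Finset.card_le_card hsub
    rw [← Fintype.card_subtype, ← Nat.card_eq_fintype_card, hXc, Finset.card_insert_of_notMem,
      Finset.card_insert_of_notMem, Finset.card_insert_of_notMem, Finset.card_pair h.2.2.2.symm] at this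
    · omega
    · simp only [Finset.mem_insert, Finset.mem_singleton, not_or]
      exact ⟨hsts.symm, h.2.2.1.symm⟩
    · simp only [Finset.mem_insert, Finset.mem_singleton, not_or]
      exact ⟨hst.symm, hstt.symm, h.2.1.symm⟩
    · simp only [Finset.mem_insert, Finset.mem_singleton, not_or]
      exact ⟨(ne_one_of_orderOf S.ht (by norm_num)).symm, hs1.symm, hst1.symm, h.1.symm⟩
  -- a three-cycle
  obtain ⟨c, hcN, hcz, hct, hcs⟩ : ∃ c, c ∈ Subgroup.normalizer (X : Set G) ∧ Commute c z ∧ c * t * c⁻¹ = s ∧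
      c * s * c⁻¹ = s * t := by
    obtain ⟨a, haN, haz, hat⟩ := hmove s hsX hs1
    have hin : ∀ {a : G}, a ∈ Subgroup.normalizer (X : Set G) → ∀ y ∈ X, a * y * a⁻¹ ∈ X := fun ha y hy =>
      (Subgroup.mem_normalizer_iff.1 ha y).1 hy
    have hcancel : ∀ {a y w : G}, a * y * a⁻¹ = a * w * a⁻¹ → y = w := fun h =>
      mul_left_cancel (mul_right_cancel h)
    rcases hXelts _ (hin haN s hsX) with h | h | h | h
    · exact absurd (conj_eq_one_iff.1 h) hs1
    swap
    · exact absurd (hcancel (hat.trans h.symm)).symm hst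
    swap
    · exact ⟨a, haN, haz, hat, h⟩
    obtain ⟨b, hbN, hbz, hbt⟩ := hmove (s * t) hstX hst1
    have hmul : ∀ (w : G), b * w * b⁻¹ * (b * t * b⁻¹) = b * (w * t) * b⁻¹ := fun w => by group
    rcases hXelts _ (hin hbN s hsX) with k | k | k | k
    · exact absurd (conj_eq_one_iff.1 k) hs1
    · -- `b` is a three-cycle the other way round
      refine ⟨b * b, mul_mem hbN hbN, hbz.mul_left hbz, ?_, ?_⟩
      · rw [show b * b * t * (b * b)⁻¹ = b * (b * t * b⁻¹) * b⁻¹ by group, hbt, ← hmul, k, hbt, ← mul_assoc, hts,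
          mul_assoc, ht2, mul_one]
      · rw [show b * b * s * (b * b)⁻¹ = b * (b * s * b⁻¹) * b⁻¹ by group, k, hbt]
    · -- `b` exchanges `t` and `s * t`
      refine ⟨b * a, mul_mem hbN haN, hbz.mul_left haz, ?_, ?_⟩
      · rw [show b * a * t * (b * a)⁻¹ = b * (a * t * a⁻¹) * b⁻¹ by group, hat, k]
      · rw [show b * a * s * (b * a)⁻¹ = b * (a * s * a⁻¹) * b⁻¹ by group, h, hbt]
    · exact absurd (hcancel (hbt.trans k.symm)).symm hst
  have hcst : c * (s * t) * c⁻¹ = t := by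
    rw [show c * (s * t) * c⁻¹ = c * s * c⁻¹ * (c * t * c⁻¹) by group, hcs, hct, ← hts, mul_assoc, hs2, mul_one]
  -- a fourth power has order three
  have hc18 : c ^ 18 = 1 := by
    have hc3t : c ^ 3 ∈ B := by
      refine ⟨Subgroup.mem_centralizer_singleton_iff.2 (hcz.pow_left 3).eq,
        Subgroup.mem_centralizer_singleton_iff.2 (mul_inv_eq_iff_eq_mul.1 ?_)⟩
      rw [show c ^ 3 * t * (c ^ 3)⁻¹ = c * (c * (c * t * c⁻¹) * c⁻¹) * c⁻¹ by simp [pow_succ]; group, hct, hcs, hcst]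
    have h6 : (c ^ 3) ^ 3 ∈ X := by
      haveI : (X.subgroupOf B).Normal := Subgroup.normal_subgroupOf_of_le_normalizer hXn
      have hidx : (X.subgroupOf B).index = 3 := by
        have h := Subgroup.card_mul_index (X.subgroupOf B)
        rw [Nat.card_congr (Subgroup.subgroupOfEquivOfLe hXB).toEquiv, hB12, hXc] at h
        omega
      have h := Subgroup.pow_index_mem (X.subgroupOf B) (⟨c ^ 3, hc3t⟩ : B)
      rw [hidx] at h
      exact h
    have := S.sq _ h6.1
    rw [← pow_two, ← pow_mul, ← pow_mul] at this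
    exact this
  set g := c ^ 4 with hg
  have hg3 : g ^ 3 = 1 := by
    have h9 : orderOf (c ^ 2) ∣ 3 ^ 2 := orderOf_dvd_of_pow_eq_one (by rw [← pow_mul]; exact hc18)
    obtain ⟨i, hi, he⟩ := (Nat.dvd_prime_pow (by norm_num : Nat.Prime 3)).1 h9
    have h3 : (c ^ 2) ^ 3 = 1 := by
      refine orderOf_dvd_iff_pow_eq_one.1 ?_
      interval_cases i
      · rw [he]; norm_num
      · rw [he]; norm_num
      · exact absurd (by simpa using he) (C.no_nine D hG (c ^ 2))
    rw [hg, show (4 : ℕ) = 2 * 2 from rfl, pow_mul c 2 2, ← pow_mul (c ^ 2), show 2 * 3 = 3 * 2 from rfl,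
      pow_mul (c ^ 2), h3, one_pow]
  have hgz : Commute g z := hcz.pow_left 4
  have hgX : g ∈ Subgroup.normalizer (X : Set G) := pow_mem hcN 4
  have hg4 : ∀ y, g * y * g⁻¹ = c * (c * (c * (c * y * c⁻¹) * c⁻¹) * c⁻¹) * c⁻¹ := fun y => by
    simp [hg, pow_succ]; group
  have hgt : g * t * g⁻¹ = s := by rw [hg4, hct, hcs, hcst, hct]
  have hgs : g * s * g⁻¹ = s * t := by rw [hg4, hcs, hcst, hct, hcs]
  refine ⟨⟨s, g, hsE, hs1, hst, ?_, hgt, hgs⟩⟩
  -- `g` normalizes the subgroup of order sixteen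
  set φ := (MulAut.conj g).toMonoidHom with hφ
  have hφa : ∀ y, φ y = g * y * g⁻¹ := fun _ => rfl
  have hφ3 : ∀ y, φ (φ (φ y)) = y := fun y => by
    rw [hφa, hφa, hφa, show g * (g * (g * y * g⁻¹) * g⁻¹) * g⁻¹ = g ^ 3 * y * (g ^ 3)⁻¹ by
      simp [pow_succ]; group, hg3]
    simp
  have hφinj : Function.Injective φ := (MulAut.conj g).injective
  set E2 := S.E.map φ with hE2
  set E3 := E2.map φ with hE3
  have hc2 : Nat.card E2 = 16 := by
    rw [hE2, ← Nat.card_congr (S.E.equivMapOfInjective φ hφinj).toEquiv, S.card]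
  have hc3 : Nat.card E3 = 16 := by
    rw [hE3, ← Nat.card_congr (E2.equivMapOfInjective φ hφinj).toEquiv, hc2]
  by_cases heq : E2 = S.E
  · refine M22Ord.mem_normalizer_of_inv fun y hy => ?_
    rw [← heq]
    exact ⟨y, hy, rfl⟩
  exfalso
  set CX := Subgroup.centralizer (X : Set G) with hCX
  have hXφ : X.map φ = X := by
    refine Subgroup.eq_of_le_of_card_ge ?_ (le_of_eq ?_)
    · rintro _ ⟨y, hy, rfl⟩; exact (Subgroup.mem_normalizer_iff.1 hgX y).1 hy
    · rw [← Nat.card_congr (X.equivMapOfInjective φ hφinj).toEquiv]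
  have hXleE : X ≤ S.E := inf_le_left
  have hXE2 : X ≤ E2 := hXφ ▸ Subgroup.map_mono hXleE
  have hXE3 : X ≤ E3 := hXφ ▸ Subgroup.map_mono hXE2
  have hECX : S.E ≤ CX := fun a ha => Subgroup.mem_centralizer_iff.2 fun b hb => (hcomm b hb.1 a ha).eq
  have hinvC : ∀ a ∈ CX, φ a ∈ CX := fun a ha => Subgroup.mem_centralizer_iff.2 fun b hb => by
    obtain ⟨y, hy, rfl⟩ := (hXφ.ge hb : b ∈ X.map φ)
    rw [← map_mul, ← map_mul, Subgroup.mem_centralizer_iff.1 ha y hy]
  have hCH : CX ≤ Subgroup.centralizer ({t} : Set G) := Subgroup.centralizer_le (Set.singleton_subset_iff.2 htX)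
  have hnE : CX ≤ Subgroup.normalizer (S.E : Set G) := hCH.trans S.norm
  have hnφ : ∀ K : Subgroup G, CX ≤ Subgroup.normalizer (K : Set G) →
      CX ≤ Subgroup.normalizer ((K.map φ : Subgroup G) : Set G) := fun K hK a ha =>
    M22Ord.mem_normalizer_of_inv fun y hy => by
      obtain ⟨k, hk, rfl⟩ := hy
      refine ⟨φ (φ a) * k * (φ (φ a))⁻¹,
        (Subgroup.mem_normalizer_iff.1 (hK (hinvC _ (hinvC a ha))) k).1 hk, ?_⟩
      rw [map_mul, map_mul, map_inv, hφ3]
  have hE2CX : E2 ≤ CX := by rintro _ ⟨a, ha, rfl⟩; exact hinvC a (hECX ha)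
  have hE3CX : E3 ≤ CX := by rintro _ ⟨a, ha, rfl⟩; exact hinvC a (hE2CX ha)
  have hn2 := hnφ _ hnE
  have hn3 := hnφ _ hn2
  have hzCX : z ∈ Subgroup.normalizer (S.E : Set G) := S.norm hzH
  have hzφ : ∀ K : Subgroup G, z ∈ Subgroup.normalizer (K : Set G) →
      z ∈ Subgroup.normalizer ((K.map φ : Subgroup G) : Set G) := fun K hK =>
    M22Ord.mem_normalizer_of_inv fun y hy => by
      obtain ⟨k, hk, rfl⟩ := hy
      refine ⟨z * k * z⁻¹, (Subgroup.mem_normalizer_iff.1 hK k).1 hk, ?_⟩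
      have : φ z = z := by rw [hφa, hgz.eq, mul_inv_cancel_right]
      rw [map_mul, map_mul, map_inv, this]
  have hz2 := hzφ _ hzCX
  have hz3' := hzφ _ hz2
  -- the fixed points of `z` in a two-group inside the centralizer of the four-group
  have hmodz : ∀ (K : Subgroup G) (n : ℕ), X ≤ K → K ≤ CX → z ∈ Subgroup.normalizer (K : Set G) →
      Nat.card K = 2 ^ n → Nat.card K % 3 = 1 ∧ ∀ y ∈ K, Commute y z → y ∈ X := by
    intro K n hXK hKC hzK hK
    have hfix : ∀ y ∈ K, Commute y z → y ∈ X := fun y hy hc => by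
      refine M22Ord.mem_of_index_three hXB hXn (by rw [hB12, hXc]) (k := n)
        ⟨Subgroup.mem_centralizer_singleton_iff.2 hc.eq, hCH (hKC hy)⟩ ?_
      exact orderOf_dvd_iff_pow_eq_one.1 (hK ▸ Subgroup.orderOf_dvd_natCard _ hy)
    refine ⟨?_, hfix⟩
    have h := fixed_mod_sub hz3 hzK
    rw [show K ⊓ Subgroup.centralizer ({z} : Set G) = X from le_antisymm
      (fun y hy => hfix y hy.1 (Subgroup.mem_centralizer_singleton_iff.1 hy.2)) (le_inf hXK inf_le_right), hXc] at h
    omega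
  have hmeet : S.E ⊓ E2 = X := by
    have hle : X ≤ S.E ⊓ E2 := le_inf hXleE hXE2
    obtain ⟨n, hn4, hn⟩ : ∃ n ≤ 4, Nat.card (S.E ⊓ E2 : Subgroup G) = 2 ^ n :=
      (Nat.dvd_prime_pow Nat.prime_two).1 (by
        have := Subgroup.card_dvd_of_le (inf_le_left : S.E ⊓ E2 ≤ S.E)
        rwa [S.card] at this)
    have hz' : z ∈ Subgroup.normalizer ((S.E ⊓ E2 : Subgroup G) : Set G) := M22Ord.mem_normalizer_of_inv
      ((M22Ord.inv_normalizer hzCX).inf (M22Ord.inv_normalizer hz2))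
    obtain ⟨hmod, -⟩ := hmodz _ n hle (inf_le_left.trans hECX) hz' hn
    refine (Subgroup.eq_of_le_of_card_ge hle ?_).symm
    have h4 := Subgroup.card_le_of_le hle
    rw [hXc] at h4 ⊢
    rw [hn] at h4 hmod ⊢
    interval_cases n <;> revert hmod h4 <;> norm_num
    exfalso
    refine heq ?_
    have h16 : Nat.card (S.E ⊓ E2 : Subgroup G) = 16 := by rw [hn]; norm_num
    rw [← Subgroup.eq_of_le_of_card_ge (inf_le_right : S.E ⊓ E2 ≤ E2) (by rw [hc2, h16]),
      Subgroup.eq_of_le_of_card_ge (inf_le_left : S.E ⊓ E2 ≤ S.E) (by rw [S.card, h16])]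
  have hmeet23 : E2 ⊓ E3 = X := by
    rw [hE3]
    nth_rewrite 1 [hE2]
    rw [← Subgroup.map_inf _ _ _ hφinj, hmeet, hXφ]
  -- all three lie in a subgroup of order 64
  have hp : ∀ K : Subgroup G, Nat.card K = 16 → IsPGroup 2 K := fun K hK =>
    IsPGroup.of_card (n := 4) (by rw [hK]; norm_num)
  have hlow : ∀ n, Nat.card (S.E ⊔ E2 : Subgroup G) = 2 ^ n → 5 ≤ n := by
    intro n hn
    by_contra h
    have h16 := Subgroup.card_le_of_le (le_sup_left : S.E ≤ S.E ⊔ E2)
    rw [S.card, hn] at h16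
    have hn4 : n = 4 := by
      rcases (by omega : n ≤ 3 ∨ n = 4) with h' | h'
      · have := Nat.pow_le_pow_right (show 0 < 2 by norm_num) h'
        omega
      · exact h'
    have e := Subgroup.eq_of_le_of_card_ge (le_sup_left : S.E ≤ S.E ⊔ E2) (by rw [S.card, hn, hn4]; norm_num)
    exact heq (Subgroup.eq_of_le_of_card_ge (e ▸ le_sup_right) (by rw [S.card, hc2]))
  have hsix : ∀ K : Subgroup G, S.E ⊔ E2 ≤ K → K ≤ CX → z ∈ Subgroup.normalizer (K : Set G) → IsPGroup 2 K →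
      Nat.card K = 64 := by
    intro K hK hKC hzK hKp
    obtain ⟨n, hn⟩ := (IsPGroup.iff_card).1 hKp
    obtain ⟨m, hm⟩ := (IsPGroup.iff_card).1 ((hp _ S.card).to_sup_of_normal_right' (hp _ hc2) (hECX.trans hn2))
    have h5 := hlow m hm
    have hmn : 2 ^ m ∣ 2 ^ n := hm ▸ hn ▸ Subgroup.card_dvd_of_le hK
    have hmn' : m ≤ n := (Nat.pow_dvd_pow_iff_le_right (by norm_num : 1 < 2)).1 hmn
    have h7 : 2 ^ n ∣ 2688 := by
      rw [← hn, ← show Nat.card (Subgroup.centralizer ({t} : Set G)) = 2688 from D.toFrame.inv_cn hG S.ht]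
      exact Subgroup.card_dvd_of_le (hKC.trans hCH)
    have hn7 : n ≤ 7 := (Nat.pow_dvd_pow_iff_le_right (by norm_num : 1 < 2)).1
      (Nat.Coprime.dvd_of_dvd_mul_right (Nat.Coprime.pow_left n (by norm_num : Nat.Coprime 2 21))
        (show 2 ^ n ∣ 2 ^ 7 * 21 from h7))
    obtain ⟨hmod, -⟩ := hmodz K n (hXleE.trans (le_sup_left.trans hK)) hKC hzK hn
    rw [hn] at hmod ⊢
    have hn5 : 5 ≤ n := le_trans h5 hmn'
    interval_cases n <;> revert hmod <;> norm_num
  have hinvsup : ∀ (v : G) (A B : Subgroup G), v ∈ Subgroup.normalizer (A : Set G) →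
      v ∈ Subgroup.normalizer (B : Set G) → v ∈ Subgroup.normalizer ((A ⊔ B : Subgroup G) : Set G) := by
    intro v A B hA hB
    refine M22Ord.mem_normalizer_of_inv fun y hy => ?_
    have hmap : (A ⊔ B).map (MulAut.conj v).toMonoidHom ≤ A ⊔ B := by
      rw [Subgroup.map_sup]
      refine sup_le_sup ?_ ?_
      · rintro _ ⟨b, hb, rfl⟩; exact (Subgroup.mem_normalizer_iff.1 hA b).1 hb
      · rintro _ ⟨b, hb, rfl⟩; exact (Subgroup.mem_normalizer_iff.1 hB b).1 hb
    exact hmap ⟨y, hy, rfl⟩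
  have h12C : S.E ⊔ E2 ≤ CX := sup_le hECX hE2CX
  have hp12 : IsPGroup 2 (S.E ⊔ E2 : Subgroup G) :=
    (hp _ S.card).to_sup_of_normal_right' (hp _ hc2) (hECX.trans hn2)
  have hsup : E3 ≤ S.E ⊔ E2 := by
    have h123 : IsPGroup 2 ((S.E ⊔ E2) ⊔ E3 : Subgroup G) :=
      hp12.to_sup_of_normal_right' (hp _ hc3) (h12C.trans hn3)
    have e1 := hsix _ le_rfl h12C (hinvsup z _ _ hzCX hz2) hp12
    have e2 := hsix _ le_sup_left (sup_le h12C hE3CX) (hinvsup z _ _ (hinvsup z _ _ hzCX hz2) hz3') h123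
    exact le_sup_right.trans (Subgroup.eq_of_le_of_card_ge (le_sup_left : S.E ⊔ E2 ≤ (S.E ⊔ E2) ⊔ E3)
      (by rw [e1, e2])).ge
  -- elements outside the four-group
  obtain ⟨c₀, hc₀, hc₀X⟩ : ∃ c₀ ∈ E3, c₀ ∉ X := by
    by_contra h
    push Not at h
    have := Subgroup.card_dvd_of_le (show E3 ≤ X from h)
    rw [hc3, hXc] at this
    norm_num at this
  have hc₀' : c₀ ∈ (S.E : Set G) * (E2 : Set G) := by
    rw [← Subgroup.coe_mul_of_left_le_normalizer_right S.E E2 (hECX.trans hn2)]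
    exact hsup hc₀
  obtain ⟨a, ha, b, hb, rfl⟩ := Set.mem_mul.1 hc₀'
  have hE2sq : ∀ w ∈ E2, w * w = 1 := by
    rintro _ ⟨y, hy, rfl⟩; rw [← map_mul, S.sq y hy, map_one]
  have hE3sq : ∀ w ∈ E3, w * w = 1 := by
    rintro _ ⟨y, hy, rfl⟩; rw [← map_mul, hE2sq y hy, map_one]
  have haX : a ∉ X := fun h => hc₀X (by
    rw [← hmeet23]
    exact ⟨mul_mem (hXE2 h) hb, hc₀⟩)
  have hbX : b ∉ X := fun h => hc₀X (by
    have hm : a * b ∈ S.E ⊓ E3 := ⟨mul_mem ha (hXleE h), hc₀⟩
    have hE1 : E3.map φ = S.E := by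
      refine Subgroup.eq_of_le_of_card_ge ?_ (by
        rw [S.card, ← Nat.card_congr (E3.equivMapOfInjective φ hφinj).toEquiv, hc3])
      rintro _ ⟨_, ⟨_, ⟨y, hy, rfl⟩, rfl⟩, rfl⟩
      rw [hφ3]; exact hy
    have h31 : E3 ⊓ S.E = X := by
      rw [← hE1]
      nth_rewrite 1 [hE3]
      rw [← Subgroup.map_inf _ _ _ hφinj, hmeet23, hXφ]
    rw [← h31]
    exact ⟨hm.2, hm.1⟩)
  set a' := z * a * z⁻¹ with ha'
  set b' := z * b * z⁻¹ with hb'
  have ha'E : a' ∈ S.E := (Subgroup.mem_normalizer_iff.1 hzCX a).1 ha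
  have hb'E : b' ∈ E2 := (Subgroup.mem_normalizer_iff.1 hz2 b).1 hb
  have hc'E : a' * b' ∈ E3 := by
    rw [show a' * b' = z * (a * b) * z⁻¹ by rw [ha', hb']; group]
    exact (Subgroup.mem_normalizer_iff.1 hz3' _).1 hc₀
  have hnew : ∀ (K : Subgroup G), X ≤ K → K ≤ CX → (∃ n, Nat.card K = 2 ^ n) →
      z ∈ Subgroup.normalizer (K : Set G) → (∀ w ∈ K, w * w = 1) → ∀ w ∈ K, w ∉ X →
      z * w * z⁻¹ ∉ X ∧ w * (z * w * z⁻¹) ∉ X := by
    rintro K hXK hKC ⟨n, hn⟩ hzK hsq w hw hwX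
    obtain ⟨-, hfix⟩ := hmodz K n hXK hKC hzK hn
    have hwz : z * w * z⁻¹ ∈ K := (Subgroup.mem_normalizer_iff.1 hzK w).1 hw
    have hxz : ∀ x ∈ X, z * x * z⁻¹ = x := fun x hx => by
      rw [(Subgroup.mem_centralizer_singleton_iff.1 hx.2).symm, mul_inv_cancel_right]
    refine ⟨fun h => hwX ?_, fun h => ?_⟩
    · have e := hxz _ h
      rw [mul_inv_eq_iff_eq_mul] at e
      have : z * w * z⁻¹ = w := by
        have e2 : z * (z * w * z⁻¹) = (z * w * z⁻¹) * z := e
        calc z * w * z⁻¹ = z⁻¹ * (z * (z * w * z⁻¹)) := by group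
          _ = z⁻¹ * ((z * w * z⁻¹) * z) := by rw [e2]
          _ = w := by group
      exact this ▸ h
    · have hcw : w * (z * w * z⁻¹) = z * w * z⁻¹ * w := M22Ord.comm_of_sq hsq hw hwz
      set x := w * (z * w * z⁻¹) with hx
      have ew : z * w * z⁻¹ = w * x := by rw [hx, ← mul_assoc, hsq w hw, one_mul]
      have hxw : x * x = 1 := hsq x (hXK h)
      have e3 : z ^ 3 * w * (z ^ 3)⁻¹ = w * (x * x * x) := by
        rw [show z ^ 3 * w * (z ^ 3)⁻¹ = z * (z * (z * w * z⁻¹) * z⁻¹) * z⁻¹ by simp [pow_succ]; group, ew,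
          show z * (z * (w * x) * z⁻¹) * z⁻¹ = z * ((z * w * z⁻¹) * (z * x * z⁻¹)) * z⁻¹ by group, ew, hxz x h,
          show z * (w * x * x) * z⁻¹ = (z * w * z⁻¹) * (z * x * z⁻¹) * (z * x * z⁻¹) by group, ew, hxz x h]
        group
      rw [hz3, one_mul, inv_one, mul_one, hxw, one_mul] at e3
      have hx1 : x = 1 := mul_eq_left.1 e3.symm
      rw [hx1, mul_one] at ew
      exact hwX (hfix w hw (mul_inv_eq_iff_eq_mul.1 ew).symm)
  obtain ⟨ha'X, haa'X⟩ := hnew S.E hXleE hECX ⟨4, by rw [S.card]; norm_num⟩ hzCX S.sq a ha haX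
  obtain ⟨hb'X, hbb'X⟩ := hnew E2 hXE2 hE2CX ⟨4, by rw [hc2]; norm_num⟩ hz2 hE2sq b hb hbX
  obtain ⟨hc'X, hcc'X⟩ := hnew E3 hXE3 hE3CX ⟨4, by rw [hc3]; norm_num⟩ hz3' hE3sq (a * b) hc₀ hc₀X
  rw [show z * (a * b) * z⁻¹ = a' * b' by rw [ha', hb']; group] at hc'X hcc'X
  have hab : a * b = b * a := by
    have h := eq_inv_of_mul_eq_one_left (hE3sq _ hc₀)
    rwa [mul_inv_rev, inv_eq_of_mul_eq_one_left (S.sq a ha), inv_eq_of_mul_eq_one_left (hE2sq b hb)] at h
  have hab' : a' * b' = b' * a' := by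
    rw [ha', hb', show z * a * z⁻¹ * (z * b * z⁻¹) = z * (a * b) * z⁻¹ by group,
      show z * b * z⁻¹ * (z * a * z⁻¹) = z * (b * a) * z⁻¹ by group, hab]
  have hXcent : ∀ w ∈ CX, ∀ p ∈ X, Commute w p := fun w hw p hp =>
    (Subgroup.mem_centralizer_iff.1 hw p hp).symm
  set x := b * a' * b⁻¹ * a'⁻¹ with hx
  have hxX : x ∈ X := by
    rw [← hmeet]
    refine Subgroup.mem_inf.2 ⟨mul_mem ?_ (inv_mem ha'E), ?_⟩
    · exact (Subgroup.mem_normalizer_iff.1 (hE2CX.trans hnE hb) a').1 ha'E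
    · rw [hx, show b * a' * b⁻¹ * a'⁻¹ = b * (a' * b⁻¹ * a'⁻¹) by group]
      exact mul_mem hb ((Subgroup.mem_normalizer_iff.1 (hECX.trans hn2 ha'E) b⁻¹).1 (inv_mem hb))
  have hba' : b * a' = x * (a' * b) := by rw [hx]; group
  have hb'a : b' * a = x * (a * b') := by
    have h := M22Ord.comm_of_sq hE3sq hc₀ hc'E
    have haa := M22Ord.comm_of_sq S.sq ha ha'E
    have hbb := M22Ord.comm_of_sq hE2sq hb hb'E
    have e1 : a * b * (a' * b') = a * a' * x * (b * b') := by
      rw [mul_assoc a b, ← mul_assoc b a' b', hba', show x * (a' * b) * b' = x * a' * b * b' by group,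
        ← (hXcent a' (hECX ha'E) x hxX).eq]
      group
    have e2 : a' * b' * (a * b) = a' * (b' * a) * b := by group
    rw [e1, e2] at h
    calc b' * a = a'⁻¹ * (a' * (b' * a) * b) * b⁻¹ := by group
      _ = a'⁻¹ * (a * a' * x * (b * b')) * b⁻¹ := by rw [h]
      _ = a'⁻¹ * (a' * a * x * (b' * b)) * b⁻¹ := by rw [haa, hbb]
      _ = a * x * b' := by group
      _ = x * (a * b') := by rw [(hXcent a (hECX ha) x hxX).eq]; group
  set K := Subgroup.zpowers x with hK
  have hKX : K ≤ X := Subgroup.zpowers_le.2 hxX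
  have hKc : ∀ w ∈ CX, ∀ p ∈ K, Commute w p := fun w hw p hp => hXcent w hw p (hKX hp)
  have hxK : x ∈ K := Subgroup.mem_zpowers x
  have hC : ∀ w ∈ E2, w ∈ CX := fun w hw => hE2CX hw
  have hC3 : ∀ w ∈ E3, w ∈ CX := fun w hw => hE3CX hw
  have rba : CommUpTo K b a := .of_comm hab.symm
  have rbb : CommUpTo K b b := .of_comm rfl
  have rba' : CommUpTo K b a' := ⟨x, hxK, hba'⟩
  have rbb' : CommUpTo K b b' := .of_comm (M22Ord.comm_of_sq hE2sq hb hb'E)
  have rb'a : CommUpTo K b' a := ⟨x, hxK, hb'a⟩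
  have rb'a' : CommUpTo K b' a' := .of_comm hab'.symm
  have rb'b' : CommUpTo K b' b' := .of_comm rfl
  have hrel : ∀ u ∈ E2, ∀ w ∈ E3, CommUpTo K u w := by
    intro u hu w hw
    have hgen : ∀ w' ∈ CX, CommUpTo K b w' → CommUpTo K b' w' → CommUpTo K u w' := by
      intro w' hw' h1 h2
      obtain ⟨k, hk, h⟩ := cover_four hE2sq hc2 hXc hXE2 hb hb'E hbX hb'X hbb'X u hu
      have hk' : CommUpTo K k w' := .of_comm (hXcent w' hw' k hk).eq.symm
      have hkc := hKc k (hECX (hXleE hk))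
      rcases h with rfl | rfl | rfl | rfl
      · exact hk'
      · exact hk'.mul_left hkc h1
      · exact hk'.mul_left hkc h2
      · exact hk'.mul_left hkc (h1.mul_left (hKc b (hC b hb)) h2)
    obtain ⟨k, hk, h⟩ := cover_four hE3sq hc3 hXc hXE3 hc₀ hc'E hc₀X hc'X hcc'X w hw
    have hk' : CommUpTo K k u := .of_comm (hXcent u (hC u hu) k hk).eq.symm
    have hkc := hKc k (hECX (hXleE hk))
    have hua : ∀ y ∈ CX, ∀ y' , CommUpTo K y u → CommUpTo K y' u → CommUpTo K (y * y') u := fun y hy _ h h' =>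
      h.mul_left (hKc y hy) h'
    have ha1 : CommUpTo K a u := (hgen a (hECX ha) rba rb'a).symm
    have hb1 : CommUpTo K b u := (hgen b (hC b hb) rbb rbb'.symm).symm
    have ha2 : CommUpTo K a' u := (hgen a' (hECX ha'E) rba' rb'a').symm
    have hb2 : CommUpTo K b' u := (hgen b' (hC b' hb'E) rbb' rb'b').symm
    have h1 := hua a (hECX ha) b ha1 hb1
    have h2 := hua a' (hECX ha'E) b' ha2 hb2
    rcases h with rfl | rfl | rfl | rfl
    · exact hk'.symm
    · exact (hua k (hECX (hXleE hk)) _ hk' h1).symm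
    · exact (hua k (hECX (hXleE hk)) _ hk' h2).symm
    · exact (hua k (hECX (hXleE hk)) _ hk' (hua _ (hC3 _ hc₀) _ h1 h2)).symm
  have hgx : φ x ∈ K := by
    obtain ⟨p, hp, he⟩ := (hrel (φ a') ⟨a', ha'E, rfl⟩ (φ b) ⟨b, hb, rfl⟩).symm
    rw [← map_mul, hba', ← map_mul φ a' b, map_mul φ x (a' * b)] at he
    exact mul_right_cancel he ▸ hp
  have hx1 : x = 1 := by
    by_contra hne
    have hxx := S.sq x (hXleE hxX)
    have hKel : ∀ y ∈ K, y = 1 ∨ y = x := by
      intro y hy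
      obtain ⟨n, hn⟩ := mem_powers_iff_mem_zpowers.2 hy
      change x ^ n = y at hn
      rcases Nat.even_or_odd n with ⟨j, rfl⟩ | ⟨j, rfl⟩
      · exact Or.inl (by rw [← hn, ← two_mul, pow_mul, pow_two, hxx, one_pow])
      · exact Or.inr (by rw [← hn, pow_succ, pow_mul, pow_two, hxx, one_pow, one_mul])
    rcases hKel _ hgx with e | e
    · exact hne (hφinj (e.trans (map_one φ).symm))
    · rw [hφa] at e
      rcases hXelts x hxX with rfl' | h | h | h
      · exact hne rfl'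
      · rw [h, hgt] at e; exact hst e
      · rw [h, hgs] at e; exact hsts e
      · rw [h, show g * (s * t) * g⁻¹ = g * s * g⁻¹ * (g * t * g⁻¹) by group, hgs, hgt] at e
        rw [mul_assoc, hts] at e
        exact hs1 (mul_eq_right.1 e)
  rw [hx1, one_mul] at hba' hb'a
  -- `b` would centralize the subgroup of order sixteen
  have hbE : b ∈ S.E := by
    rw [← S.cen, Subgroup.mem_centralizer_iff]
    intro e he
    have hxb : ∀ k ∈ X, Commute k b := fun k hk => (hXcent b (hC b hb) k hk).symm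
    obtain ⟨k, hk, h⟩ := cover_four S.sq S.card hXc hXleE ha ha'E haX ha'X haa'X e he
    rcases h with rfl | rfl | rfl | rfl
    · exact (hxb _ hk).eq
    · exact ((hxb _ hk).mul_left hab).eq
    · exact ((hxb _ hk).mul_left hba'.symm).eq
    · exact ((hxb _ hk).mul_left (Commute.mul_left hab hba'.symm)).eq
  exact hbX (hmeet ▸ ⟨hbE, hb⟩)

end Classes

end Cfsg.Agent.Invol.M23Ord
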