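import Mathlib
import Cfsg.Agent.Lib.Invol.Order10200960.FusionSixteen
import Cfsg.Agent.S0984

/-!
Simple groups of order 10200960: the normalizer of the elementary subgroup of order sixteen has order 40320, acts
transitively on its involutions, and its quotient is the alternating group of degree seven.
-/

set_option autoImplicit false
set_option linter.style.haveILetI false
set_option linter.unusedSectionVars false

namespace Cfsg.Agent.Invol.M23Ord

open scoped ComplexConjugate
open Cfsg Cfsg.Agent.Block Cfsg.Agent.Char Cfsg.Agent.Invol.M12Ord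
open Cfsg.Agent.Invol.M22Ord (conjSet mem_conjSet card_conjSet conjSet_closed self_mem_conjSet)

universe u

variable {G : Type u} [Group G] [Finite G]

/-- The subgroup of order sixteen, its normalizer, and the map onto the alternating group of degree seven. -/
structure Block16 (G : Type u) [Group G] [Finite G] where
  t : G
  S : Sixteen t
  N : Subgroup G
  hN : N = Subgroup.normalizer (S.E : Set G)
  card : Nat.card N = 40320
  trans : ∀ y ∈ S.E, y ≠ 1 → ∃ n ∈ N, n * t * n⁻¹ = y
  φ : N →* alternatingGroup (Fin 7)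
  surj : Function.Surjective φ
  ker : φ.ker = S.E.subgroupOf N

variable [IsSimpleGroup G]
variable [Fact (Nat.Prime 5)] [Fact (Nat.Prime 7)] [Fact (Nat.Prime 11)] [Fact (Nat.Prime 23)]

namespace Classes

variable (C : Classes G) (D : Data G)

include C D in
theorem exists_block16 (hG : Nat.card G = 10200960) : Nonempty (Block16 G) := by
  classical
  haveI : Fact (Nat.Prime 2) := ⟨Nat.prime_two⟩
  haveI := Fintype.ofFinite G
  have ht : orderOf C.toReps.t = 2 := C.ht
  set t := C.toReps.t with htdef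
  obtain ⟨S⟩ := C.exists_sixteen D hG ht
  obtain ⟨M⟩ := C.exists_mover D hG S
  obtain ⟨u, z, hu, -, hut, -⟩ := C.exists_partners D hG ht
  set H := Subgroup.centralizer ({t} : Set G) with hH
  set N := Subgroup.normalizer (S.E : Set G) with hN
  have hHc : Nat.card H = 2688 := D.toFrame.inv_cn hG ht
  have htH : t ∈ H := Subgroup.mem_centralizer_singleton_iff.2 rfl
  have huH : u ∈ H := Subgroup.mem_centralizer_singleton_iff.2 hut.eq
  have hEN : S.E ≤ N := Subgroup.le_normalizer
  have ht1 : t ≠ 1 := ne_one_of_orderOf ht (by norm_num)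
  have ht2 : t * t = 1 := S.sq t S.t_mem
  have hcomm : ∀ a ∈ S.E, ∀ b ∈ S.E, Commute a b := fun a ha b hb => M22Ord.comm_of_sq S.sq ha hb
  have hst1 : M.s * t ≠ 1 := fun e => M.s_t (by rw [eq_inv_of_mul_eq_one_left e, inv_eq_of_mul_eq_one_left ht2])
  have hstt : M.s * t ≠ t := fun e => M.s_one (mul_eq_right.1 e)
  -- a set closed under `H` with a second element contains a whole orbit of seven
  have hcov : ∀ w ∈ S.E, w ≠ 1 → w ≠ t → ∃ n ∈ N, n * t * n⁻¹ = w := by
    intro w hw hw1 hwt
    obtain ⟨i, h | h⟩ := S.split u hu hut M.s M.s_mem M.s_one M.s_t w hw hw1 hwt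
    · exact ⟨u ^ i * M.g, mul_mem (pow_mem (S.norm huH) i) M.g_norm, by
        rw [h, ← M.g_t]; group⟩
    · refine ⟨u ^ i * (M.g * M.g), mul_mem (pow_mem (S.norm huH) i) (mul_mem M.g_norm M.g_norm), ?_⟩
      rw [show u ^ i * (M.g * M.g) * t * (u ^ i * (M.g * M.g))⁻¹ = u ^ i * (M.g * (M.g * t * M.g⁻¹) * M.g⁻¹) *
        (u ^ i)⁻¹ by group, M.g_t, M.g_s, h]
      calc u ^ i * (M.s * t) * (u ^ i)⁻¹ = u ^ i * M.s * (u ^ i)⁻¹ * (u ^ i * t * (u ^ i)⁻¹) := by group
        _ = u ^ i * M.s * (u ^ i)⁻¹ * t := by rw [(hut.pow_left i).eq, mul_inv_cancel_right]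
  have horb : conjSet N t = Finset.univ.filter fun y => y ∈ S.E ∧ y ≠ 1 := by
    ext y
    simp only [mem_conjSet, Finset.mem_filter, Finset.mem_univ, true_and]
    constructor
    · rintro ⟨n, hn, rfl⟩
      exact ⟨(Subgroup.mem_normalizer_iff.1 hn t).1 S.t_mem, fun h => ht1 (conj_eq_one_iff.1 h)⟩
    · rintro ⟨hy, hy1⟩
      by_cases hyt : y = t
      · exact ⟨1, one_mem _, by rw [hyt]; group⟩
      · exact hcov y hy hy1 hyt
  have h15 : (Finset.univ.filter fun y => y ∈ S.E ∧ y ≠ 1).card = 15 := by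
    rw [← Finset.filter_filter, Finset.filter_ne', Finset.card_erase_of_mem (by simp [one_mem]),
      ← Fintype.card_subtype, ← Nat.card_eq_fintype_card, S.card]
  have hNc : Nat.card N = 40320 := by
    rw [card_conjSet N t, horb, h15, inf_eq_right.2 S.norm, hHc]
  -- normal subgroups between
  have hnormal : ∀ L : Subgroup G, S.E ≤ L → L ≤ N → N ≤ Subgroup.normalizer (L : Set G) → L = S.E ∨ L = N := by
    intro L hEL hLN hnL
    set O := conjSet L t with hO
    have hOsub : O ⊆ Finset.univ.filter fun y => y ∈ S.E ∧ y ≠ 1 := fun y hy => by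
      obtain ⟨n, hn, rfl⟩ := mem_conjSet.1 hy
      rw [← horb]
      exact mem_conjSet.2 ⟨n, hLN hn, rfl⟩
    have hclosed : ∀ h ∈ H, ∀ y ∈ O, h * y * h⁻¹ ∈ O := by
      intro h hh y hy
      obtain ⟨n, hn, rfl⟩ := mem_conjSet.1 hy
      refine mem_conjSet.2 ⟨h * n * h⁻¹, (Subgroup.mem_normalizer_iff.1 (hnL (S.norm hh)) n).1 hn, ?_⟩
      have hht : h⁻¹ * t * h = t := by
        rw [mul_assoc, ← (Subgroup.mem_centralizer_singleton_iff.1 hh), inv_mul_cancel_left]
      calc h * n * h⁻¹ * t * (h * n * h⁻¹)⁻¹ = h * (n * (h⁻¹ * t * h) * n⁻¹) * h⁻¹ := by group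
        _ = h * (n * t * n⁻¹) * h⁻¹ := by rw [hht]
    -- an orbit other than the point is everything
    have hbig : ∀ y ∈ O, y ≠ t → O.card = 15 := by
      intro y hy hyt
      obtain ⟨hyE, hy1⟩ := (Finset.mem_filter.1 (hOsub hy)).2
      have hstO : M.s ∈ O → M.s * t ∈ O → O.card = 15 := by
        intro h1 h2
        rw [← h15]
        refine congrArg Finset.card (Finset.Subset.antisymm hOsub fun w hw => ?_)
        obtain ⟨hwE, hw1⟩ := (Finset.mem_filter.1 hw).2
        by_cases hwt : w = t
        · exact hwt ▸ self_mem_conjSet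
        · obtain ⟨i, h | h⟩ := S.split u hu hut M.s M.s_mem M.s_one M.s_t w hwE hw1 hwt
          · exact h ▸ hclosed _ (pow_mem huH i) _ h1
          · rw [h, show u ^ i * M.s * (u ^ i)⁻¹ * t = u ^ i * (M.s * t) * (u ^ i)⁻¹ by
              rw [show u ^ i * (M.s * t) * (u ^ i)⁻¹ = u ^ i * M.s * (u ^ i)⁻¹ * (u ^ i * t * (u ^ i)⁻¹) by group,
                (hut.pow_left i).eq, mul_inv_cancel_right]]
            exact hclosed _ (pow_mem huH i) _ h2
      -- the orbit meets one of `s`, `s * t`; the mover brings in the other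
      have hsome : M.s ∈ O ∨ M.s * t ∈ O := by
        obtain ⟨i, h | h⟩ := S.split u hu hut y hyE hy1 hyt M.s M.s_mem M.s_one M.s_t
        · exact Or.inl (h ▸ hclosed _ (pow_mem huH i) _ hy)
        · refine Or.inr ?_
          rw [h, mul_assoc _ t t, ht2, mul_one]
          exact hclosed _ (pow_mem huH i) _ hy
      have hgO : ∀ w ∈ O, M.g * w * M.g⁻¹ ∈ conjSet L M.s := by
        intro w hw
        obtain ⟨n, hn, rfl⟩ := mem_conjSet.1 hw
        refine mem_conjSet.2 ⟨M.g * n * M.g⁻¹, (Subgroup.mem_normalizer_iff.1 (hnL M.g_norm) n).1 hn, ?_⟩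
        rw [← M.g_t]; group
      have hgi : ∀ w ∈ O, M.g⁻¹ * w * M.g ∈ conjSet L (M.g⁻¹ * t * M.g) := by
        intro w hw
        obtain ⟨n, hn, rfl⟩ := mem_conjSet.1 hw
        refine mem_conjSet.2 ⟨M.g⁻¹ * n * M.g,
          (Subgroup.mem_normalizer_iff''.1 (hnL M.g_norm) n).1 hn, ?_⟩
        group
      rcases hsome with h1 | h2
      · refine hstO h1 ?_
        have h := hgO _ h1
        rw [M.g_s] at h
        obtain ⟨n, hn, hne⟩ := mem_conjSet.1 h
        obtain ⟨m, hm, hme⟩ := mem_conjSet.1 h1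
        exact mem_conjSet.2 ⟨n * m, mul_mem hn hm, by rw [← hne, ← hme]; group⟩
      · refine hstO ?_ h2
        have hgt : M.g⁻¹ * t * M.g = M.s * t := by
          have e : M.g * (M.s * t) * M.g⁻¹ = t := by
            rw [show M.g * (M.s * t) * M.g⁻¹ = M.g * M.s * M.g⁻¹ * (M.g * t * M.g⁻¹) by group, M.g_s, M.g_t,
              mul_assoc, (hcomm t S.t_mem M.s M.s_mem).eq, ← mul_assoc, S.sq M.s M.s_mem, one_mul]
          exact (congrArg (fun w => M.g⁻¹ * w * M.g) e.symm).trans (by group)
        have h := hgi _ h2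
        rw [hgt, show M.g⁻¹ * (M.s * t) * M.g = M.s by rw [← M.g_s]; group] at h
        obtain ⟨n, hn, hne⟩ := mem_conjSet.1 h
        obtain ⟨m, hm, hme⟩ := mem_conjSet.1 h2
        exact mem_conjSet.2 ⟨n * m, mul_mem hn hm, by rw [← hne, ← hme]; group⟩
    have hcard := card_conjSet L t
    have hOc : O.card = 1 ∨ O.card = 15 := by
      by_cases h : ∃ y ∈ O, y ≠ t
      · obtain ⟨y, hy, hyt⟩ := h
        exact Or.inr (hbig y hy hyt)
      · push Not at h
        refine Or.inl (Finset.card_eq_one.2 ⟨t, Finset.eq_singleton_iff_unique_mem.2 ⟨self_mem_conjSet, h⟩⟩)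
    rcases S.cases (L ⊓ H) (le_inf hEL S.le) inf_le_right (fun h hh => M22Ord.mem_normalizer_of_inv
      ((M22Ord.inv_normalizer (hnL (S.norm hh))).inf (M22Ord.inv_normalizer (Subgroup.le_normalizer hh)))) with
      hLH | hLH
    · rw [hLH, S.card, ← hO] at hcard
      rcases hOc with h | h <;> rw [h] at hcard
      · exact Or.inl (Subgroup.eq_of_le_of_card_ge hEL (by rw [hcard, S.card])).symm
      exfalso
      -- a subgroup of order five normalized by an element of order seven
      obtain ⟨P⟩ : Nonempty (Sylow 5 L) := inferInstance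
      have hP : Nat.card (P : Subgroup L) = 5 := by
        rw [P.card_eq_multiplicity, hcard, show (15 * 16 : ℕ) = 5 ^ 1 * 48 by norm_num,
          Nat.factorization_mul (by norm_num) (by norm_num), Finsupp.add_apply,
          (show Nat.Prime 5 by norm_num).factorization_pow, Finsupp.single_eq_same,
          Nat.factorization_eq_zero_of_not_dvd (by norm_num : ¬ 5 ∣ 48)]
        norm_num
      set P' := (P : Subgroup L).map L.subtype with hP'
      have hP'c : Nat.card P' = 5 := by
        rw [hP', ← Nat.card_congr ((P : Subgroup L).equivMapOfInjective _ L.subtype_injective).toEquiv, hP]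
      have hfr : ∀ n ∈ N, ∃ l ∈ L, l * n ∈ Subgroup.normalizer (P' : Set G) := by
        intro n hn
        haveI : (L.subgroupOf N).Normal := (Subgroup.normal_subgroupOf_iff_le_normalizer hLN).2 hnL
        let Q : Sylow 5 (L.subgroupOf N) := P.comapOfInjective (Subgroup.subgroupOfEquivOfLe hLN).toMonoidHom
          (Subgroup.subgroupOfEquivOfLe hLN).injective (by simp)
        have htop := Sylow.normalizer_sup_eq_top Q
        have hm : (⟨n, hn⟩ : N) ∈ L.subgroupOf N ⊔
            Subgroup.normalizer (((Q : Subgroup (L.subgroupOf N)).map (L.subgroupOf N).subtype : Subgroup N) : Set N) := by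
          rw [sup_comm]; exact htop ▸ Subgroup.mem_top _
        obtain ⟨l, hl, m, hm, hlm⟩ := Subgroup.mem_sup_of_normal_left.1 hm
        refine ⟨(l : G)⁻¹, inv_mem hl, ?_⟩
        rw [show (l : G)⁻¹ * n = (m : G) by
          rw [show n = ((l * m : N) : G) from (congrArg Subtype.val hlm).symm]; simp]
        have hmap : (((Q : Subgroup (L.subgroupOf N)).map (L.subgroupOf N).subtype : Subgroup N)).map N.subtype = P' := by
          ext x
          constructor
          · rintro ⟨_, ⟨⟨⟨y, hyN⟩, hyL⟩, hy, rfl⟩, rfl⟩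
            exact ⟨⟨y, hyL⟩, hy, rfl⟩
          · rintro ⟨⟨y, hyL⟩, hy, rfl⟩
            exact ⟨⟨y, hLN hyL⟩, ⟨⟨⟨y, hLN hyL⟩, hyL⟩, hy, rfl⟩, rfl⟩
        rw [← hmap]
        exact Subgroup.le_normalizer_map N.subtype ⟨m, hm, rfl⟩
      obtain ⟨v, hv, hvP⟩ : ∃ v, orderOf v = 7 ∧ v ∈ Subgroup.normalizer (P' : Set G) := by
        set R := Subgroup.normalizer (P' : Set G) ⊓ N with hR
        have h7 : 7 ∣ Nat.card R := by
          have hsup : N ≤ L ⊔ R := fun n hn => by
            obtain ⟨l, hl, hln⟩ := hfr n hn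
            rw [show n = l⁻¹ * (l * n) by group]
            exact Subgroup.mul_mem_sup (inv_mem hl) ⟨hln, mul_mem (hLN hl) hn⟩
          haveI : (L.subgroupOf N).Normal := (Subgroup.normal_subgroupOf_iff_le_normalizer hLN).2 hnL
          have hidx : (L.subgroupOf N).index = (L.subgroupOf N).relIndex (R.subgroupOf N) := by
            rw [← Subgroup.relIndex_top_right, ← Subgroup.relIndex_sup_right (H := R.subgroupOf N)]
            congr 1
            rw [← Subgroup.subgroupOf_sup inf_le_right hLN, eq_comm, Subgroup.subgroupOf_eq_top]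
            exact hsup.trans (le_of_eq (sup_comm L R))
          have hd : (L.subgroupOf N).relIndex (R.subgroupOf N) ∣ Nat.card (R.subgroupOf N) :=
            Subgroup.index_dvd_card _
          have h := Subgroup.card_mul_index (L.subgroupOf N)
          rw [Nat.card_congr (Subgroup.subgroupOfEquivOfLe hLN).toEquiv, hcard, hNc] at h
          rw [← hidx, show (L.subgroupOf N).index = 168 by omega,
            Nat.card_congr (Subgroup.subgroupOfEquivOfLe inf_le_right).toEquiv] at hd
          exact dvd_trans (by norm_num) hd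
        obtain ⟨v, hv⟩ := exists_prime_orderOf_dvd_card' (G := R) 7 h7
        exact ⟨v, by rw [Subgroup.orderOf_coe, hv], v.2.1⟩
      have hfix := fixed_mod_sub (p := 7) (by rw [← hv]; exact pow_orderOf_eq_one v) hvP
      rw [hP'c] at hfix
      have hd := Subgroup.card_dvd_of_le (inf_le_right : P' ⊓ Subgroup.centralizer ({v} : Set G) ≤ _)
      have hd' := Subgroup.card_dvd_of_le (inf_le_left : P' ⊓ Subgroup.centralizer ({v} : Set G) ≤ _)
      rw [hP'c, Nat.dvd_prime (by norm_num)] at hd'
      rw [show Nat.card (Subgroup.centralizer ({v} : Set G)) = 14 from D.cn_seven hG hv] at hd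
      rcases hd' with e | e <;> rw [e] at hfix hd
      · norm_num at hfix
      · norm_num at hd
    · refine Or.inr ?_
      rw [hLH, hHc, ← hO] at hcard
      rcases hOc with h | h <;> rw [h] at hcard
      · exfalso
        have hHL : H ≤ L := (le_of_eq hLH.symm).trans inf_le_left
        have hLH' : H = L := Subgroup.eq_of_le_of_card_ge hHL (by rw [hcard, hHc])
        have hs : M.g * t * M.g⁻¹ ∈ L := (Subgroup.mem_normalizer_iff.1 (hnL M.g_norm) t).1 (hHL htH)
        have hg' : M.g⁻¹ * u * M.g ∈ H := by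
          rw [hLH']; exact (Subgroup.mem_normalizer_iff''.1 (hnL M.g_norm) u).1 (hHL huH)
        have hc : Commute u M.s := by
          have hc' : Commute (M.g⁻¹ * u * M.g) t := Subgroup.mem_centralizer_singleton_iff.1 hg'
          have h := hc'.map (MulAut.conj M.g).toMonoidHom
          simp only [MulEquiv.coe_toMonoidHom, MulAut.conj_apply] at h
          rwa [M.g_t, show M.g * (M.g⁻¹ * u * M.g) * M.g⁻¹ = u by group] at h
        rcases D.inv_unique hG hu ht hut hc.symm (by rw [pow_two]; exact S.sq _ M.s_mem) with e | e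
        · exact M.s_one e
        · exact M.s_t e
      · exact Subgroup.eq_of_le_of_card_ge hLN (by rw [hcard, hNc])
  haveI hEn : (S.E.subgroupOf N).Normal := (Subgroup.normal_subgroupOf_iff_le_normalizer hEN).2 le_rfl
  have hqc : Nat.card (N ⧸ S.E.subgroupOf N) = 2520 := by
    have h := Subgroup.card_eq_card_quotient_mul_card_subgroup (S.E.subgroupOf N)
    rw [Nat.card_congr (Subgroup.subgroupOfEquivOfLe hEN).toEquiv, S.card, hNc] at h
    omega
  haveI : Nontrivial (N ⧸ S.E.subgroupOf N) := Finite.one_lt_card_iff_nontrivial.1 (by omega)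
  haveI : IsSimpleGroup (N ⧸ S.E.subgroupOf N) := ⟨fun K hK => by
    set K' := K.comap (QuotientGroup.mk' (S.E.subgroupOf N)) with hK'
    haveI : K'.Normal := hK.comap _
    have hle : S.E.subgroupOf N ≤ K' := fun x hx => by
      show QuotientGroup.mk' _ x ∈ K
      rw [QuotientGroup.mk'_apply, (QuotientGroup.eq_one_iff _).2 hx]
      exact one_mem K
    rcases hnormal (K'.map N.subtype)
        (fun x hx => ⟨⟨x, hEN hx⟩, hle (Subgroup.mem_subgroupOf.2 hx), rfl⟩) (Subgroup.map_subtype_le _)
        ((Subgroup.normal_subgroupOf_iff_le_normalizer (Subgroup.map_subtype_le _)).1 (by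
          show ((K'.map N.subtype).comap N.subtype).Normal
          rw [Subgroup.comap_map_eq_self_of_injective N.subtype_injective]
          infer_instance)) with h | h
    · refine Or.inl ((Subgroup.eq_bot_iff_forall K).2 fun q hq => ?_)
      obtain ⟨y, rfl⟩ := QuotientGroup.mk'_surjective _ q
      exact (QuotientGroup.eq_one_iff _).2
        (Subgroup.mem_subgroupOf.2 ((SetLike.ext_iff.1 h (y : G)).1 ⟨y, hq, rfl⟩))
    · refine Or.inr ((Subgroup.eq_top_iff' K).2 fun q => ?_)
      obtain ⟨y, rfl⟩ := QuotientGroup.mk'_surjective _ q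
      obtain ⟨y', hy', hye⟩ := (SetLike.ext_iff.1 h (y : G)).2 y.2
      exact N.subtype_injective hye ▸ hy'⟩
  obtain ⟨e⟩ := S0984.result hqc
  refine ⟨⟨t, S, N, rfl, hNc, fun y hy hy1 => ?_, e.toMonoidHom.comp (QuotientGroup.mk' (S.E.subgroupOf N)),
    e.surjective.comp (QuotientGroup.mk'_surjective _), ?_⟩⟩
  · exact mem_conjSet.1 (horb ▸ Finset.mem_filter.2 ⟨Finset.mem_univ _, hy, hy1⟩)
  · ext x
    rw [MonoidHom.mem_ker, MonoidHom.comp_apply, MulEquiv.coe_toMonoidHom, EmbeddingLike.map_eq_one_iff,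
      QuotientGroup.mk'_apply, QuotientGroup.eq_one_iff]

end Classes

end Cfsg.Agent.Invol.M23Ord
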