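import Mathlib

/-!
The normalizer of a subgroup of order nine in the alternating group of degree seven, and element orders in the
symmetric group of degree seven.
-/

set_option autoImplicit false
set_option linter.style.haveILetI false

namespace Cfsg.Agent.Invol.M23Ord.Seven

open Equiv

/-- The cycle on `1, 2, 3`. -/
def pa : Perm (Fin 7) :=
  ⟨![0, 2, 3, 1, 4, 5, 6], ![0, 3, 1, 2, 4, 5, 6], by decide, by decide⟩

/-- The cycle on `4, 5, 6`. -/
def pb : Perm (Fin 7) :=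
  ⟨![0, 1, 2, 3, 5, 6, 4], ![0, 1, 2, 3, 6, 4, 5], by decide, by decide⟩

/-- An element of order four normalizing the two cycles. -/
def ph : Perm (Fin 7) :=
  ⟨![0, 4, 5, 6, 2, 1, 3], ![0, 5, 4, 6, 1, 2, 3], by decide, by decide⟩

/-- The nine products. -/
def el (i j : Fin 3) : Perm (Fin 7) := pa ^ (i : ℕ) * pb ^ (j : ℕ)

/-- The subgroup of order nine. -/
def P0 : Subgroup (Perm (Fin 7)) where
  carrier := {p | ∃ i j, el i j = p}
  one_mem' := ⟨0, 0, rfl⟩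
  mul_mem' := by
    rintro _ _ ⟨i, j, rfl⟩ ⟨k, l, rfl⟩
    exact ⟨i + k, j + l, (by decide +kernel : ∀ i j k l : Fin 3, el (i + k) (j + l) = el i j * el k l) i j k l⟩
  inv_mem' := by
    rintro _ ⟨i, j, rfl⟩
    refine ⟨-i, -j, eq_inv_of_mul_eq_one_left ?_⟩
    exact (by decide +kernel : ∀ i j : Fin 3, el (-i) (-j) * el i j = 1) i j

theorem el_inj : ∀ i j k l : Fin 3, el i j = el k l → i = k ∧ j = l := by decide +kernel

theorem sign_el : ∀ i j : Fin 3, Perm.sign (el i j) = 1 := by decide +kernel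

theorem sign_ph : Perm.sign ph = 1 := by decide +kernel

theorem pa_mem : pa ∈ P0 := ⟨1, 0, by decide +kernel⟩

theorem pb_mem : pb ∈ P0 := ⟨0, 1, by decide +kernel⟩

theorem ph_conj : ph * pa * ph⁻¹ = pb ∧ ph * pb * ph⁻¹ = pa⁻¹ ∧ ph 0 = 0 := by decide +kernel

theorem ph_sq : ∀ i j : Fin 3, ph * ph * el i j * (ph * ph)⁻¹ = (el i j)⁻¹ := by decide +kernel

theorem ph_order : orderOf ph = 4 :=
  orderOf_eq_prime_pow (p := 2) (n := 1) (by decide +kernel) (by decide +kernel)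

/-- `pa` and `pa * pb` move different numbers of points. -/
theorem support_ne : pa.support.card = 3 ∧ (pa * pb).support.card = 6 := by decide +kernel

theorem fix_zero : ∀ x : Fin 7, pa x = x → pb x = x → x = 0 := by decide

theorem el_zero : ∀ i j : Fin 3, el i j 0 = 0 := by decide +kernel

theorem el_block : ∀ i j : Fin 3, ∀ x : Fin 7, (x = 1 ∨ x = 2 ∨ x = 3) →
    el i j x = 1 ∨ el i j x = 2 ∨ el i j x = 3 := by decide +kernel

/-- A perm normalizing the subgroup of order nine fixes the last point. -/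
theorem fix_of_norm {σ : Perm (Fin 7)} (h : ∀ p ∈ P0, σ⁻¹ * p * σ ∈ P0) : σ 0 = 0 := by
  refine fix_zero _ ?_ ?_
  · obtain ⟨i, j, e⟩ := h pa pa_mem
    calc pa (σ 0) = σ ((σ⁻¹ * pa * σ) 0) := by simp [Perm.mul_apply]
      _ = σ 0 := by rw [← e, el_zero]
  · obtain ⟨i, j, e⟩ := h pb pb_mem
    calc pb (σ 0) = σ ((σ⁻¹ * pb * σ) 0) := by simp [Perm.mul_apply]
      _ = σ 0 := by rw [← e, el_zero]

/-- Keeping the first block. -/
def Keep (σ : Perm (Fin 7)) : Prop := σ 1 = 1 ∨ σ 1 = 2 ∨ σ 1 = 3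

theorem pa_block : ∀ x : Fin 7, (x = 1 ∨ x = 2 ∨ x = 3) ↔ pa x ≠ x := by decide +kernel

theorem el_orbit : ∀ x : Fin 7, (x = 1 ∨ x = 2 ∨ x = 3) → ∃ i : Fin 3, el i 0 1 = x := by decide +kernel

theorem rest_block : ∀ x : Fin 7, x ≠ 0 → ¬ (x = 1 ∨ x = 2 ∨ x = 3) → (x = 4 ∨ x = 5 ∨ x = 6) := by decide

theorem el_rest : ∀ i j : Fin 3, ∀ x : Fin 7, (x = 4 ∨ x = 5 ∨ x = 6) →
    el i j x = 4 ∨ el i j x = 5 ∨ el i j x = 6 := by decide +kernel

theorem pick : ∀ i j : Fin 3, (∀ x : Fin 7, (x = 4 ∨ x = 5 ∨ x = 6) → el i j x = x) → el i j ≠ 1 →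
    el i j = pa ∨ el i j = pa⁻¹ := by decide +kernel

theorem pick' : ∀ i j : Fin 3, (∀ x : Fin 7, (x = 1 ∨ x = 2 ∨ x = 3) → el i j x = x) → el i j ≠ 1 →
    el i j = pb ∨ el i j = pb⁻¹ := by decide +kernel

/-- An element keeping the blocks maps each onto itself. -/
theorem keep_blocks {σ : Perm (Fin 7)} (h : ∀ p ∈ P0, σ * p * σ⁻¹ ∈ P0) (h0 : σ 0 = 0) (hk : Keep σ) :
    (∀ x : Fin 7, (x = 1 ∨ x = 2 ∨ x = 3) ↔ (σ x = 1 ∨ σ x = 2 ∨ σ x = 3)) := by
  have hin : ∀ x : Fin 7, (x = 1 ∨ x = 2 ∨ x = 3) → (σ x = 1 ∨ σ x = 2 ∨ σ x = 3) := by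
    intro x hx
    obtain ⟨i, hi⟩ := el_orbit x hx
    obtain ⟨k, l, e⟩ := h (el i 0) ⟨i, 0, rfl⟩
    rw [← hi, show σ (el i 0 1) = (σ * el i 0 * σ⁻¹) (σ 1) by simp [Perm.mul_apply], ← e]
    exact el_block k l _ hk
  intro x
  refine ⟨hin x, fun hx => ?_⟩
  have h1 := hin 1 (Or.inl rfl)
  have h2 := hin 2 (Or.inr (Or.inl rfl))
  have h3 := hin 3 (Or.inr (Or.inr rfl))
  by_contra hn
  have e1 : σ x ≠ σ 1 := fun e => hn (Or.inl (σ.injective e))
  have e2 : σ x ≠ σ 2 := fun e => hn (Or.inr (Or.inl (σ.injective e)))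
  have e3 : σ x ≠ σ 3 := fun e => hn (Or.inr (Or.inr (σ.injective e)))
  have d12 : σ 1 ≠ σ 2 := σ.injective.ne (by decide)
  have d13 : σ 1 ≠ σ 3 := σ.injective.ne (by decide)
  have d23 : σ 2 ≠ σ 3 := σ.injective.ne (by decide)
  omega

/-- The square of an element keeping the blocks centralizes the subgroup. -/
theorem keep_sq {σ : Perm (Fin 7)} (h : ∀ p ∈ P0, σ * p * σ⁻¹ ∈ P0) (h0 : σ 0 = 0) (hk : Keep σ) :
    Commute (σ * σ) pa ∧ Commute (σ * σ) pb := by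
  have hb := keep_blocks h h0 hk
  have hsurj : ∀ x : Fin 7, σ (σ⁻¹ x) = x := fun x => by simp
  have hone : ∀ p : Perm (Fin 7), σ * p * σ⁻¹ = 1 → p = 1 := fun p e => conj_eq_one_iff.1 e
  constructor
  · obtain ⟨i, j, e⟩ := h pa pa_mem
    have hc : σ * pa * σ⁻¹ = pa ∨ σ * pa * σ⁻¹ = pa⁻¹ := by
      rw [← e]
      refine pick i j (fun x hx => ?_) (fun e1 => ?_)
      · rw [e]
        show σ (pa (σ⁻¹ x)) = x
        have hy : pa (σ⁻¹ x) = σ⁻¹ x := by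
          by_contra hne
          have := (hb _).1 ((pa_block _).2 hne)
          rw [hsurj] at this
          omega
        rw [hy, hsurj]
      · have := hone pa (e ▸ e1)
        exact absurd this (by decide +kernel)
    have e2 : σ * σ * pa * (σ * σ)⁻¹ = σ * (σ * pa * σ⁻¹) * σ⁻¹ := by group
    rcases hc with hc | hc
    · rw [hc, hc, mul_inv_eq_iff_eq_mul] at e2; exact e2
    · rw [hc, show σ * pa⁻¹ * σ⁻¹ = (σ * pa * σ⁻¹)⁻¹ by group, hc, inv_inv, mul_inv_eq_iff_eq_mul] at e2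
      exact e2
  · obtain ⟨i, j, e⟩ := h pb pb_mem
    have hc : σ * pb * σ⁻¹ = pb ∨ σ * pb * σ⁻¹ = pb⁻¹ := by
      rw [← e]
      refine pick' i j (fun x hx => ?_) (fun e1 => ?_)
      · rw [e]
        show σ (pb (σ⁻¹ x)) = x
        have hy : σ⁻¹ x = 1 ∨ σ⁻¹ x = 2 ∨ σ⁻¹ x = 3 := (hb _).2 (by rw [hsurj]; exact hx)
        rw [(by decide : ∀ y : Fin 7, (y = 1 ∨ y = 2 ∨ y = 3) → pb y = y) _ hy, hsurj]
      · have := hone pb (e ▸ e1)
        exact absurd this (by decide +kernel)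
    have e2 : σ * σ * pb * (σ * σ)⁻¹ = σ * (σ * pb * σ⁻¹) * σ⁻¹ := by group
    rcases hc with hc | hc
    · rw [hc, hc, mul_inv_eq_iff_eq_mul] at e2; exact e2
    · rw [hc, show σ * pb⁻¹ * σ⁻¹ = (σ * pb * σ⁻¹)⁻¹ by group, hc, inv_inv, mul_inv_eq_iff_eq_mul] at e2
      exact e2

/-- Two elements exchanging the blocks have a product keeping them. -/
theorem keep_mul {σ τ : Perm (Fin 7)} (hσ : ∀ p ∈ P0, σ * p * σ⁻¹ ∈ P0) (hσ0 : σ 0 = 0)
    (h1 : ¬ Keep σ) (hτ0 : τ 0 = 0) (h2 : ¬ Keep τ) : Keep (σ * τ) := by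
  have h2' : τ 1 = 4 ∨ τ 1 = 5 ∨ τ 1 = 6 := by
    refine rest_block _ (fun e => ?_) h2
    rw [← hτ0] at e
    exact absurd (τ.injective e) (by decide)
  have h1' : σ 1 = 4 ∨ σ 1 = 5 ∨ σ 1 = 6 := by
    refine rest_block _ (fun e => ?_) h1
    rw [← hσ0] at e
    exact absurd (σ.injective e) (by decide)
  have himg : ∀ x : Fin 7, (x = 1 ∨ x = 2 ∨ x = 3) → σ x = 4 ∨ σ x = 5 ∨ σ x = 6 := by
    intro x hx
    obtain ⟨i, hi⟩ := el_orbit x hx
    obtain ⟨k, l, e⟩ := hσ (el i 0) ⟨i, 0, rfl⟩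
    rw [← hi, show σ (el i 0 1) = (σ * el i 0 * σ⁻¹) (σ 1) by simp [Perm.mul_apply], ← e]
    exact el_rest k l _ h1'
  show σ (τ 1) = 1 ∨ σ (τ 1) = 2 ∨ σ (τ 1) = 3
  have e1 := himg 1 (Or.inl rfl)
  have e2 := himg 2 (Or.inr (Or.inl rfl))
  have e3 := himg 3 (Or.inr (Or.inr rfl))
  have n0 : σ (τ 1) ≠ σ 0 := σ.injective.ne (by omega)
  have n1 : σ (τ 1) ≠ σ 1 := σ.injective.ne (by omega)
  have n2 : σ (τ 1) ≠ σ 2 := σ.injective.ne (by omega)
  have n3 : σ (τ 1) ≠ σ 3 := σ.injective.ne (by omega)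
  have d12 : σ 1 ≠ σ 2 := σ.injective.ne (by decide)
  have d13 : σ 1 ≠ σ 3 := σ.injective.ne (by decide)
  have d23 : σ 2 ≠ σ 3 := σ.injective.ne (by decide)
  rw [hσ0] at n0
  omega

theorem lcm_cases {g : Perm (Fin 7)} {p q : ℕ} (hp : p.Prime) (hq : q.Prime) (h7 : 7 < p + q) (hne : p ≠ q) :
    orderOf g ≠ p * q := by
  intro h
  have hdiv : ∀ r : ℕ, r.Prime → r ∣ orderOf g → ∃ n ∈ g.cycleType, r ∣ n := by
    intro r hr hd
    rw [← Perm.lcm_cycleType] at hd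
    revert hd
    refine Multiset.induction_on g.cycleType ?_ ?_
    · intro hd
      rw [Multiset.lcm_zero] at hd
      exact absurd hd hr.not_dvd_one
    · intro a s ih hd
      rw [Multiset.lcm_cons] at hd
      rcases (hr.dvd_mul.1 (hd.trans (lcm_dvd_mul _ _))) with h | h
      · exact ⟨a, Multiset.mem_cons_self _ _, h⟩
      · obtain ⟨n, hn, hrn⟩ := ih h
        exact ⟨n, Multiset.mem_cons_of_mem hn, hrn⟩
  obtain ⟨n, hn, hpn⟩ := hdiv p hp (h ▸ dvd_mul_right p q)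
  obtain ⟨m, hm, hqm⟩ := hdiv q hq (h ▸ dvd_mul_left q p)
  have hn2 := Perm.two_le_of_mem_cycleType hn
  have hm2 := Perm.two_le_of_mem_cycleType hm
  have hsum : g.cycleType.sum ≤ 7 := by
    rw [Perm.sum_cycleType]
    exact (Finset.card_le_univ _).trans (by simp)
  have hpn' := Nat.le_of_dvd (by omega) hpn
  have hqm' := Nat.le_of_dvd (by omega) hqm
  by_cases hnm : n = m
  · subst hnm
    have hpq : p * q ∣ n := Nat.Coprime.mul_dvd_of_dvd_of_dvd ((Nat.coprime_primes hp hq).2 hne) hpn hqm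
    have h1 := Nat.le_of_dvd (by omega) hpq
    have h2 : n ≤ g.cycleType.sum := Multiset.le_sum_of_mem hn
    have := hp.two_le
    have := hq.two_le
    nlinarith
  · have : n + m ≤ g.cycleType.sum := by
      obtain ⟨s, hs⟩ := Multiset.exists_cons_of_mem hn
      rw [hs, Multiset.mem_cons] at hm
      have h2 := Multiset.le_sum_of_mem (hm.resolve_left fun e => hnm e.symm)
      rw [hs, Multiset.sum_cons]
      omega
    omega

end Cfsg.Agent.Invol.M23Ord.Seven
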