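import Mathlib
import Cfsg.Agent.Lib.Invol.Order10200960.NormalizerSixteen
import Cfsg.Agent.Lib.Invol.Order10200960.SevenPoints

/-!
Simple groups of order 10200960: the subgroup of shape 2⁴.A₆ and its meeting with the determinant-one part of the
normalizer of a Sylow subgroup at three, which is not inside the normalizer of the elementary subgroup.
-/

set_option autoImplicit false
set_option linter.style.haveILetI false
set_option linter.unusedSectionVars false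

namespace Cfsg.Agent.Invol.M23Ord

open scoped ComplexConjugate
open Cfsg Cfsg.Agent.Block Cfsg.Agent.Char Cfsg.Agent.Invol.M12Ord

universe u

theorem dt_of_sq : ∀ m : M3, comp m m = negM → dt m = 1 := by decide +kernel

theorem quat_data : ((((0, 1), (2, 0)) : M3) ∈ quat ∧ (((1, 1), (1, 2)) : M3) ∈ quat) ∧
    ((((0, 1), (2, 0)) : M3) ≠ idM ∧ (((0, 1), (2, 0)) : M3) ≠ negM) ∧
    ((((1, 1), (1, 2)) : M3) ≠ idM ∧ (((1, 1), (1, 2)) : M3) ≠ negM) := by
  decide +kernel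

theorem quat_pair : comp ((0, 1), (2, 0)) ((1, 1), (1, 2)) ∈ quat ∧
    comp ((0, 1), (2, 0)) ((1, 1), (1, 2)) ≠ idM ∧ comp ((0, 1), (2, 0)) ((1, 1), (1, 2)) ≠ negM := by
  decide +kernel

variable {G : Type u} [Group G] [Finite G]

namespace Block16

variable (B : Block16 G)

/-- The action on seven points. -/
noncomputable def ψ : B.N →* Equiv.Perm (Fin 7) := (alternatingGroup (Fin 7)).subtype.comp B.φ

theorem ψ_sign (g : B.N) : Equiv.Perm.sign (B.ψ g) = 1 := Equiv.Perm.mem_alternatingGroup.1 (B.φ g).2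

theorem ψ_eq_one {g : B.N} (h : B.ψ g = 1) : (g : G) ∈ B.S.E := by
  have h' : g ∈ B.φ.ker := Subtype.ext h
  rwa [B.ker, Subgroup.mem_subgroupOf] at h'

theorem ψ_of_mem {g : B.N} (h : (g : G) ∈ B.S.E) : B.ψ g = 1 := by
  have h' : g ∈ B.φ.ker := by rwa [B.ker, Subgroup.mem_subgroupOf]
  exact congrArg Subtype.val (MonoidHom.mem_ker.1 h')

theorem ψ_surj {p : Equiv.Perm (Fin 7)} (h : Equiv.Perm.sign p = 1) : ∃ g : B.N, B.ψ g = p := by
  obtain ⟨g, hg⟩ := B.surj ⟨p, Equiv.Perm.mem_alternatingGroup.2 h⟩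
  exact ⟨g, congrArg Subtype.val hg⟩

theorem E_le : B.S.E ≤ B.N := B.hN ▸ Subgroup.le_normalizer

end Block16

/-- The point stabilizer in the seven-point action, with a Sylow subgroup at three. -/
structure Point (G : Type u) [Group G] [Finite G] extends Block16 G where
  T : ThreeLocal G
  H1 : Subgroup G
  H1_le : H1 ≤ N
  mem_H1 : ∀ g : N, (g : G) ∈ H1 ↔ toBlock16.ψ g 0 = 0
  card_H1 : Nat.card H1 = 5760
  Q_le : (T.Q : Subgroup G) ≤ H1
  exists_a : ∃ a : N, (a : G) ∈ (T.Q : Subgroup G) ∧ toBlock16.ψ a = Seven.pa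
  exists_b : ∃ b : N, (b : G) ∈ (T.Q : Subgroup G) ∧ toBlock16.ψ b = Seven.pa * Seven.pb
  not_R : ¬ T.R ≤ N
  card_A : Nat.card (T.R ⊓ H1 : Subgroup G) = 36

variable [IsSimpleGroup G]
variable [Fact (Nat.Prime 5)] [Fact (Nat.Prime 7)] [Fact (Nat.Prime 11)] [Fact (Nat.Prime 23)]

namespace Classes

variable (C : Classes G) (D : Data G)

include C D in
theorem exists_point (hG : Nat.card G = 10200960) : Nonempty (Point G) := by
  classical
  haveI : Fact (Nat.Prime 2) := ⟨Nat.prime_two⟩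
  haveI : Fact (Nat.Prime 3) := ⟨by norm_num⟩
  obtain ⟨B⟩ := C.exists_block16 D hG
  -- the stabilizer of a point
  set K1 : Subgroup B.N := (MulAction.stabilizer (Equiv.Perm (Fin 7)) (0 : Fin 7)).comap B.ψ with hK1
  set H1 := K1.map B.N.subtype with hH1
  have hH1N : H1 ≤ B.N := Subgroup.map_subtype_le _
  have hmemH1 : ∀ g : B.N, (g : G) ∈ H1 ↔ B.ψ g 0 = 0 := fun g =>
    ⟨fun ⟨g', hg', e⟩ => B.N.subtype_injective e ▸ hg', fun h => ⟨g, h, rfl⟩⟩
  have hA7 : Nat.card (alternatingGroup (Fin 7)) = 2520 := by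
    rw [nat_card_alternatingGroup, Nat.card_fin]
    rfl
  have hcH1 : Nat.card H1 = 5760 := by
    have hidx : K1.index = 7 := by
      rw [hK1, show B.ψ = (alternatingGroup (Fin 7)).subtype.comp B.φ from rfl, ← Subgroup.comap_comap,
        Subgroup.index_comap_of_surjective _ B.surj]
      have heq : (MulAction.stabilizer (Equiv.Perm (Fin 7)) (0 : Fin 7)).comap (alternatingGroup (Fin 7)).subtype =
          MulAction.stabilizer (alternatingGroup (Fin 7)) (0 : Fin 7) := by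
        ext g; rfl
      rw [heq, MulAction.index_stabilizer,
        show MulAction.orbit (alternatingGroup (Fin 7)) (0 : Fin 7) = Set.univ from Set.eq_univ_of_forall fun x =>
          ⟨⟨finRotate 7 ^ (x : ℕ), Equiv.Perm.mem_alternatingGroup.2 (by
              rw [map_pow, show Equiv.Perm.sign (finRotate 7) = 1 by decide +kernel, one_pow])⟩,
            (by decide +kernel : ∀ y : Fin 7, (finRotate 7 ^ (y : ℕ)) 0 = y) x⟩,
        Set.ncard_univ, Nat.card_fin]
    have h := Subgroup.card_mul_index K1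
    rw [hidx, B.card, Nat.card_congr (K1.equivMapOfInjective _ B.N.subtype_injective).toEquiv] at h
    change Nat.card H1 * 7 = 40320 at h
    omega
  -- a Sylow subgroup at three over the group of order nine
  set P0A := Seven.P0.comap (alternatingGroup (Fin 7)).subtype with hP0A
  have hP0 : Nat.card P0A = 9 := by
    let f : Fin 3 × Fin 3 → P0A := fun p =>
      ⟨⟨Seven.el p.1 p.2, Equiv.Perm.mem_alternatingGroup.2 (Seven.sign_el p.1 p.2)⟩, p.1, p.2, rfl⟩
    have hf : Function.Bijective f := by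
      refine ⟨fun p q h => ?_, fun x => ?_⟩
      · obtain ⟨h1, h2⟩ := Seven.el_inj _ _ _ _ (congrArg Subtype.val (congrArg Subtype.val h))
        exact Prod.ext h1 h2
      · obtain ⟨i, j, e⟩ := x.2
        exact ⟨(i, j), Subtype.ext (Subtype.ext e)⟩
    rw [← Nat.card_eq_of_bijective f hf]
    simp
  set L := P0A.comap B.φ with hL
  have hLc : Nat.card L = 144 := by
    have h := Subgroup.card_mul_index L
    have h' := Subgroup.card_mul_index P0A
    rw [hP0, hA7] at h'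
    rw [hL, Subgroup.index_comap_of_surjective _ B.surj, B.card] at h
    have : P0A.index = 280 := by omega
    rw [this, ← hL] at h
    omega
  obtain ⟨P⟩ : Nonempty (Sylow 3 L) := inferInstance
  set QN := (P : Subgroup L).map L.subtype with hQN
  have hQNc : Nat.card QN = 9 := by
    rw [hQN, ← Nat.card_congr ((P : Subgroup L).equivMapOfInjective _ L.subtype_injective).toEquiv,
      P.card_eq_multiplicity, hLc, show (144 : ℕ) = 3 ^ 2 * 16 by norm_num,
      Nat.factorization_mul (by norm_num) (by norm_num), Finsupp.add_apply,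
      (show Nat.Prime 3 by norm_num).factorization_pow, Finsupp.single_eq_same,
      Nat.factorization_eq_zero_of_not_dvd (by norm_num : ¬ 3 ∣ 16)]
    norm_num
  have hQG : Nat.card (QN.map B.N.subtype) = 9 := by
    rw [← Nat.card_congr (QN.equivMapOfInjective _ B.N.subtype_injective).toEquiv, hQNc]
  let Q : Sylow 3 G := Sylow.ofCard (QN.map B.N.subtype) (by rw [hQG, hG, fact_three]; norm_num)
  obtain ⟨T, hTQ⟩ := C.exists_threeLocal D hG Q
  have hTQ' : (T.Q : Subgroup G) = QN.map B.N.subtype := by rw [hTQ]; rfl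
  have hQmem : ∀ g : B.N, (g : G) ∈ (T.Q : Subgroup G) ↔ g ∈ QN := fun g => by
    rw [hTQ']
    exact ⟨fun ⟨g', hg', e⟩ => B.N.subtype_injective e ▸ hg', fun h => ⟨g, h, rfl⟩⟩
  have hQle : ∀ x ∈ (T.Q : Subgroup G), x ∈ B.N := fun x hx => by
    rw [hTQ'] at hx
    obtain ⟨g, -, rfl⟩ := hx
    exact g.2
  have hQP : ∀ g ∈ QN, B.ψ g ∈ Seven.P0 := by
    rintro _ ⟨l, -, rfl⟩
    exact l.2
  -- the map is injective there
  have hQE : ∀ x ∈ (T.Q : Subgroup G), x ∈ B.S.E → x = 1 := fun x hx hxE => by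
    have h1 := Subgroup.orderOf_dvd_natCard _ hx
    have h2 := Subgroup.orderOf_dvd_natCard _ hxE
    rw [T.card_Q] at h1
    rw [B.S.card] at h2
    exact orderOf_eq_one_iff.1 (Nat.eq_one_of_dvd_coprimes (by norm_num : Nat.Coprime 9 16) h1 h2)
  have hinj : ∀ g h : B.N, g ∈ QN → h ∈ QN → B.ψ g = B.ψ h → g = h := fun g h hg hh e => by
    have h1 : B.ψ (g * h⁻¹) = 1 := by rw [map_mul, map_inv, e, mul_inv_cancel]
    exact mul_inv_eq_one.1 (Subtype.ext (hQE _ ((hQmem _).2 (mul_mem hg (inv_mem hh))) (B.ψ_eq_one h1)))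
  have hQsurj : ∀ p ∈ Seven.P0, ∃ g ∈ QN, B.ψ g = p := by
    intro p hp
    obtain ⟨i, j, rfl⟩ := hp
    let f : QN → P0A := fun g => ⟨B.φ g, hQP _ g.2⟩
    have hf : Function.Bijective f := Function.Injective.bijective_of_nat_card_le (fun a b e =>
      Subtype.ext (hinj _ _ a.2 b.2 (congrArg Subtype.val (congrArg Subtype.val e)))) (by rw [hP0, hQNc])
    obtain ⟨g, hg⟩ := hf.2 ⟨⟨Seven.el i j, Equiv.Perm.mem_alternatingGroup.2 (Seven.sign_el i j)⟩, i, j, rfl⟩
    exact ⟨g, g.2, congrArg Subtype.val (congrArg Subtype.val hg)⟩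
  -- the images of elements normalizing the Sylow subgroup
  have hnorm : ∀ g : B.N, (g : G) ∈ Subgroup.normalizer ((T.Q : Subgroup G) : Set G) →
      ∀ p ∈ Seven.P0, B.ψ g * p * (B.ψ g)⁻¹ ∈ Seven.P0 := by
    intro g hg p hp
    obtain ⟨q, hq, rfl⟩ := hQsurj p hp
    rw [← map_inv, ← map_mul, ← map_mul]
    refine hQP _ ((hQmem _).1 ?_)
    simpa using (Subgroup.mem_normalizer_iff.1 hg (q : G)).1 ((hQmem q).2 hq)
  have hQH1 : (T.Q : Subgroup G) ≤ H1 := fun x hx => by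
    obtain ⟨i, j, e⟩ := hQP _ ((hQmem ⟨x, hQle x hx⟩).1 hx)
    exact (hmemH1 ⟨x, hQle x hx⟩).2 (by rw [← e, Seven.el_zero])
  have hcomm : ∀ g : B.N, (g : G) ∈ Subgroup.normalizer ((T.Q : Subgroup G) : Set G) →
      Commute (B.ψ g) Seven.pa → Commute (B.ψ g) Seven.pb → (g : G) ∈ (T.Q : Subgroup G) := by
    intro g hg ha hb
    rw [← T.cen_Q, Subgroup.mem_centralizer_iff]
    intro x hx
    have hxN := hQle x hx
    obtain ⟨i, j, e⟩ := hQP _ ((hQmem ⟨x, hxN⟩).1 hx)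
    have hc : Commute (B.ψ g) (B.ψ ⟨x, hxN⟩) := by
      rw [← e]
      exact (ha.pow_right _).mul_right (hb.pow_right _)
    have h1 := (Subgroup.mem_normalizer_iff.1 hg x).1 hx
    have hmem : (g : G) * x * (g : G)⁻¹ ∈ B.N := mul_mem (mul_mem g.2 hxN) (inv_mem g.2)
    have h2 : B.ψ ⟨(g : G) * x * (g : G)⁻¹, hmem⟩ = B.ψ ⟨x, hxN⟩ := by
      rw [show (⟨(g : G) * x * (g : G)⁻¹, hmem⟩ : B.N) = g * ⟨x, hxN⟩ * g⁻¹ from rfl, map_mul, map_mul, map_inv,
        hc.eq, mul_inv_cancel_right]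
    have h3 := congrArg Subtype.val (hinj _ _ ((hQmem _).1 h1) ((hQmem ⟨x, hxN⟩).1 hx) h2)
    exact (mul_inv_eq_iff_eq_mul.1 (h3 : (g : G) * x * (g : G)⁻¹ = x)).symm
  -- the determinant-one part is not inside
  have hnR : ¬ T.R ≤ B.N := by
    intro hle
    have hfix : ∀ g : B.N, (g : G) ∈ T.R → B.ψ g 0 = 0 := fun g hg => by
      refine Seven.fix_of_norm fun p hp => ?_
      have h := hnorm g⁻¹ (inv_mem (T.R_le hg)) p hp
      rwa [map_inv, inv_inv] at h
    have hkeep : ∀ g : B.N, (g : G) ∈ T.R → T.B.mat (g : G) ≠ idM → T.B.mat (g : G) ≠ negM →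
        ¬ Seven.Keep (B.ψ g) := fun g hg h1 h2 hk => by
      obtain ⟨ha, hb⟩ := Seven.keep_sq (hnorm g (T.R_le hg)) (hfix g hg) hk
      rw [← map_mul] at ha hb
      have hgg := hcomm (g * g) (mul_mem (T.R_le hg) (T.R_le hg)) ha hb
      have hmat := T.B.mat_mul T.hQ (T.R_le hg) (T.R_le hg)
      have hgQ : T.B.mat ((g : G) * (g : G)) = idM :=
        (T.mem_Q_iff (mul_mem (T.R_le hg) (T.R_le hg))).1 hgg
      rcases quat_cases _ (T.mat_of_mem hg) with h | h | h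
      · exact h1 h
      · exact h2 h
      · rw [hgQ, h] at hmat
        exact absurd hmat (by decide)
    have hget : ∀ m ∈ quat, ∃ g : B.N, (g : G) ∈ T.R ∧ T.B.mat (g : G) = m := fun m hm => by
      obtain ⟨x, hx⟩ := Set.nonempty_of_ncard_ne_zero
        (show ({g ∈ (T.R : Set G) | T.B.mat g = m}).ncard ≠ 0 by rw [T.fibre m hm]; norm_num)
      exact ⟨⟨x, hle hx.1⟩, hx.1, hx.2⟩
    obtain ⟨g, hg, hgm⟩ := hget _ quat_data.1.1
    obtain ⟨h, hh, hhm⟩ := hget _ quat_data.1.2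
    have h1 := hkeep g hg (hgm ▸ quat_data.2.1.1) (hgm ▸ quat_data.2.1.2)
    have h2 := hkeep h hh (hhm ▸ quat_data.2.2.1) (hhm ▸ quat_data.2.2.2)
    have hmk : T.B.mat ((g : G) * (h : G)) = comp ((0, 1), (2, 0)) ((1, 1), (1, 2)) := by
      rw [T.B.mat_mul T.hQ (T.R_le hg) (T.R_le hh), hgm, hhm]
    refine hkeep (g * h) (mul_mem hg hh) (hmk ▸ quat_pair.2.1) (hmk ▸ quat_pair.2.2) ?_
    rw [map_mul]
    exact Seven.keep_mul (hnorm g (T.R_le hg)) (hfix g hg) h1 (hfix h hh) h2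
  -- an element of order four in both
  obtain ⟨g₀, hg₀⟩ := B.ψ_surj Seven.sign_ph
  have hPh : ∀ p ∈ Seven.P0, Seven.ph * p * Seven.ph⁻¹ ∈ Seven.P0 := by
    rintro p ⟨i, j, rfl⟩
    obtain ⟨ha, hb, -⟩ := Seven.ph_conj
    rw [show Seven.ph * Seven.el i j * Seven.ph⁻¹ =
        (Seven.ph * Seven.pa * Seven.ph⁻¹) ^ (i : ℕ) * (Seven.ph * Seven.pb * Seven.ph⁻¹) ^ (j : ℕ) by
      rw [conj_pow, conj_pow, Seven.el]; group, ha, hb]
    exact mul_mem (pow_mem Seven.pb_mem _) (pow_mem (inv_mem Seven.pa_mem) _)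
  obtain ⟨g, hgn, hgψ⟩ : ∃ g : B.N, (g : G) ∈ Subgroup.normalizer ((T.Q : Subgroup G) : Set G) ∧
      B.ψ g = Seven.ph := by
    -- the conjugate is another Sylow subgroup of `L`
    have hin : ∀ q ∈ QN, g₀ * q * g₀⁻¹ ∈ L := fun q hq => by
      show B.ψ (g₀ * q * g₀⁻¹) ∈ Seven.P0
      rw [map_mul, map_mul, map_inv, hg₀]
      exact hPh _ (hQP q hq)
    set Q2 := (QN.map (MulAut.conj g₀).toMonoidHom).subgroupOf L with hQ2
    have hle2 : QN.map (MulAut.conj g₀).toMonoidHom ≤ L := by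
      rintro _ ⟨q, hq, rfl⟩; exact hin q hq
    have hQ2c : Nat.card Q2 = 9 := by
      rw [hQ2, Nat.card_congr (Subgroup.subgroupOfEquivOfLe hle2).toEquiv,
        ← Nat.card_congr (QN.equivMapOfInjective _ (MulAut.conj g₀).injective).toEquiv, hQNc]
    let P2 : Sylow 3 L := Sylow.ofCard Q2 (by
      rw [hQ2c, hLc, show (144 : ℕ) = 3 ^ 2 * 16 by norm_num, Nat.factorization_mul (by norm_num) (by norm_num),
        Finsupp.add_apply, (show Nat.Prime 3 by norm_num).factorization_pow, Finsupp.single_eq_same,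
        Nat.factorization_eq_zero_of_not_dvd (by norm_num : ¬ 3 ∣ 16)]
      norm_num)
    obtain ⟨e, he⟩ := MulAction.exists_smul_eq L P2 P
    have hmove : ∀ q ∈ QN, (e : B.N) * g₀ * q * ((e : B.N) * g₀)⁻¹ ∈ QN := by
      intro q hq
      have hm : (⟨g₀ * q * g₀⁻¹, hin q hq⟩ : L) ∈ (P2 : Subgroup L) :=
        Subgroup.mem_subgroupOf.2 ⟨q, hq, rfl⟩
      have h2 : MulAut.conj e (⟨g₀ * q * g₀⁻¹, hin q hq⟩ : L) ∈ (P : Subgroup L) := by
        rw [← he]
        exact Subgroup.smul_mem_pointwise_smul _ (MulAut.conj e) (P2 : Subgroup L) hm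
      refine ⟨_, h2, ?_⟩
      simp only [Subgroup.coe_subtype, MulAut.conj_apply, Subgroup.coe_mul, Subgroup.coe_inv]
      group
    obtain ⟨q, hq, hqe⟩ := hQsurj (B.ψ (e : B.N)) e.2
    refine ⟨q⁻¹ * ((e : B.N) * g₀), M22Ord.mem_normalizer_of_inv fun x hx => ?_, ?_⟩
    · have hxN := hQle x hx
      have h := mul_mem (mul_mem (inv_mem hq) (hmove _ ((hQmem ⟨x, hxN⟩).1 hx))) hq
      have := (hQmem _).2 h
      simpa [mul_assoc] using this
    · rw [map_mul, map_inv, map_mul, hqe, hg₀, inv_mul_cancel_left]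
  have hgH1 : (g : G) ∈ H1 := (hmemH1 g).2 (by rw [hgψ]; exact Seven.ph_conj.2.2)
  have hgR : (g : G) ∈ T.R := by
    refine (T.mem_R _ hgn).2 (dt_of_sq _ ?_)
    rw [← T.B.mat_mul T.hQ hgn hgn]
    refine T.B.mat_unique T.hQ (mul_mem hgn hgn) fun v => ?_
    rw [negM_app, T.B.el_neg]
    have hv : T.B.el v ∈ (T.Q : Subgroup G) := (T.hQ _).2 ⟨v, rfl⟩
    have hvN := hQle _ hv
    obtain ⟨i, j, e⟩ := hQP _ ((hQmem ⟨_, hvN⟩).1 hv)
    have h1 := (Subgroup.mem_normalizer_iff.1 (mul_mem hgn hgn) _).1 hv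
    have hmem : (g : G) * g * T.B.el v * ((g : G) * g)⁻¹ ∈ B.N := hQle _ h1
    have h2 : B.ψ ⟨(g : G) * g * T.B.el v * ((g : G) * g)⁻¹, hmem⟩ = B.ψ ⟨(T.B.el v)⁻¹, inv_mem hvN⟩ := by
      rw [show (⟨(g : G) * g * T.B.el v * ((g : G) * g)⁻¹, hmem⟩ : B.N) = g * g * ⟨_, hvN⟩ * (g * g)⁻¹ from rfl,
        show (⟨(T.B.el v)⁻¹, inv_mem hvN⟩ : B.N) = (⟨_, hvN⟩ : B.N)⁻¹ from rfl, map_mul, map_mul, map_inv, map_inv,
        map_mul, hgψ, ← e]
      exact Seven.ph_sq i j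
    exact congrArg Subtype.val (hinj _ _ ((hQmem _).1 h1) ((hQmem _).1 (inv_mem hv)) h2)
  have hA36 : Nat.card (T.R ⊓ H1 : Subgroup G) = 36 := by
    have h1 := Subgroup.card_dvd_of_le (inf_le_left : T.R ⊓ H1 ≤ T.R)
    rw [T.card_R] at h1
    have h9 := Subgroup.card_dvd_of_le (le_inf T.Q_le hQH1)
    rw [T.card_Q] at h9
    have h4 : 4 ∣ Nat.card (T.R ⊓ H1 : Subgroup G) := by
      refine dvd_trans ?_ (Subgroup.orderOf_dvd_natCard _ (⟨hgR, hgH1⟩ : (g : G) ∈ T.R ⊓ H1))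
      rw [← Seven.ph_order, ← hgψ, Subgroup.orderOf_coe]
      exact orderOf_map_dvd _ g
    obtain ⟨k, hk⟩ := Nat.Coprime.mul_dvd_of_dvd_of_dvd (by norm_num : Nat.Coprime 4 9) h4 h9
    have hk2 : k ∣ 2 := Nat.dvd_of_mul_dvd_mul_left (by norm_num : 0 < 4 * 9) (hk ▸ h1)
    rcases (Nat.dvd_prime Nat.prime_two).1 hk2 with rfl | rfl
    · omega
    exfalso
    have heq : T.R ⊓ H1 = T.R := Subgroup.eq_of_le_of_card_ge inf_le_left (by rw [T.card_R, hk])
    exact hnR ((inf_eq_left.1 heq).trans hH1N)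
  have hex : ∀ p ∈ Seven.P0, ∃ a : B.N, (a : G) ∈ (T.Q : Subgroup G) ∧ B.ψ a = p := fun p hp => by
    obtain ⟨a, ha, e⟩ := hQsurj p hp
    exact ⟨a, (hQmem a).2 ha, e⟩
  exact ⟨⟨B, T, H1, hH1N, hmemH1, hcH1, hQH1, hex _ Seven.pa_mem, hex _ (mul_mem Seven.pa_mem Seven.pb_mem), hnR,
    hA36⟩⟩

end Classes

end Cfsg.Agent.Invol.M23Ord
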