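import Mathlib
import Cfsg.Agent.Lib.Invol.Order10200960.PointStab
import Cfsg.Agent.Lib.Invol.Order10200960.FixedSpace

/-!
Simple groups of order 10200960: the two subgroups 2⁴.A₆ and 3².Q₈ fix a common vector in the representation
of degree 22.
-/

set_option autoImplicit false
set_option linter.style.haveILetI false
set_option linter.unusedSectionVars false

namespace Cfsg.Agent.Invol.M23Ord

open scoped ComplexConjugate
open Cfsg Cfsg.Agent.Block Cfsg.Agent.Char Cfsg.Agent.Invol.M12Ord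
open Cfsg.Agent.Invol.M22Ord (conjSet mem_conjSet card_conjSet self_mem_conjSet conjSet_closed)

universe u

variable {G : Type u} [Group G] [Finite G]

theorem ThreeLocal.nsmul_three : ∀ w : V3, (3 : ℕ) • w = 0 := by decide +kernel

theorem ThreeLocal.quat_sum :
    ∑ m ∈ quat.toFinset, (if m = idM then (54 : ℤ) else if m = negM then 54 else 18) = 216 := by decide +kernel

namespace Point

variable (X : Point G)

theorem ψ_orderOf {g : X.N} (h2 : ¬ 2 ∣ orderOf (g : G)) : orderOf (X.toBlock16.ψ g) = orderOf (g : G) := by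
  refine Nat.dvd_antisymm (Subgroup.orderOf_coe g ▸ orderOf_map_dvd _ g) ?_
  have hk : X.toBlock16.ψ (g ^ orderOf (X.toBlock16.ψ g)) = 1 := by rw [map_pow, pow_orderOf_eq_one]
  have hE := X.toBlock16.ψ_eq_one hk
  rw [Subgroup.coe_pow] at hE
  have hd : orderOf (g : G) ∣ orderOf (X.toBlock16.ψ g) * 2 := orderOf_dvd_of_pow_eq_one (by
    rw [pow_mul, pow_two, X.S.sq _ hE])
  exact ((Nat.Prime.coprime_iff_not_dvd Nat.prime_two).2 h2).symm.dvd_of_dvd_mul_right hd

theorem no_fifteen {g : G} (hg : g ∈ X.N) : orderOf g ≠ 15 := fun h => by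
  have h' := X.ψ_orderOf (g := ⟨g, hg⟩) (by rw [h]; norm_num)
  rw [h] at h'
  exact Seven.lcm_cases (p := 3) (q := 5) (by norm_num) (by norm_num) (by norm_num) (by norm_num) h'

end Point

variable [IsSimpleGroup G]
variable [Fact (Nat.Prime 5)] [Fact (Nat.Prime 7)] [Fact (Nat.Prime 11)] [Fact (Nat.Prime 23)]

namespace Classes

variable (C : Classes G) (D : Data G)

include C D in
/-- The value of the character of degree 22 as an integer. -/
theorem val_int (hG : Nat.card G = 10200960) (g : G) :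
    (D.c22 : G → ℂ) g = (val22 (orderOf g) (cn g) : ℂ) := C.val22_eq D hG g

include C D in
/-- The sum over the group of shape 2⁴.A₆ exceeds its order. -/
theorem sum_H1 (hG : Nat.card G = 10200960) (X : Point G) [Fintype X.H1] :
    6000 ≤ ∑ g : X.H1, val22 (orderOf (g : G)) (cn (g : G)) := by
  classical
  haveI : Fact (Nat.Prime 3) := ⟨by norm_num⟩
  haveI := Fintype.ofFinite G
  set U := Finset.univ.filter fun g => g ∈ X.H1 with hU
  set F : G → ℤ := fun g => val22 (orderOf g) (cn g) with hF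
  have hsum : ∑ g : X.H1, F (g : G) = ∑ g ∈ U, F g := (Finset.sum_subtype U (by simp [hU]) F).symm
  show 6000 ≤ ∑ g : X.H1, F (g : G)
  rw [hsum]
  have hnn : ∀ g ∈ U, 0 ≤ F g := by
    intro g hg
    have hgH := (Finset.mem_filter.1 hg).2
    have hd := Subgroup.orderOf_dvd_natCard _ hgH
    rw [X.card_H1] at hd
    have h14 : orderOf g ≠ 14 := fun e => by rw [e] at hd; norm_num at hd
    have h23 : orderOf g ≠ 23 := fun e => by rw [e] at hd; norm_num at hd
    have h15 := X.no_fifteen (X.H1_le hgH)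
    simp only [hF, val22]
    split_ifs <;> omega
  -- no element of order fifteen centralizes
  have hno : ∀ x y : G, x ∈ X.H1 → y ∈ X.H1 → orderOf x = 5 → orderOf y = 3 → ¬ Commute x y := by
    intro x y hx hy hx5 hy3 hc
    refine X.no_fifteen (mul_mem (X.H1_le hx) (X.H1_le hy)) ?_
    rw [hc.orderOf_mul_eq_mul_orderOf_of_coprime (by rw [hx5, hy3]; norm_num), hx5, hy3]
  obtain ⟨x', hx'⟩ := exists_prime_orderOf_dvd_card' (G := X.H1) 5 (by rw [X.card_H1]; norm_num)
  rw [← Subgroup.orderOf_coe] at hx'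
  obtain ⟨x, hxH, hx⟩ : ∃ x ∈ X.H1, orderOf x = 5 := ⟨x', x'.2, hx'⟩
  have hcx : ∀ y : G, y ∈ X.H1 → orderOf y = 5 →
      Nat.card (X.H1 ⊓ Subgroup.centralizer ({y} : Set G) : Subgroup G) = 5 := by
    intro y hy hy5
    have hd := Subgroup.card_dvd_of_le (inf_le_right : X.H1 ⊓ Subgroup.centralizer ({y} : Set G) ≤ _)
    rw [show Nat.card (Subgroup.centralizer ({y} : Set G)) = 15 from D.toFrame.cn_five hG hy5] at hd
    have h5 : 5 ∣ Nat.card (X.H1 ⊓ Subgroup.centralizer ({y} : Set G) : Subgroup G) :=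
      hy5 ▸ Subgroup.orderOf_dvd_natCard _ ⟨hy, Subgroup.mem_centralizer_singleton_iff.2 rfl⟩
    have h3 : ¬ 3 ∣ Nat.card (X.H1 ⊓ Subgroup.centralizer ({y} : Set G) : Subgroup G) := fun h => by
      obtain ⟨w, hw⟩ := exists_prime_orderOf_dvd_card'
        (G := (X.H1 ⊓ Subgroup.centralizer ({y} : Set G) : Subgroup G)) 3 h
      rw [← Subgroup.orderOf_coe] at hw
      exact hno y w hy w.2.1 hy5 hw (show Commute (w : G) y from Subgroup.mem_centralizer_singleton_iff.1 w.2.2).symm
    have hle := Nat.le_of_dvd (by norm_num) hd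
    obtain ⟨k, hk⟩ := h5
    have hk3 : k ≤ 3 := by omega
    interval_cases k <;> simp_all
  have hclass : ∀ y : G, y ∈ X.H1 → orderOf y = 5 → (conjSet X.H1 y).card = 1152 := by
    intro y hy hy5
    have h := card_conjSet X.H1 y
    rw [X.card_H1, hcx y hy hy5] at h
    omega
  -- the square is not conjugate
  have hx2 : x ^ 2 ∉ conjSet X.H1 x := by
    intro h2
    have hz := fixed_mod (p := 5) (by rw [← hx]; exact pow_orderOf_eq_one x) (conjSet X.H1 x)
      fun y hy => conjSet_closed hxH hy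
    rw [hclass x hxH hx] at hz
    have hstep : ∀ y, y ∈ conjSet X.H1 x → y ^ 2 ∈ conjSet X.H1 x := fun y hy => by
      obtain ⟨q, hq, rfl⟩ := mem_conjSet.1 hy
      rw [conj_pow]
      exact conjSet_closed hq h2
    have hx5 : x ^ 5 = 1 := by rw [← hx]; exact pow_orderOf_eq_one x
    have hsub : ({x, x ^ 2, x ^ 4, x ^ 3} : Finset G) ⊆
        (conjSet X.H1 x).filter fun y => x * y * x⁻¹ = y := by
      have h4 : x ^ 4 ∈ conjSet X.H1 x := by
        have := hstep _ h2
        rwa [← pow_mul] at this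
      have h8 : x ^ 3 ∈ conjSet X.H1 x := by
        have := hstep _ h4
        rwa [← pow_mul, show 4 * 2 = 5 + 3 from rfl, pow_add, hx5, one_mul] at this
      intro y hy
      simp only [Finset.mem_insert, Finset.mem_singleton] at hy
      rw [Finset.mem_filter]
      rcases hy with rfl | rfl | rfl | rfl
      · exact ⟨self_mem_conjSet, by group⟩
      · exact ⟨h2, by group⟩
      · exact ⟨h4, by group⟩
      · exact ⟨h8, by group⟩
    have hsup : ((conjSet X.H1 x).filter fun y => x * y * x⁻¹ = y) ⊆ {x, x ^ 2, x ^ 4, x ^ 3} := by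
      intro y hy
      obtain ⟨hy, hc⟩ := Finset.mem_filter.1 hy
      obtain ⟨q, hq, rfl⟩ := mem_conjSet.1 hy
      have hm : q * x * q⁻¹ ∈ X.H1 ⊓ Subgroup.centralizer ({x} : Set G) :=
        Subgroup.mem_inf.2 ⟨mul_mem (mul_mem hq hxH) (inv_mem hq),
          Subgroup.mem_centralizer_singleton_iff.2 (mul_inv_eq_iff_eq_mul.1 hc).symm⟩
      have hz' : X.H1 ⊓ Subgroup.centralizer ({x} : Set G) = Subgroup.zpowers x := by
        refine (Subgroup.eq_of_le_of_card_ge
          (Subgroup.zpowers_le.2 (Subgroup.mem_inf.2 ⟨hxH, Subgroup.mem_centralizer_singleton_iff.2 rfl⟩)) ?_).symm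
        rw [hcx x hxH hx, Nat.card_zpowers, hx]
      rw [hz'] at hm
      obtain ⟨n, hn⟩ := mem_powers_iff_mem_zpowers.2 hm
      change x ^ n = q * x * q⁻¹ at hn
      rw [← hn, show x ^ n = x ^ (n % 5) by rw [← hx, pow_mod_orderOf]]
      have hne : n % 5 ≠ 0 := fun e => by
        rw [← pow_mod_orderOf, hx, e, pow_zero] at hn
        exact ne_one_of_orderOf hx (by norm_num) (conj_eq_one_iff.1 hn.symm)
      rcases (by omega : n % 5 = 1 ∨ n % 5 = 2 ∨ n % 5 = 3 ∨ n % 5 = 4) with e | e | e | e <;> rw [e] <;> simp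
    rw [Finset.Subset.antisymm hsup hsub] at hz
    have hd : ∀ i j : ℕ, i < 5 → j < 5 → i ≠ j → x ^ i ≠ x ^ j := fun i j hi hj hij h => hij
      (pow_injOn_Iio_orderOf (by simp [hx, hi]) (by simp [hx, hj]) h)
    rw [Finset.card_insert_of_notMem, Finset.card_insert_of_notMem, Finset.card_pair (hd 4 3 (by norm_num)
      (by norm_num) (by norm_num))] at hz
    · norm_num at hz
    · simp only [Finset.mem_insert, Finset.mem_singleton, not_or]
      exact ⟨hd 2 4 (by norm_num) (by norm_num) (by norm_num), hd 2 3 (by norm_num) (by norm_num) (by norm_num)⟩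
    · simp only [Finset.mem_insert, Finset.mem_singleton, not_or]
      refine ⟨?_, ?_, ?_⟩
      · simpa using hd 1 2 (by norm_num) (by norm_num) (by norm_num)
      · simpa using hd 1 4 (by norm_num) (by norm_num) (by norm_num)
      · simpa using hd 1 3 (by norm_num) (by norm_num) (by norm_num)
  -- two classes of elements of order three
  obtain ⟨a, haQ, haψ⟩ := X.exists_a
  obtain ⟨b, hbQ, hbψ⟩ := X.exists_b
  have hQ3 : ∀ y ∈ (X.T.Q : Subgroup G), y ≠ 1 → orderOf y = 3 := fun y hy h1 => by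
    obtain ⟨v, rfl⟩ := (X.T.hQ y).1 hy
    refine orderOf_eq_prime ?_ h1
    rw [← X.T.B.el_nsmul, show (3 : ℕ) • v = 0 from ThreeLocal.nsmul_three v, X.T.B.el_zero]
  have ha3 : orderOf (a : G) = 3 := hQ3 _ haQ fun e => by
    have : a = 1 := Subtype.ext e
    rw [this, map_one] at haψ
    exact absurd haψ (by decide +kernel)
  have hb3 : orderOf (b : G) = 3 := hQ3 _ hbQ fun e => by
    have : b = 1 := Subtype.ext e
    rw [this, map_one] at hbψ
    exact absurd hbψ (by decide +kernel)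
  have hclass3 : ∀ y : G, y ∈ X.H1 → orderOf y = 3 → 160 ≤ (conjSet X.H1 y).card := by
    intro y hy hy3
    have h := card_conjSet X.H1 y
    rw [X.card_H1] at h
    have hd := Subgroup.card_dvd_of_le (inf_le_right : X.H1 ⊓ Subgroup.centralizer ({y} : Set G) ≤ _)
    rw [show Nat.card (Subgroup.centralizer ({y} : Set G)) = 180 from (C.three_conj D hG hy3).1] at hd
    have h5 : ¬ 5 ∣ Nat.card (X.H1 ⊓ Subgroup.centralizer ({y} : Set G) : Subgroup G) := fun h => by
      obtain ⟨w, hw⟩ := exists_prime_orderOf_dvd_card'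
        (G := (X.H1 ⊓ Subgroup.centralizer ({y} : Set G) : Subgroup G)) 5 h
      rw [← Subgroup.orderOf_coe] at hw
      exact hno w y w.2.1 hy hw hy3 (Subgroup.mem_centralizer_singleton_iff.1 w.2.2)
    have h36 := Nat.le_of_dvd (by norm_num)
      (((Nat.Prime.coprime_iff_not_dvd (by norm_num : Nat.Prime 5)).2 h5).symm.dvd_of_dvd_mul_left
        (show Nat.card (X.H1 ⊓ Subgroup.centralizer ({y} : Set G) : Subgroup G) ∣ 5 * 36 from hd))
    nlinarith
  have hab : (b : G) ∉ conjSet X.H1 (a : G) := by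
    intro h
    obtain ⟨q, hq, hqe⟩ := mem_conjSet.1 h
    have e : (⟨q, X.H1_le hq⟩ : X.N) * a * (⟨q, X.H1_le hq⟩ : X.N)⁻¹ = b := Subtype.ext hqe
    have e' := congrArg X.toBlock16.ψ e
    rw [map_mul, map_mul, map_inv, haψ, hbψ] at e'
    have h3 := Equiv.Perm.card_support_conj (σ := X.toBlock16.ψ ⟨q, X.H1_le hq⟩) (τ := Seven.pa)
    rw [e', Seven.support_ne.1, Seven.support_ne.2] at h3
    norm_num at h3
  -- the bound
  have hsubU : ∀ y ∈ X.H1, conjSet X.H1 y ⊆ U := fun y hy w hw => by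
    obtain ⟨q, hq, rfl⟩ := mem_conjSet.1 hw
    simp only [hU, Finset.mem_filter, Finset.mem_univ, true_and]
    exact mul_mem (mul_mem hq hy) (inv_mem hq)
  have hord : ∀ y w : G, w ∈ conjSet X.H1 y → orderOf w = orderOf y := fun y w hw => by
    obtain ⟨q, -, rfl⟩ := mem_conjSet.1 hw
    exact (MulAut.conj q).orderOf_eq y
  have hdis : ∀ y w : G, w ∉ conjSet X.H1 y → Disjoint (conjSet X.H1 y) (conjSet X.H1 w) := fun y w hw => by
    rw [Finset.disjoint_left]
    intro r hr hr'
    obtain ⟨q, hq, hqe⟩ := mem_conjSet.1 hr'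
    refine hw ?_
    rw [show w = q⁻¹ * r * q⁻¹⁻¹ by rw [← hqe]; group]
    exact conjSet_closed (inv_mem hq) hr
  set V1 : Finset G := {1} with hV1
  set VE := (Finset.univ.filter fun g => g ∈ X.S.E).erase 1 with hVE
  set V5 := conjSet X.H1 x ∪ conjSet X.H1 (x ^ 2) with hV5
  set V3' := conjSet X.H1 (a : G) ∪ conjSet X.H1 (b : G) with hV3
  have hx2o : orderOf (x ^ 2) = 5 := by rw [orderOf_pow, hx]; rfl
  have hE : ∀ g ∈ X.S.E, g ∈ X.H1 := fun g hg =>
    (X.mem_H1 ⟨g, X.toBlock16.E_le hg⟩).2 (by rw [X.toBlock16.ψ_of_mem (g := ⟨g, X.toBlock16.E_le hg⟩) hg]; rfl)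
  have hEo : ∀ g ∈ VE, orderOf g = 2 := fun g hg => by
    obtain ⟨h1, h2⟩ := Finset.mem_erase.1 hg
    haveI : Fact (Nat.Prime 2) := ⟨Nat.prime_two⟩
    exact orderOf_eq_prime (by rw [pow_two]; exact X.S.sq g (Finset.mem_filter.1 h2).2) h1
  have o5 : ∀ g ∈ V5, orderOf g = 5 := fun g hg => by
    rcases Finset.mem_union.1 hg with h | h
    · rw [hord _ _ h, hx]
    · rw [hord _ _ h, hx2o]
  have o3 : ∀ g ∈ V3', orderOf g = 3 := fun g hg => by
    rcases Finset.mem_union.1 hg with h | h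
    · rw [hord _ _ h, ha3]
    · rw [hord _ _ h, hb3]
  have hsub : V1 ∪ VE ∪ (V5 ∪ V3') ⊆ U := by
    refine Finset.union_subset (Finset.union_subset ?_ ?_) (Finset.union_subset ?_ ?_)
    · simp [hV1, hU]
    · exact fun g hg => Finset.mem_filter.2 ⟨Finset.mem_univ _, hE g (Finset.mem_filter.1 (Finset.mem_erase.1 hg).2).2⟩
    · exact Finset.union_subset (hsubU x hxH) (hsubU _ (pow_mem hxH 2))
    · exact Finset.union_subset (hsubU _ (X.Q_le haQ)) (hsubU _ (X.Q_le hbQ))
  refine le_trans ?_ (Finset.sum_le_sum_of_subset_of_nonneg hsub fun g hg _ => hnn g hg)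
  have c1 : ∑ g ∈ V1, F g = 22 := by simp [hV1, hF, val22]
  have cE : ∑ g ∈ VE, F g = 90 := by
    rw [Finset.sum_congr rfl (g := fun _ => (6 : ℤ)) fun g hg => by
      show val22 (orderOf g) (cn g) = 6
      rw [hEo g hg]; rfl]
    rw [Finset.sum_const, hVE, Finset.card_erase_of_mem (by simp [one_mem]), ← Fintype.card_subtype,
      ← Nat.card_eq_fintype_card, X.S.card]
    norm_num
  have c5 : ∑ g ∈ V5, F g = 4608 := by
    rw [Finset.sum_congr rfl (g := fun _ => (2 : ℤ)) fun g hg => by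
      show val22 (orderOf g) (cn g) = 2
      rw [o5 g hg]; rfl]
    rw [Finset.sum_const, hV5, Finset.card_union_of_disjoint (hdis _ _ hx2), hclass x hxH hx,
      hclass _ (pow_mem hxH 2) hx2o]
    norm_num
  have c3 : 1280 ≤ ∑ g ∈ V3', F g := by
    rw [Finset.sum_congr rfl (g := fun _ => (4 : ℤ)) fun g hg => by
      show val22 (orderOf g) (cn g) = 4
      rw [o3 g hg]; rfl]
    rw [Finset.sum_const, hV3, Finset.card_union_of_disjoint (hdis _ _ hab), nsmul_eq_mul]
    have h1 := hclass3 _ (X.Q_le haQ) ha3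
    have h2 := hclass3 _ (X.Q_le hbQ) hb3
    push_cast
    omega
  have d53 : Disjoint V5 V3' := Finset.disjoint_left.2 fun g h1 h2 => by
    have := o5 g h1; have := o3 g h2; omega
  have d1E : Disjoint V1 VE := Finset.disjoint_left.2 fun g h1 h2 => (Finset.mem_erase.1 h2).1 (Finset.mem_singleton.1 h1)
  have d : Disjoint (V1 ∪ VE) (V5 ∪ V3') := Finset.disjoint_left.2 fun g h1 h2 => by
    have ho : orderOf g = 5 ∨ orderOf g = 3 := (Finset.mem_union.1 h2).imp (o5 g) (o3 g)
    rcases Finset.mem_union.1 h1 with h | h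
    · rw [Finset.mem_singleton.1 h, orderOf_one] at ho; omega
    · have := hEo g h; omega
  rw [Finset.sum_union d, Finset.sum_union d1E, Finset.sum_union d53, c1, cE, c5]
  linarith

include C D in
theorem sum_R (hG : Nat.card G = 10200960) (T : ThreeLocal G) [Fintype T.R] :
    ∑ g : T.R, val22 (orderOf (g : G)) (cn (g : G)) = 216 ∧
      ∀ g ∈ T.R, g ∉ (T.Q : Subgroup G) → 2 ≤ val22 (orderOf g) (cn g) := by
  classical
  haveI := Fintype.ofFinite G
  haveI : Fact (Nat.Prime 3) := ⟨by norm_num⟩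
  set F : G → ℤ := fun g => val22 (orderOf g) (cn g) with hF
  set U := Finset.univ.filter fun g => g ∈ T.R with hU
  have hQ : ∀ g ∈ T.R, T.B.mat g = idM → (g = 1 ∧ F g = 22) ∨ (g ≠ 1 ∧ F g = 4) := by
    intro g hg hm
    obtain ⟨v, hv⟩ := (T.hQ g).1 ((T.mem_Q_iff (T.R_le hg)).2 hm)
    by_cases h1 : g = 1
    · exact Or.inl ⟨h1, by simp [hF, h1, val22]⟩
    · refine Or.inr ⟨h1, ?_⟩
      have : orderOf g = 3 := orderOf_eq_prime (by
        rw [← hv, ← T.B.el_nsmul, show (3 : ℕ) • v = 0 from ThreeLocal.nsmul_three v, T.B.el_zero]) h1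
      show val22 (orderOf g) (cn g) = 4
      rw [this]; rfl
  have hneg : ∀ g ∈ T.R, T.B.mat g = negM → F g = 6 := fun g hg hm => by
    show val22 (orderOf g) (cn g) = 6
    rw [T.inv_of_negM (T.R_le hg) hm]; rfl
  have hfour : ∀ g ∈ T.R, T.B.mat g ≠ idM → T.B.mat g ≠ negM → F g = 2 := fun g hg h1 h2 => by
    rcases T.outside hg (fun h => h1 ((T.mem_Q_iff (T.R_le hg)).1 h)) with h | h
    · exact absurd h.2 h2
    · show val22 (orderOf g) (cn g) = 2
      rw [C.cn_four D hG h.1, h.1]; rfl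
  refine ⟨?_, fun g hg hgQ => ?_⟩
  swap
  · rcases T.outside hg hgQ with h | h
    · rw [h.1, show val22 2 (cn g) = 6 from rfl]; norm_num
    · rw [C.cn_four D hG h.1, h.1, show val22 4 32 = 2 from rfl]
  show ∑ g : T.R, F (g : G) = 216
  rw [← Finset.sum_subtype U (by simp [hU]) F, ← Finset.sum_fiberwise_of_maps_to (g := T.B.mat) (t := quat.toFinset)
    fun g hg => List.mem_toFinset.2 (T.mat_of_mem (Finset.mem_filter.1 hg).2)]
  have hfib : ∀ m ∈ quat, (U.filter fun g => T.B.mat g = m).card = 9 := fun m hm => by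
    rw [← T.fibre m hm, ← Set.ncard_coe_finset]
    congr 1
    ext g
    simp [hU]
  have hval : ∀ m ∈ quat.toFinset, ∑ g ∈ U.filter (fun g => T.B.mat g = m), F g =
      if m = idM then (54 : ℤ) else if m = negM then 54 else 18 := by
    intro m hm
    have hm' := List.mem_toFinset.1 hm
    have hin : ∀ g ∈ U.filter (fun g => T.B.mat g = m), g ∈ T.R ∧ T.B.mat g = m := fun g hg =>
      ⟨(Finset.mem_filter.1 (Finset.mem_filter.1 hg).1).2, (Finset.mem_filter.1 hg).2⟩
    by_cases h1 : m = idM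
    · rw [if_pos h1]
      have h1m : (1 : G) ∈ U.filter fun g => T.B.mat g = m := by simp [hU, h1, one_mem, T.B.mat_one T.hQ]
      rw [← Finset.add_sum_erase _ _ h1m, Finset.sum_congr rfl (g := fun _ => (4 : ℤ)) fun g hg => by
        obtain ⟨hne, hg⟩ := Finset.mem_erase.1 hg
        rcases hQ g (hin g hg).1 ((hin g hg).2.trans h1) with h | h
        · exact absurd h.1 hne
        · exact h.2, Finset.sum_const, Finset.card_erase_of_mem h1m, hfib m hm']
      simp [hF, val22]
    by_cases h2 : m = negM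
    · rw [if_neg h1, if_pos h2, Finset.sum_congr rfl (g := fun _ => (6 : ℤ)) fun g hg =>
        hneg g (hin g hg).1 ((hin g hg).2.trans h2), Finset.sum_const, hfib m hm']
      norm_num
    rw [if_neg h1, if_neg h2, Finset.sum_congr rfl (g := fun _ => (2 : ℤ)) fun g hg =>
      hfour g (hin g hg).1 (fun e => h1 ((hin g hg).2.symm.trans e)) (fun e => h2 ((hin g hg).2.symm.trans e)),
      Finset.sum_const, hfib m hm']
    norm_num
  rw [Finset.sum_congr rfl hval]
  exact ThreeLocal.quat_sum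

include C D in
/-- A vector fixed by both subgroups. -/
theorem exists_vector (hG : Nat.card G = 10200960) (X : Point G) :
    ∃ K : Subgroup G, K ≠ ⊤ ∧ X.H1 ≤ K ∧ X.T.R ≤ K := by
  classical
  haveI := Fintype.ofFinite G
  obtain ⟨n, ρ, hρi, hρ⟩ : IsIrrCharacter G (D.c22 : G → ℂ) := D.c22.2
  have hchar : ∀ g : G, ρ.character g = (val22 (orderOf g) (cn g) : ℂ) := fun g => by
    rw [← C.val_int D hG g, ← hρ]
  have hfix : ∀ (H : Subgroup G) [Fintype H], ∑ h : H, val22 (orderOf (h : G)) (cn (h : G)) =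
      (Nat.card H : ℤ) * (Module.finrank ℂ (fixSpace ρ H) : ℤ) := by
    intro H _
    apply Int.cast_injective (α := ℂ)
    push_cast
    rw [← fixSpace_sum ρ H]
    exact Finset.sum_congr rfl fun h _ => (hchar h).symm
  have h1 : 2 ≤ Module.finrank ℂ (fixSpace ρ X.H1) := by
    have h := C.sum_H1 D hG X
    rw [hfix X.H1, X.card_H1] at h
    push_cast at h
    omega
  obtain ⟨hR, hout⟩ := C.sum_R D hG X.T
  have h2 : Module.finrank ℂ (fixSpace ρ X.T.R) = 3 := by
    rw [hfix X.T.R, X.T.card_R] at hR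
    push_cast at hR
    omega
  set A := X.T.R ⊓ X.H1 with hA
  have h3 : Module.finrank ℂ (fixSpace ρ A) ≤ 4 := by
    set F : G → ℤ := fun g => val22 (orderOf g) (cn g) with hF
    set U := Finset.univ.filter fun g => g ∈ X.T.R with hU
    set W := Finset.univ.filter fun g => g ∈ A with hW
    have eA : ∑ g : A, F (g : G) = ∑ g ∈ W, F g := (Finset.sum_subtype W (by simp [hW]) F).symm
    have eR : ∑ g : X.T.R, F (g : G) = ∑ g ∈ U, F g := (Finset.sum_subtype U (by simp [hU]) F).symm
    have hWU : W ⊆ U := fun g hg => Finset.mem_filter.2 ⟨Finset.mem_univ _, (Finset.mem_filter.1 hg).2.1⟩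
    have hle : ((U \ W).card : ℤ) * 2 ≤ ∑ g ∈ U \ W, F g := by
      rw [← nsmul_eq_mul]
      refine Finset.card_nsmul_le_sum _ _ _ fun g hg => ?_
      obtain ⟨hgU, hgW⟩ := Finset.mem_sdiff.1 hg
      refine hout g (Finset.mem_filter.1 hgU).2 fun hq => hgW (Finset.mem_filter.2 ⟨Finset.mem_univ _, ?_⟩)
      exact ⟨(Finset.mem_filter.1 hgU).2, X.Q_le hq⟩
    have hc : (U \ W).card = 36 := by
      rw [Finset.card_sdiff_of_subset hWU, hU, hW, ← Fintype.card_subtype, ← Fintype.card_subtype,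
        ← Nat.card_eq_fintype_card, ← Nat.card_eq_fintype_card, X.T.card_R, hA, X.card_A]
    rw [hc] at hle
    push_cast at hle
    change ∑ g : X.T.R, F (g : G) = 216 at hR
    rw [eR, ← Finset.sum_sdiff hWU] at hR
    have h := hfix A
    change ∑ g : A, F (g : G) = _ at h
    rw [eA, show Nat.card A = 36 from X.card_A] at h
    push_cast at h
    omega
  have hsub : fixSpace ρ X.H1 ⊔ fixSpace ρ X.T.R ≤ fixSpace ρ A :=
    sup_le (fun v hv => mem_fixSpace.2 fun g hg => mem_fixSpace.1 hv g hg.2)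
      (fun v hv => mem_fixSpace.2 fun g hg => mem_fixSpace.1 hv g hg.1)
  have hpos : 0 < Module.finrank ℂ (fixSpace ρ X.H1 ⊓ fixSpace ρ X.T.R : Submodule ℂ (Fin n → ℂ)) := by
    have e := Submodule.finrank_sup_add_finrank_inf_eq (fixSpace ρ X.H1) (fixSpace ρ X.T.R)
    have := Submodule.finrank_mono hsub
    omega
  obtain ⟨⟨v, hv⟩, hv0⟩ := Module.finrank_pos_iff_exists_ne_zero.1 hpos
  have hv0' : v ≠ 0 := fun h => hv0 (Subtype.ext h)
  let K : Subgroup G :=
    { carrier := {g | ρ g v = v}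
      one_mem' := by simp
      mul_mem' := fun {a b} ha hb => by
        show ρ (a * b) v = v
        rw [map_mul]
        show ρ a (ρ b v) = v
        rw [hb, ha]
      inv_mem' := fun {a} ha => by
        show ρ a⁻¹ v = v
        conv_lhs => rw [← show ρ a v = v from ha]
        rw [← Module.End.mul_apply, ← map_mul, inv_mul_cancel, map_one]
        rfl }
  refine ⟨K, fun hK => ?_, fun g hg => mem_fixSpace.1 hv.1 g hg, fun g hg => mem_fixSpace.1 hv.2 g hg⟩
  have hall : fixSpace ρ ⊤ = ⊥ := by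
    refine Submodule.finrank_eq_zero.1 ?_
    have h := fixSpace_sum ρ (⊤ : Subgroup G)
    have hsum : ∑ x : G, (D.c22 : G → ℂ) x = 0 := by
      have hne : D.c22 ≠ trivialIrr G := fun e => by
        have := congrArg dg e
        rw [dg_trivial, D.deg_list.1] at this
        norm_num at this
      have h := classInner_irr_eq_ite D.c22.2 (trivialIrr G).2
      rw [classInner, inv_mul_eq_iff_eq_mul₀ (Nat.cast_ne_zero.2 Nat.card_pos.ne'),
        if_neg (fun e => hne (Subtype.ext e)), mul_zero] at h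
      simpa [trivial_value] using h
    have e : ∑ h : (⊤ : Subgroup G), ρ.character h = 0 := by
      rw [← hsum, ← hρ]
      exact Fintype.sum_equiv Subgroup.topEquiv.toEquiv _ _ fun _ => rfl
    rw [e, eq_comm, mul_eq_zero] at h
    exact_mod_cast h.resolve_left (Nat.cast_ne_zero.2 Nat.card_pos.ne')
  have : v ∈ fixSpace ρ ⊤ := mem_fixSpace.2 fun g _ => (show g ∈ K from hK ▸ Subgroup.mem_top g)
  rw [hall, Submodule.mem_bot] at this
  exact hv0' this

end Classes

end Cfsg.Agent.Invol.M23Ord
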