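import Mathlib
import Cfsg.Agent.Lib.Invol.Order10200960.FixedVector

/-!
Simple groups of order 10200960 have a subgroup of index 23.
-/

set_option autoImplicit false
set_option linter.style.haveILetI false
set_option linter.unusedSectionVars false

namespace Cfsg.Agent.Invol.M23Ord

open scoped ComplexConjugate
open Cfsg Cfsg.Agent.Block Cfsg.Agent.Char Cfsg.Agent.Invol.M12Ord
open Cfsg.Agent.Invol.M22Ord (PBlk)

universe u

variable {G : Type u} [Group G] [Finite G]

/-- Counting the Sylow subgroups of a subgroup, at a prime with a block. -/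
theorem sylow_count [IsSimpleGroup G] {p e c : ℕ} [Fact p.Prime] (B : PBlk G p e) (hC : Nat.card B.C = p * c) (K : Subgroup G)
    (hK : p ∣ Nat.card K) :
    ∃ d n, d ∣ e * (p * c) ∧ p ∣ d ∧ n * d = Nat.card K ∧ n % p = 1 := by
  classical
  have hp : p.Prime := Fact.out
  obtain ⟨P⟩ : Nonempty (Sylow p K) := inferInstance
  set P' := (P : Subgroup K).map K.subtype with hP'
  obtain ⟨Q, hQ⟩ := (P.isPGroup'.map K.subtype : IsPGroup p P').exists_le_sylow
  have hQc : Nat.card (Q : Subgroup G) = p := by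
    rw [Q.card_eq_multiplicity, ← B.P.card_eq_multiplicity]; exact B.hP
  have hPc : Nat.card (P : Subgroup K) = p := by
    have h1 : p ∣ Nat.card (P : Subgroup K) := P.dvd_card_of_dvd_card hK
    have h2 : Nat.card P' ∣ p := hQc ▸ Subgroup.card_dvd_of_le hQ
    rw [hP', ← Nat.card_congr ((P : Subgroup K).equivMapOfInjective _ K.subtype_injective).toEquiv] at h2
    exact Nat.dvd_antisymm h2 h1
  have heq : P' = (Q : Subgroup G) := Subgroup.eq_of_le_of_card_ge hQ (by
    rw [hQc, hP', ← Nat.card_congr ((P : Subgroup K).equivMapOfInjective _ K.subtype_injective).toEquiv, hPc])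
  have hN : Nat.card (Subgroup.normalizer ((Q : Subgroup G) : Set G)) = e * (p * c) := by
    have h1 : (Subgroup.normalizer ((Q : Subgroup G) : Set G)).index =
        (Subgroup.normalizer ((B.P : Subgroup G) : Set G)).index :=
      Q.card_eq_index_normalizer.symm.trans B.P.card_eq_index_normalizer
    have h2 := Subgroup.card_mul_index (Subgroup.normalizer ((Q : Subgroup G) : Set G))
    have h3 := Subgroup.card_mul_index (Subgroup.normalizer ((B.P : Subgroup G) : Set G))
    rw [h1, ← h3, B.card_N hC] at h2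
    exact Nat.eq_of_mul_eq_mul_right (Nat.pos_of_ne_zero Subgroup.index_ne_zero_of_finite) h2
  set NK := Subgroup.normalizer ((P : Subgroup K) : Set K) with hNK
  refine ⟨Nat.card NK, NK.index, ?_, ?_, ?_, ?_⟩
  · rw [← hN, Nat.card_congr (NK.equivMapOfInjective _ K.subtype_injective).toEquiv, ← heq]
    exact Subgroup.card_dvd_of_le (Subgroup.le_normalizer_map K.subtype)
  · rw [← hPc]
    exact Subgroup.card_dvd_of_le Subgroup.le_normalizer
  · rw [mul_comm]; exact Subgroup.card_mul_index NK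
  · have h := card_sylow_modEq_one p K
    rw [P.card_eq_index_normalizer] at h
    unfold Nat.ModEq at h
    rw [Nat.one_mod_eq_one.2 hp.ne_one] at h
    exact h

variable [IsSimpleGroup G]
variable [Fact (Nat.Prime 5)] [Fact (Nat.Prime 7)] [Fact (Nat.Prime 11)] [Fact (Nat.Prime 23)]

namespace Classes

variable (C : Classes G) (D : Data G)

include C D in
/-- The overgroup does not have index 253. -/
theorem no_253 (hG : Nat.card G = 10200960) (X : Point G) {K : Subgroup G} (h1 : X.H1 ≤ K) (hR : X.T.R ≤ K)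
    (hK : Nat.card K = 40320) : False := by
  classical
  haveI : Fact (Nat.Prime 2) := ⟨Nat.prime_two⟩
  obtain ⟨x', hx'⟩ := exists_prime_orderOf_dvd_card' (G := X.H1) 5 (by rw [X.card_H1]; norm_num)
  rw [← Subgroup.orderOf_coe] at hx'
  obtain ⟨x, hxH, hx⟩ : ∃ x ∈ X.H1, orderOf x = 5 := ⟨x', x'.2, hx'⟩
  have hx5 : x ^ 5 = 1 := by rw [← hx]; exact pow_orderOf_eq_one x
  -- two-groups normalized by `x`
  have hmod : ∀ V : Subgroup G, x ∈ Subgroup.normalizer (V : Set G) → (∃ n, Nat.card V = 2 ^ n) →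
      Nat.card V % 5 = 1 := by
    rintro V hxV ⟨n, hn⟩
    have h := fixed_mod_sub hx5 hxV
    have hd1 := Subgroup.card_dvd_of_le (inf_le_right : V ⊓ Subgroup.centralizer ({x} : Set G) ≤ _)
    have hd2 := Subgroup.card_dvd_of_le (inf_le_left : V ⊓ Subgroup.centralizer ({x} : Set G) ≤ V)
    rw [show Nat.card (Subgroup.centralizer ({x} : Set G)) = 15 from D.toFrame.cn_five hG hx] at hd1
    rw [hn] at hd2
    rw [Nat.eq_one_of_dvd_coprimes (Nat.Coprime.pow_right n (by norm_num : Nat.Coprime 15 2)) hd1 hd2] at h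
    omega
  have hH1N : X.H1 ≤ Subgroup.normalizer (X.S.E : Set G) := X.hN ▸ X.H1_le
  have hEH1 : X.S.E ≤ X.H1 := fun g hg => (X.mem_H1 ⟨g, X.toBlock16.E_le hg⟩).2
    (by rw [X.toBlock16.ψ_of_mem (g := ⟨g, X.toBlock16.E_le hg⟩) hg]; rfl)
  -- the core
  set M0 := (X.H1.subgroupOf K).normalCore with hM0
  have hidx : (X.H1.subgroupOf K).index = 7 := by
    have h := Subgroup.card_mul_index (X.H1.subgroupOf K)
    rw [Nat.card_congr (Subgroup.subgroupOfEquivOfLe h1).toEquiv, X.card_H1, hK] at h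
    omega
  have hM8 : 8 ≤ Nat.card M0 := by
    have hd : M0.index ∣ 5040 := by
      rw [hM0, Subgroup.normalCore_eq_ker, Subgroup.index_ker]
      refine (Subgroup.card_subgroup_dvd_card _).trans (dvd_of_eq ?_)
      rw [Nat.card_perm, ← Subgroup.index_eq_card, hidx]
      rfl
    have h := Subgroup.card_mul_index M0
    rw [hK] at h
    have := Nat.le_of_dvd (by norm_num) hd
    nlinarith
  set M := M0.map K.subtype with hM
  have hMc : Nat.card M = Nat.card M0 := (Nat.card_congr (M0.equivMapOfInjective _ K.subtype_injective).toEquiv).symm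
  have hMH1 : M ≤ X.H1 := by
    rintro _ ⟨g, hg, rfl⟩
    exact Subgroup.mem_subgroupOf.1 (Subgroup.normalCore_le _ hg)
  have hKM : K ≤ Subgroup.normalizer (M : Set G) := by
    rw [← Subgroup.normal_subgroupOf_iff_le_normalizer (Subgroup.map_subtype_le _)]
    show ((M0.map K.subtype).comap K.subtype).Normal
    rw [Subgroup.comap_map_eq_self_of_injective K.subtype_injective]
    infer_instance
  have hpow : ∀ A : Subgroup G, A ≤ X.S.E → ∃ n ≤ 4, Nat.card A = 2 ^ n := fun A hA =>
    (Nat.dvd_prime_pow Nat.prime_two).1 (by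
      have := Subgroup.card_dvd_of_le hA
      rwa [X.S.card] at this)
  have hEM : X.S.E ≤ M := by
    have hne : M ⊓ X.S.E ≠ ⊥ := by
      intro h
      have hle : M ≤ Subgroup.centralizer (X.S.E : Set G) := fun m hm => Subgroup.mem_centralizer_iff.2 fun e he => by
        have h1' : m * e * m⁻¹ * e⁻¹ ∈ M ⊓ X.S.E := by
          refine Subgroup.mem_inf.2 ⟨?_, mul_mem ((Subgroup.mem_normalizer_iff.1 (hH1N (hMH1 hm)) e).1 he) (inv_mem he)⟩
          rw [show m * e * m⁻¹ * e⁻¹ = m * (e * m⁻¹ * e⁻¹) by group]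
          exact mul_mem hm ((Subgroup.mem_normalizer_iff.1 (hKM (h1 (hEH1 he))) m⁻¹).1 (inv_mem hm))
        rw [h, Subgroup.mem_bot] at h1'
        rw [mul_inv_eq_one, mul_inv_eq_iff_eq_mul] at h1'
        exact h1'.symm
      rw [X.S.cen] at hle
      rw [inf_eq_left.2 hle] at h
      rw [h, Subgroup.card_bot] at hMc
      omega
    obtain ⟨n, hn4, hn⟩ := hpow _ (inf_le_right : M ⊓ X.S.E ≤ X.S.E)
    have hmod' := hmod (M ⊓ X.S.E) (M22Ord.mem_normalizer_of_inv
      ((M22Ord.inv_normalizer (hKM (h1 hxH))).inf (M22Ord.inv_normalizer (hH1N hxH)))) ⟨n, hn⟩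
    have hn0 : n ≠ 0 := fun h0 => hne (Subgroup.eq_bot_of_card_eq _ (by rw [hn, h0, pow_zero]))
    have hn' : n = 4 := by rw [hn] at hmod'; interval_cases n <;> first | rfl | omega | (norm_num at hmod')
    have := Subgroup.eq_of_le_of_card_ge (inf_le_right : M ⊓ X.S.E ≤ X.S.E) (by rw [X.S.card, hn, hn']; norm_num)
    exact this ▸ inf_le_left
  -- the largest normal two-subgroup of the core
  obtain ⟨P⟩ : Nonempty (Sylow 2 M) := inferInstance
  set V := ((P : Subgroup M).normalCore).map M.subtype with hV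
  have hVp : IsPGroup 2 V := (P.isPGroup'.to_le (Subgroup.normalCore_le _)).map _
  have hmax : ∀ W : Subgroup G, W ≤ M → M ≤ Subgroup.normalizer (W : Set G) → IsPGroup 2 W → W ≤ V := by
    intro W hW hWn hWp
    haveI : (W.subgroupOf M).Normal := (Subgroup.normal_subgroupOf_iff_le_normalizer hW).2 hWn
    obtain ⟨P0, hP0⟩ := (hWp.of_equiv (Subgroup.subgroupOfEquivOfLe hW).symm).exists_le_sylow
    obtain ⟨g, rfl⟩ := MulAction.exists_smul_eq M P0 P
    have hle : W.subgroupOf M ≤ ((g • P0 : Sylow 2 M) : Subgroup M) := fun w hw => by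
      have h' : g⁻¹ * w * g ∈ W.subgroupOf M := by
        have := Subgroup.Normal.conj_mem ‹_› w hw g⁻¹
        rwa [inv_inv] at this
      have := Subgroup.smul_mem_pointwise_smul _ (MulAut.conj g) (P0 : Subgroup M) (hP0 h')
      rwa [MulAut.smul_def, MulAut.conj_apply, show g * (g⁻¹ * w * g) * g⁻¹ = w by group] at this
    intro w hw
    exact ⟨⟨w, hW hw⟩, Subgroup.normal_le_normalCore.2 hle (Subgroup.mem_subgroupOf.2 hw), rfl⟩
  have hEV : X.S.E ≤ V := hmax _ hEM (hMH1.trans hH1N) (IsPGroup.of_card (n := 4) (by rw [X.S.card]; norm_num))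
  have hVM : V ≤ M := Subgroup.map_subtype_le _
  have hMV : M ≤ Subgroup.normalizer (V : Set G) := by
    rw [← Subgroup.normal_subgroupOf_iff_le_normalizer hVM]
    show (((P : Subgroup M).normalCore.map M.subtype).comap M.subtype).Normal
    rw [Subgroup.comap_map_eq_self_of_injective M.subtype_injective]
    infer_instance
  have hKV : K ≤ Subgroup.normalizer (V : Set G) := fun k hk => by
    refine M22Ord.mem_normalizer_of_inv fun v hv => ?_
    refine hmax (V.map (MulAut.conj k).toMonoidHom) ?_ ?_ (hVp.map _) ⟨v, hv, rfl⟩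
    · rintro _ ⟨w, hw, rfl⟩
      exact (Subgroup.mem_normalizer_iff.1 (hKM hk) w).1 (hVM hw)
    · intro m hm
      refine M22Ord.mem_normalizer_of_inv fun y hy => ?_
      obtain ⟨w, hw, rfl⟩ := hy
      have hm' : k⁻¹ * m * k ∈ M := (Subgroup.mem_normalizer_iff''.1 (hKM hk) m).1 hm
      refine ⟨k⁻¹ * m * k * w * (k⁻¹ * m * k)⁻¹, (Subgroup.mem_normalizer_iff.1 (hMV hm') w).1 hw, ?_⟩
      simp only [MulEquiv.coe_toMonoidHom, MulAut.conj_apply]
      group
  obtain ⟨n, hn⟩ := (IsPGroup.iff_card).1 hVp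
  have hVd : Nat.card V ∣ 5760 := X.card_H1 ▸ Subgroup.card_dvd_of_le (hVM.trans hMH1)
  have hn4 : 4 ≤ n := by
    have := Subgroup.card_dvd_of_le hEV
    rw [X.S.card, hn] at this
    exact (Nat.pow_dvd_pow_iff_le_right (by norm_num : 1 < 2)).1 (show 2 ^ 4 ∣ 2 ^ n from this)
  have hn7 : n ≤ 7 := (Nat.pow_dvd_pow_iff_le_right (by norm_num : 1 < 2)).1
    (Nat.Coprime.dvd_of_dvd_mul_right (Nat.Coprime.pow_left n (by norm_num : Nat.Coprime 2 45))
      (show 2 ^ n ∣ 2 ^ 7 * 45 from hn ▸ hVd))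
  have hmodV := hmod V (hKV (h1 hxH)) ⟨n, hn⟩
  have hn' : n = 4 := by rw [hn] at hmodV; interval_cases n <;> first | rfl | omega | (norm_num at hmodV)
  have hEq : X.S.E = V := Subgroup.eq_of_le_of_card_ge hEV (by rw [X.S.card, hn, hn']; norm_num)
  exact X.not_R (hR.trans (by rw [X.hN, hEq]; exact hKV))

include C D in
/-- A subgroup of index twenty-three containing the group of shape 2⁴.A₆. -/
theorem exists_index_twentythree (hG : Nat.card G = 10200960) :
    ∃ (X : Point G) (K : Subgroup G), X.H1 ≤ K ∧ K.index = 23 := by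
  obtain ⟨X⟩ := C.exists_point D hG
  obtain ⟨K, hKtop, h1, hR⟩ := C.exists_vector D hG X
  refine ⟨X, K, h1, ?_⟩
  have hge := M23Ord.index_ge hG hKtop
  have hmul := Subgroup.card_mul_index K
  rw [hG] at hmul
  obtain ⟨m, hm⟩ := Subgroup.card_dvd_of_le h1
  rw [X.card_H1] at hm
  have hd : K.index ∣ 1771 := by
    refine ⟨m, ?_⟩
    have : 5760 * (K.index * m) = 5760 * 1771 := by rw [← mul_assoc, mul_comm 5760, mul_assoc, ← hm, mul_comm]; omega
    exact (Nat.eq_of_mul_eq_mul_left (by norm_num : 0 < 5760) this).symm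
  have hi : K.index ∈ Nat.divisors 1771 := Nat.mem_divisors.2 ⟨hd, by norm_num⟩
  rw [show Nat.divisors 1771 = {1, 7, 11, 23, 77, 161, 253, 1771} by decide +kernel] at hi
  simp only [Finset.mem_insert, Finset.mem_singleton] at hi
  by_contra hne
  rcases hi with h | h | h | h | h | h | h | h <;> rw [h] at hmul hge hne
  · omega
  · omega
  · omega
  · exact hne rfl
  · have hKc : Nat.card K = 132480 := by omega
    obtain ⟨d, n, hd, hpd, hn, hn1⟩ := sylow_count D.A.1 (c := 1) D.A.2 K (by rw [hKc]; norm_num)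
    rw [hKc] at hn
    have hd2 : d ∣ 132480 := ⟨n, by rw [← hn, mul_comm]⟩
    have h23 : d = 23 := Nat.dvd_antisymm ((Nat.dvd_gcd hd hd2).trans (by norm_num)) hpd
    rw [h23] at hn
    omega
  · have hKc : Nat.card K = 63360 := by omega
    obtain ⟨d, n, hd, hpd, hn, hn1⟩ := sylow_count D.E.1 (c := 1) D.E.2 K (by rw [hKc]; norm_num)
    rw [hKc] at hn
    obtain ⟨j, rfl⟩ := hpd
    have hj : j ∣ 5 := Nat.dvd_of_mul_dvd_mul_left (by norm_num : 0 < 11) (hd.trans (by norm_num))
    rcases (Nat.dvd_prime (by norm_num : Nat.Prime 5)).1 hj with rfl | rfl <;> omega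
  · exact C.no_253 D hG X h1 hR (by omega)
  · exact X.not_R ((hR.trans (le_of_eq (Subgroup.eq_of_le_of_card_ge h1 (by rw [X.card_H1]; omega)).symm)).trans
      X.H1_le)

end Classes

end Cfsg.Agent.Invol.M23Ord
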