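import Mathlib
import Cfsg.Agent.Lib.Invol.Order10200960.Values
import Cfsg.Agent.Lib.Block.PermChar

/-!
Simple groups of order 10200960 acting transitively on twenty-three points: the numbers of fixed points.
-/

set_option autoImplicit false
set_option linter.style.haveILetI false
set_option linter.unusedSectionVars false

namespace Cfsg.Agent.Invol.M23Ord

open scoped ComplexConjugate
open Cfsg Cfsg.Agent.Block Cfsg.Agent.Char Cfsg.Agent.Invol.M12Ord
open Cfsg.Agent.Block.PermChar

universe u

variable {G : Type u} [Group G] [Finite G] [IsSimpleGroup G]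
variable [Fact (Nat.Prime 5)] [Fact (Nat.Prime 7)] [Fact (Nat.Prime 11)] [Fact (Nat.Prime 23)]

namespace Classes

variable (C : Classes G) (D : Data G)

include C D in
/-- The permutation character of a transitive action of degree twenty-three. -/
theorem fix_count (hG : Nat.card G = 10200960) {Ω : Type u} [Fintype Ω] [DecidableEq Ω] [MulAction G Ω]
    [MulAction.IsPretransitive G Ω] (hΩ : Fintype.card Ω = 23) (g : G) :
    (Nat.card (MulAction.fixedBy Ω g) : ℤ) = 1 + val22 (orderOf g) (cn g) := by
  classical
  haveI := Fintype.ofFinite G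
  choose a ha using fun χ : IrrCharacter G => exists_mult (G := G) (Ω := Ω) χ
  have hdec : ∀ g : G, piFun G Ω g = ∑ χ : IrrCharacter G, (a χ : ℂ) * (χ : G → ℂ) g := fun g => by
    conv_lhs => rw [piFun_decomp (G := G) (Ω := Ω)]
    rw [Finset.sum_apply]
    exact Finset.sum_congr rfl fun χ _ => by rw [Pi.smul_apply, smul_eq_mul, ha χ]
  have htriv : a (trivialIrr G) = 1 := by
    haveI : Nonempty Ω := Fintype.card_pos_iff.1 (by rw [hΩ]; norm_num)
    haveI := Fintype.ofFinite (MulAction.orbitRel.Quotient G Ω)
    have hq : Fintype.card (MulAction.orbitRel.Quotient G Ω) = 1 := by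
      haveI := (MulAction.pretransitive_iff_subsingleton_quotient G Ω).1 inferInstance
      obtain ⟨x⟩ := (inferInstance : Nonempty Ω)
      exact Fintype.card_eq_one_iff.2 ⟨⟦x⟧, fun y => Subsingleton.elim _ _⟩
    have hb := MulAction.sum_card_fixedBy_eq_card_orbits_mul_card_group G Ω
    rw [hq, one_mul] at hb
    have h := ha (trivialIrr G)
    rw [mult, classInner] at h
    have e : ∑ g : G, piFun G Ω g * conj ((trivialIrr G : G → ℂ) g) = (Nat.card G : ℂ) := by
      rw [Nat.card_eq_fintype_card, ← hb, Nat.cast_sum]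
      refine Finset.sum_congr rfl fun g _ => ?_
      show (Nat.card (MulAction.fixedBy Ω g) : ℂ) * conj (1 : ℂ) = _
      rw [map_one, mul_one, Nat.card_eq_fintype_card]
    rw [e, inv_mul_cancel₀ (Nat.cast_ne_zero.2 Nat.card_pos.ne')] at h
    exact_mod_cast h.symm
  have h23 : ∑ χ : IrrCharacter G, a χ * dg χ = 23 := by
    have h := hdec 1
    have e : piFun G Ω (1 : G) = 23 := by
      show (Nat.card (MulAction.fixedBy Ω (1 : G)) : ℂ) = 23
      rw [show MulAction.fixedBy Ω (1 : G) = Set.univ from Set.ext fun x => by simp,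
        Nat.card_congr (Equiv.Set.univ Ω), Nat.card_eq_fintype_card, hΩ]
      norm_num
    simp only [value_one] at h
    rw [e] at h
    exact_mod_cast h.symm
  have hne : trivialIrr G ≠ D.c22 := fun e => by
    have := congrArg dg e
    rw [dg_trivial, D.deg_list.1] at this
    norm_num at this
  have hzero : ∀ χ : IrrCharacter G, χ ≠ trivialIrr G → χ ≠ D.c22 → a χ = 0 := by
    intro χ h1 h2
    have hbig : 45 ≤ dg χ := by
      obtain ⟨d22, d45, d45', d230, d231, d231b, d231c, d253, d770, d770', d896, d896', d990, d990', d1035, d2024⟩ :=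
        D.deg_list
      have hm : χ ∈ (Finset.univ : Finset (IrrCharacter G)).val := Finset.mem_univ_val χ
      rw [D.univ_eq] at hm
      simp only [Multiset.mem_coe, List.mem_cons, List.not_mem_nil, or_false] at hm
      rcases hm with rfl | rfl | rfl | rfl | rfl | rfl | rfl | rfl | rfl | rfl | rfl | rfl | rfl | rfl | rfl | rfl | rfl
      all_goals first | exact absurd rfl h1 | exact absurd rfl h2 | omega
    rcases Nat.eq_zero_or_pos (a χ) with e | e
    · exact e
    exfalso
    have hle := Finset.single_le_sum (f := fun χ => a χ * dg χ) (fun _ _ => Nat.zero_le _) (Finset.mem_univ χ)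
    rw [h23] at hle
    have := Nat.le_mul_of_pos_left (dg χ) e
    omega
  have h22 : a D.c22 = 1 := by
    rw [Finset.sum_eq_add (trivialIrr G) D.c22 hne
      (fun χ _ hc => by rw [hzero χ hc.1 hc.2, zero_mul]) (by simp) (by simp), htriv, dg_trivial, D.deg_list.1] at h23
    omega
  have h := hdec g
  rw [Finset.sum_eq_add (trivialIrr G) D.c22 hne
    (fun χ _ hc => by rw [hzero χ hc.1 hc.2, Nat.cast_zero, zero_mul]) (by simp) (by simp), htriv, h22,
    Nat.cast_one, one_mul, one_mul, trivial_value, C.val22_eq D hG g] at h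
  change (Nat.card (MulAction.fixedBy Ω g) : ℂ) = 1 + _ at h
  apply Int.cast_injective (α := ℂ)
  push_cast
  exact h

end Classes

end Cfsg.Agent.Invol.M23Ord
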