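import Mathlib
import Cfsg.Agent.Lib.Invol.Order10200960.IndexTwentyThree
import Cfsg.Agent.Lib.Invol.Order10200960.PointCount

/-!
Simple groups of order 10200960 on twenty-three points: the elementary subgroup of order sixteen fixes a block
of seven points and is regular on the others; its normalizer is five-transitive on the block.
-/

set_option autoImplicit false
set_option linter.style.haveILetI false
set_option linter.unusedSectionVars false

namespace Cfsg.Agent.Invol.M23Ord

open scoped ComplexConjugate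
open Cfsg Cfsg.Agent.Block Cfsg.Agent.Char Cfsg.Agent.Invol.M12Ord

universe u

variable {G : Type u} [Group G] [Finite G]

/-- A transitive action on twenty-three points with the fixed block of the subgroup of order sixteen. -/
structure Blk (G : Type u) [Group G] [Finite G] (Ω : Type u) [Fintype Ω] [MulAction G Ω] where
  B : Block16 G
  pre : MulAction.IsPretransitive G Ω
  card23 : Fintype.card Ω = 23
  F : Finset Ω
  card7 : F.card = 7
  mem_F : ∀ x, x ∈ F ↔ ∀ e ∈ B.S.E, e • x = x
  regular : ∀ x y, x ∉ F → y ∉ F → ∃ e ∈ B.S.E, e • x = y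
  stable : ∀ n ∈ B.N, ∀ x ∈ F, n • x ∈ F
  multi : ∀ k, k ≤ 5 → ∀ p q : Fin k ↪ Ω, (∀ i, p i ∈ F) → (∀ i, q i ∈ F) → ∃ n ∈ B.N, n • p = q
  fix_five : ∀ g : G, orderOf g = 5 → Nat.card (MulAction.fixedBy Ω g) = 3
  fix_seven : ∀ g : G, orderOf g = 7 → Nat.card (MulAction.fixedBy Ω g) = 2
  fix_eleven : ∀ g : G, orderOf g = 11 → Nat.card (MulAction.fixedBy Ω g) = 1

variable [IsSimpleGroup G]
variable [Fact (Nat.Prime 5)] [Fact (Nat.Prime 7)] [Fact (Nat.Prime 11)] [Fact (Nat.Prime 23)]

namespace Classes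

variable (C : Classes G) (D : Data G)

include C D in
theorem exists_blk (hG : Nat.card G = 10200960) :
    ∃ (Ω : Type u) (_ : Fintype Ω) (_ : MulAction G Ω), Nonempty (Blk G Ω) := by
  classical
  obtain ⟨X, K, h1, hK⟩ := C.exists_index_twentythree D hG
  letI : Fintype (G ⧸ K) := Fintype.ofFinite _
  refine ⟨G ⧸ K, inferInstance, inferInstance, ?_⟩
  set B := X.toBlock16 with hB
  have h23 : Fintype.card (G ⧸ K) = 23 := by
    rw [← Nat.card_eq_fintype_card, ← Subgroup.index_eq_card, hK]
  haveI := Fintype.ofFinite G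
  have hfc : ∀ g : G, (Nat.card (MulAction.fixedBy (G ⧸ K) g) : ℤ) = 1 + val22 (orderOf g) (cn g) :=
    C.fix_count D hG h23
  set o : G ⧸ K := ((1 : G) : G ⧸ K) with ho
  have hstab : MulAction.stabilizer G o = K := MulAction.stabilizer_quotient K
  have hEN : B.S.E ≤ B.N := B.E_le
  have hEH1 : B.S.E ≤ X.H1 := fun g hg => (X.mem_H1 ⟨g, hEN hg⟩).2
    (by rw [B.ψ_of_mem (g := ⟨g, hEN hg⟩) hg]; rfl)
  have hconj : ∀ n ∈ B.N, ∀ e ∈ B.S.E, n⁻¹ * e * n ∈ B.S.E := fun n hn e he => by
    rw [B.hN] at hn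
    exact (Subgroup.mem_normalizer_iff''.1 hn e).1 he
  set F := Finset.univ.filter fun x : G ⧸ K => ∀ e ∈ B.S.E, e • x = x with hF
  have hFmem : ∀ x, x ∈ F ↔ ∀ e ∈ B.S.E, e • x = x := fun x => by simp [hF]
  have hstable : ∀ n ∈ B.N, ∀ x ∈ F, n • x ∈ F := fun n hn x hx => (hFmem _).2 fun e he => by
    rw [show e • n • x = n • ((n⁻¹ * e * n) • x) by rw [← mul_smul, ← mul_smul]; congr 1; group,
      (hFmem x).1 hx _ (hconj n hn e he)]
  have hoF : o ∈ F := (hFmem o).2 fun e he => by
    rw [← MulAction.mem_stabilizer_iff, hstab]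
    exact h1 (hEH1 he)
  -- the normalizer does not fix the point
  have hnotle : ¬ B.N ≤ K := by
    intro hle
    obtain ⟨u, z, hu, -, hut, -⟩ := C.exists_partners D hG B.S.ht
    have hCN : Subgroup.centralizer ({B.t} : Set G) ≤ B.N := B.hN ▸ B.S.norm
    have hmem : u * B.t ∈ K := hle (mul_mem (hCN (Subgroup.mem_centralizer_singleton_iff.2 hut.eq))
      (hEN B.S.t_mem))
    have h14 : orderOf (u * B.t) = 14 := by
      rw [hut.orderOf_mul_eq_mul_orderOf_of_coprime (by rw [hu, B.S.ht]; norm_num), hu, B.S.ht]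
    have h := hfc (u * B.t)
    rw [h14, show val22 14 (cn (u * B.t)) = -1 from rfl] at h
    have hz : Nat.card (MulAction.fixedBy (G ⧸ K) (u * B.t)) = 0 := by omega
    rw [Nat.card_eq_zero] at hz
    rcases hz with hz | hz
    · exact hz.false ⟨o, show (u * B.t) • o = o by rw [← MulAction.mem_stabilizer_iff, hstab]; exact hmem⟩
    · exact hz.not_finite Subtype.finite
  -- the orbit of the point under the normalizer
  set O := MulAction.orbit B.N o with hO
  have hO7 : O.ncard = 7 := by
    rw [hO, ← MulAction.index_stabilizer]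
    have heq : MulAction.stabilizer B.N o = K.subgroupOf B.N := by
      ext n
      rw [MulAction.mem_stabilizer_iff, Subgroup.mem_subgroupOf]
      exact ((SetLike.ext_iff.1 hstab (n : G))).trans Iff.rfl
    rw [heq]
    have hle : X.H1.subgroupOf B.N ≤ K.subgroupOf B.N := fun n hn => h1 hn
    have hd := Subgroup.card_dvd_of_le hle
    rw [Nat.card_congr (Subgroup.subgroupOfEquivOfLe X.H1_le).toEquiv, X.card_H1] at hd
    have hm := Subgroup.card_mul_index (K.subgroupOf B.N)
    rw [B.card] at hm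
    obtain ⟨k, hk⟩ := hd
    rw [hk] at hm
    have hd7 : (K.subgroupOf B.N).index ∣ 7 := by
      refine ⟨k, ?_⟩
      rw [mul_assoc] at hm
      have : 5760 * (k * (K.subgroupOf B.N).index) = 5760 * 7 := hm
      rw [mul_comm]; exact (Nat.eq_of_mul_eq_mul_left (by norm_num : 0 < 5760) this).symm
    refine ((Nat.dvd_prime (by norm_num : Nat.Prime 7)).1 hd7).resolve_left fun h => hnotle ?_
    rw [Subgroup.index_eq_one, Subgroup.subgroupOf_eq_top] at h
    exact h
  have hOF : O ⊆ (F : Set (G ⧸ K)) := by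
    rintro _ ⟨n, rfl⟩
    exact hstable n n.2 o hoF
  -- counting incidences with the subgroup of order sixteen
  set U := Finset.univ.filter fun g : G => g ∈ B.S.E with hU
  have hU16 : U.card = 16 := by
    rw [hU, ← Fintype.card_subtype, ← Nat.card_eq_fintype_card]; exact B.S.card
  have h128 : ∑ x : G ⧸ K, (U.filter fun e => e • x = x).card = 128 := by
    have h7 : ∀ e ∈ U.erase 1, ∑ x : G ⧸ K, (if e • x = x then 1 else 0) = 7 := by
      intro e he
      obtain ⟨he1, he⟩ := Finset.mem_erase.1 he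
      haveI : Fact (Nat.Prime 2) := ⟨Nat.prime_two⟩
      have ho2 : orderOf e = 2 := orderOf_eq_prime (by rw [pow_two]; exact B.S.sq e (Finset.mem_filter.1 he).2) he1
      have h := hfc e
      rw [ho2, show val22 2 (cn e) = 6 from rfl, Nat.card_eq_fintype_card] at h
      rw [← Finset.card_filter, ← Fintype.card_subtype]
      have : Fintype.card {x : G ⧸ K // e • x = x} = Fintype.card (MulAction.fixedBy (G ⧸ K) e) :=
        Fintype.card_congr (Equiv.subtypeEquivRight fun x => Iff.rfl)
      omega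
    rw [Finset.sum_congr rfl fun x _ => Finset.card_filter _ _, Finset.sum_comm,
      ← Finset.add_sum_erase _ _ (show (1 : G) ∈ U by simp [hU, one_mem]), Finset.sum_congr rfl h7,
      Finset.sum_const, Finset.card_erase_of_mem (show (1 : G) ∈ U by simp [hU, one_mem]), hU16]
    simp [h23]
  have hFx : ∀ x ∈ F, (U.filter fun e => e • x = x).card = 16 := fun x hx => by
    rw [Finset.filter_true_of_mem fun e he => (hFmem x).1 hx e (Finset.mem_filter.1 he).2, hU16]
  have hone : ∀ x : G ⧸ K, 1 ≤ (U.filter fun e => e • x = x).card := fun x =>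
    Finset.card_pos.2 ⟨1, by simp [hU, one_mem]⟩
  rw [← Finset.sum_add_sum_compl F, Finset.sum_congr rfl hFx, Finset.sum_const, smul_eq_mul] at h128
  have hlow : Fᶜ.card ≤ ∑ x ∈ Fᶜ, (U.filter fun e => e • x = x).card := by
    rw [Finset.card_eq_sum_ones]
    exact Finset.sum_le_sum fun x _ => hone x
  have hF7' : 7 ≤ F.card := by
    rw [← hO7, ← Set.ncard_coe_finset]
    exact Set.ncard_le_ncard hOF
  have hcompl : Fᶜ.card = 23 - F.card := by rw [Finset.card_compl, h23]
  have hF7 : F.card = 7 := by omega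
  have hFeq : (F : Set (G ⧸ K)) = O := (Set.eq_of_subset_of_ncard_le hOF (by rw [hO7, Set.ncard_coe_finset, hF7])).symm
  have hfree : ∀ x ∉ F, ∀ e ∈ B.S.E, e • x = x → e = 1 := by
    intro x hx e he hex
    by_contra he1
    have h2 : 2 ≤ (U.filter fun e => e • x = x).card :=
      Finset.one_lt_card.2 ⟨e, by simp [hU, he, hex], 1, by simp [hU, one_mem], he1⟩
    have hxc : x ∈ Fᶜ := Finset.mem_compl.2 hx
    rw [← Finset.add_sum_erase _ _ hxc] at h128
    have hl : (Fᶜ.erase x).card ≤ ∑ y ∈ Fᶜ.erase x, (U.filter fun e => e • y = y).card := by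
      rw [Finset.card_eq_sum_ones]
      exact Finset.sum_le_sum fun y _ => hone y
    rw [Finset.card_erase_of_mem hxc] at hl
    omega
  have hreg : ∀ x y, x ∉ F → y ∉ F → ∃ e ∈ B.S.E, e • x = y := by
    intro x y hx hy
    have himg : U.image (fun e => e • x) = Fᶜ := by
      refine Finset.eq_of_subset_of_card_le (fun w hw => ?_) ?_
      · obtain ⟨e, he, rfl⟩ := Finset.mem_image.1 hw
        have he' := (Finset.mem_filter.1 he).2
        refine Finset.mem_compl.2 fun h => hx ?_
        rw [show x = e⁻¹ • e • x by rw [inv_smul_smul], (hFmem _).1 h e⁻¹ (inv_mem he')]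
        exact h
      · rw [Finset.card_image_of_injOn, hU16, hcompl, hF7]
        intro a ha b hb hab
        have ha' := (Finset.mem_filter.1 (Finset.mem_coe.1 ha)).2
        have hb' := (Finset.mem_filter.1 (Finset.mem_coe.1 hb)).2
        have := hfree x hx (b⁻¹ * a) (mul_mem (inv_mem hb') ha') (by
          rw [mul_smul, show a • x = b • x from hab, inv_smul_smul])
        exact (inv_mul_eq_one.1 this).symm
    obtain ⟨e, he, rfl⟩ := Finset.mem_image.1 (himg ▸ Finset.mem_compl.2 hy : y ∈ U.image (fun e => e • x))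
    exact ⟨e, (Finset.mem_filter.1 he).2, rfl⟩
  -- the normalizer induces the alternating group on the block
  let θ : B.N →* Equiv.Perm F := MonoidHom.mk' (fun n =>
    { toFun := fun x => ⟨(n : G) • (x : G ⧸ K), hstable n n.2 x x.2⟩
      invFun := fun x => ⟨(n : G)⁻¹ • (x : G ⧸ K), hstable _ (inv_mem n.2) x x.2⟩
      left_inv := fun x => Subtype.ext (inv_smul_smul _ _)
      right_inv := fun x => Subtype.ext (smul_inv_smul _ _) })
    fun a b => Equiv.ext fun x => Subtype.ext (mul_smul (a : G) b _)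
  have hθ : ∀ (n : B.N) (x : F), ((θ n x : F) : G ⧸ K) = (n : G) • (x : G ⧸ K) := fun _ _ => rfl
  have hker : θ.ker = B.S.E.subgroupOf B.N := by
    have hle : B.S.E.subgroupOf B.N ≤ θ.ker := fun n hn => MonoidHom.mem_ker.2 (Equiv.ext fun x => Subtype.ext (by
      rw [hθ]
      exact (hFmem _).1 x.2 _ hn))
    refine le_antisymm ?_ hle
    haveI : IsSimpleGroup (alternatingGroup (Fin 7)) :=
      alternatingGroup.isSimpleGroup (by simp)
    have himg : (θ.ker.map B.φ).Normal := Subgroup.Normal.map θ.normal_ker B.φ B.surj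
    rcases himg.eq_bot_or_eq_top with h | h
    · rw [Subgroup.map_eq_bot_iff, B.ker] at h
      exact h
    · exfalso
      have htop : θ.ker = ⊤ := by
        refine (Subgroup.eq_top_iff' _).2 fun n => ?_
        obtain ⟨m, hm, hmn⟩ := (h ▸ Subgroup.mem_top (B.φ n) : B.φ n ∈ θ.ker.map B.φ)
        have hk : n * m⁻¹ ∈ B.φ.ker := by rw [MonoidHom.mem_ker, map_mul, map_inv, hmn, mul_inv_cancel]
        rw [B.ker] at hk
        have := mul_mem (hle hk) hm
        rwa [inv_mul_cancel_right] at this
      have hsub : O ⊆ {o} := by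
        rintro _ ⟨n, rfl⟩
        have hn : θ n = 1 := MonoidHom.mem_ker.1 (htop ▸ Subgroup.mem_top n)
        exact congrArg Subtype.val (Equiv.ext_iff.1 hn ⟨o, hoF⟩)
      have := Set.ncard_le_ncard hsub
      rw [hO7, Set.ncard_singleton] at this
      omega
  have hrange : θ.range = alternatingGroup F := by
    refine Equiv.Perm.eq_alternatingGroup_of_index_eq_two ?_
    have h := Subgroup.card_mul_index θ.ker
    rw [Subgroup.index_ker, hker, Nat.card_congr (Subgroup.subgroupOfEquivOfLe hEN).toEquiv, B.S.card, B.card] at h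
    have h2 := Subgroup.card_mul_index θ.range
    rw [Nat.card_perm, Nat.card_eq_fintype_card (α := F), Fintype.card_coe, hF7] at h2
    rw [show Nat.factorial 7 = 5040 from rfl] at h2
    have hr : Nat.card θ.range = 2520 := by omega
    rw [hr] at h2
    omega
  have hmulti : ∀ k, k ≤ 5 → ∀ p q : Fin k ↪ G ⧸ K, (∀ i, p i ∈ F) → (∀ i, q i ∈ F) →
      ∃ n ∈ B.N, n • p = q := by
    intro k hk p q hp hq
    haveI := alternatingGroup.isMultiplyPretransitive F
    haveI : MulAction.IsMultiplyPretransitive (alternatingGroup F) F k :=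
      MulAction.isMultiplyPretransitive_of_le (n := Nat.card F - 2) (by simp [hF7]; omega) (by omega)
    let p' : Fin k ↪ F := ⟨fun i => ⟨p i, hp i⟩, fun i j h => p.injective (congrArg Subtype.val h)⟩
    let q' : Fin k ↪ F := ⟨fun i => ⟨q i, hq i⟩, fun i j h => q.injective (congrArg Subtype.val h)⟩
    obtain ⟨σ, hσ⟩ := MulAction.exists_smul_eq (alternatingGroup F) p' q'
    obtain ⟨n, hn⟩ := (hrange.symm ▸ σ.2 : (σ : Equiv.Perm F) ∈ θ.range)
    refine ⟨n, n.2, Function.Embedding.ext fun i => ?_⟩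
    have := congrArg Subtype.val (DFunLike.congr_fun hσ i)
    change ((σ : Equiv.Perm F) (p' i) : G ⧸ K) = q i at this
    rw [← hn, hθ] at this
    exact this
  have hfix : ∀ (g : G) (m : ℕ) (v : ℤ), orderOf g = m → (∀ c, val22 m c = v) →
      (Nat.card (MulAction.fixedBy (G ⧸ K) g) : ℤ) = 1 + v := fun g m v hg hv => by
    rw [hfc g, hg, hv]
  exact ⟨⟨B, inferInstance, h23, F, hF7, hFmem, hreg, hstable, hmulti,
    fun g hg => by have := hfix g 5 2 hg (fun _ => rfl); omega,
    fun g hg => by have := hfix g 7 1 hg (fun _ => rfl); omega,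
    fun g hg => by have := hfix g 11 0 hg (fun _ => rfl); omega⟩⟩

end Classes

end Cfsg.Agent.Invol.M23Ord
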