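import Mathlib
import Cfsg.Prelude.Def_Spor_Mathieu
import Cfsg.Prelude.Def_Sporadic
import Cfsg.Agent.Lib.Invol.Order10200960.FixedBlock
import Cfsg.Agent.Lib.Spor.SteinerUnique723
import Cfsg.Agent.Lib.Fus.MathieuTwoGroups

/-!
Simple groups of order 10200960 are four-transitive on twenty-three points and preserve a Steiner system
S(4, 7, 23), so they are isomorphic to the Mathieu group of that degree.
-/

set_option autoImplicit false
set_option linter.style.haveILetI false
set_option linter.unusedSectionVars false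

namespace Cfsg.Agent.Invol.M23Ord

open Cfsg Cfsg.Agent.Spor Cfsg.Agent.Spor.SteinerCode
open scoped Pointwise

universe u

variable {G : Type u} [Group G] [Finite G] {Ω : Type u} [Fintype Ω] [MulAction G Ω]

/-- A prime-order element fixing just `k` points moves every invariant set avoiding them in cycles of that length. -/
theorem no_small_set {q k : ℕ} [Fact q.Prime] {p : Fin k ↪ Ω} {w : G} (hw : orderOf w = q) (hwp : w • p = p)
    (hfix : Nat.card (MulAction.fixedBy Ω w) = k) (A : Finset Ω) (hA : ∀ x ∈ A, w • x ∈ A)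
    (hdis : ∀ i, p i ∉ A) : q ∣ A.card := by
  classical
  have hfp : ∀ x, w • x = x → ∃ i, p i = x := by
    intro x hx
    have hsub : Set.range p ⊆ MulAction.fixedBy Ω w := by
      rintro _ ⟨i, rfl⟩
      exact DFunLike.congr_fun hwp i
    have heq := Set.eq_of_subset_of_ncard_le hsub (by
      rw [← Nat.card_coe_set_eq, hfix, Set.ncard_range_of_injective p.injective, Nat.card_fin])
    exact (heq.ge hx : x ∈ Set.range p)
  let f : {x // x ∈ A} → {x // x ∈ A} := fun x => ⟨w • (x : Ω), hA _ x.2⟩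
  have hf : Function.Injective f := fun a b h => Subtype.ext (MulAction.injective w (congrArg Subtype.val h))
  let σ : Equiv.Perm {x // x ∈ A} := Equiv.ofBijective f hf.bijective_of_finite
  have h1 : ∀ n x, ((σ ^ n) x).1 = w ^ n • x.1 := fun n => by
    induction n with
    | zero => intro x; simp
    | succ m ih =>
      intro x
      rw [pow_succ', Equiv.Perm.mul_apply, pow_succ', mul_smul, ← ih]
      rfl
  have hσ : σ ^ q ^ 1 = 1 := Equiv.ext fun x => Subtype.ext (by
    rw [pow_one, h1, ← hw, pow_orderOf_eq_one, one_smul]; rfl)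
  have h := Equiv.Perm.card_compl_support_modEq (p := q) hσ
  have he : σ.supportᶜ = ∅ := by
    rw [Finset.eq_empty_iff_forall_notMem]
    intro x hx
    rw [Finset.mem_compl, Equiv.Perm.notMem_support] at hx
    obtain ⟨i, hi⟩ := hfp _ (congrArg Subtype.val hx)
    exact hdis i (hi ▸ x.2)
  rw [he, Finset.card_empty, Fintype.card_coe] at h
  exact Nat.modEq_zero_iff_dvd.1 h.symm

namespace Blk

variable [IsSimpleGroup G] (W : Blk G Ω)

include W in
theorem pretrans : MulAction.IsPretransitive G Ω := W.pre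

include W in
theorem card_stab {k : ℕ} (hk : MulAction.IsPretransitive G (Fin k ↪ Ω)) (p : Fin k ↪ Ω) :
    Nat.card (MulAction.stabilizer G p) * Nat.descFactorial 23 k = Nat.card G := by
  classical
  haveI := hk
  rw [← Subgroup.card_mul_index (MulAction.stabilizer G p), MulAction.index_stabilizer_of_transitive,
    Nat.card_eq_fintype_card (α := Fin k ↪ Ω), Fintype.card_embedding_eq, W.card23, Fintype.card_fin]

include W in
/-- One more degree of transitivity. -/
theorem step (hG : Nat.card G = 10200960) {k q : ℕ} [Fact q.Prime] (hk : k ≤ 4)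
    (htr : MulAction.IsPretransitive G (Fin k ↪ Ω)) (hq : q ∣ 10200960 / Nat.descFactorial 23 k)
    (hq7 : ¬ q ∣ 7 - k) (hfix : ∀ g : G, orderOf g = q → Nat.card (MulAction.fixedBy Ω g) = k) :
    MulAction.IsPretransitive G (Fin (k + 1) ↪ Ω) := by
  classical
  haveI := htr
  have hF : Fintype.card W.F = 7 := by rw [Fintype.card_coe, W.card7]
  obtain ⟨em⟩ : Nonempty (Fin 7 ≃ W.F) := ⟨(Fintype.equivFinOfCardEq hF).symm⟩
  let p : Fin k ↪ Ω := ⟨fun i => (em (Fin.castLE (by omega) i) : Ω), fun i j h =>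
    Fin.castLE_injective (by omega) (em.injective (Subtype.ext h))⟩
  have hpF : ∀ i, p i ∈ W.F := fun i => (em _).2
  set L := MulAction.stabilizer G p with hL
  have hLc : q ∣ Nat.card L := by
    have h := W.card_stab htr p
    rw [hG] at h
    rw [← h, Nat.mul_div_cancel _ (Nat.descFactorial_pos.2 (by omega))] at hq
    exact hq
  obtain ⟨w', hw'⟩ := exists_prime_orderOf_dvd_card' (G := L) q hLc
  rw [← Subgroup.orderOf_coe] at hw'
  have hpfix : ∀ g : G, (∀ i, g • p i = p i) → g ∈ L := fun g h => Function.Embedding.ext h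
  set A := W.F \ Finset.univ.map p with hA
  have hAc : A.card = 7 - k := by
    rw [hA, Finset.card_sdiff_of_subset (fun x hx => ?_), W.card7, Finset.card_map, Finset.card_univ, Fintype.card_fin]
    obtain ⟨i, -, rfl⟩ := Finset.mem_map.1 hx
    exact hpF i
  have hAmem : ∀ x, x ∈ A ↔ x ∈ W.F ∧ ∀ i, p i ≠ x := fun x => by simp [hA]
  have hAA : ∀ x ∈ A, ∀ y ∈ A, ∃ n ∈ L, n • x = y := by
    intro x hx y hy
    obtain ⟨hxF, hxp⟩ := (hAmem x).1 hx
    obtain ⟨hyF, hyp⟩ := (hAmem y).1 hy
    have hinj : ∀ z, (∀ i, p i ≠ z) → Function.Injective (Fin.snoc p z : Fin (k + 1) → Ω) := fun z hz =>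
      Fin.snoc_injective_iff.2 ⟨p.injective, by rintro ⟨i, hi⟩; exact hz i hi⟩
    have hin : ∀ z ∈ W.F, ∀ i, (Fin.snoc p z : Fin (k + 1) → Ω) i ∈ W.F := fun z hz i => by
      refine Fin.lastCases ?_ (fun j => ?_) i
      · simpa using hz
      · simpa using hpF j
    obtain ⟨n, -, hn⟩ := W.multi (k + 1) (by omega) ⟨_, hinj x hxp⟩ ⟨_, hinj y hyp⟩ (hin x hxF) (hin y hyF)
    refine ⟨n, hpfix n fun i => ?_, ?_⟩
    · simpa using DFunLike.congr_fun hn i.castSucc
    · simpa using DFunLike.congr_fun hn (Fin.last k)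
  have hEL : ∀ e ∈ W.B.S.E, e ∈ L := fun e he => hpfix e fun i => (W.mem_F _).1 (hpF i) e he
  -- some element moves a point of `A` out of the block
  obtain ⟨g, hgL, a, haA, hga⟩ : ∃ g ∈ L, ∃ a ∈ A, g • a ∉ W.F := by
    by_contra hno
    push Not at hno
    have hAinv : ∀ x ∈ A, (w' : G) • x ∈ A := fun x hx => (hAmem _).2 ⟨hno _ w'.2 x hx, fun i e => by
      refine ((hAmem x).1 hx).2 i ?_
      have h' : (w' : G) • p i = p i := DFunLike.congr_fun (w'.2 : (w' : G) • p = p) i
      exact MulAction.injective (w' : G) (h'.trans e)⟩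
    have h := no_small_set hw' (w'.2 : (w' : G) • p = p) (hfix _ hw') A hAinv fun i hi => ((hAmem _).1 hi).2 i rfl
    rw [hAc] at h
    exact hq7 h
  have hall : ∀ y, (∀ i, p i ≠ y) → ∃ l ∈ L, l • a = y := by
    intro y hy
    by_cases hyF : y ∈ W.F
    · exact hAA a haA y ((hAmem y).2 ⟨hyF, hy⟩)
    · obtain ⟨e, he, hey⟩ := W.regular _ y hga hyF
      exact ⟨e * g, mul_mem (hEL e he) hgL, by rw [mul_smul, hey]⟩
  refine ⟨fun x y => ?_⟩
  let cut : (Fin (k + 1) ↪ Ω) → (Fin k ↪ Ω) := fun x =>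
    ⟨fun i => x i.castSucc, fun i j h => Fin.castSucc_injective _ (x.injective h)⟩
  obtain ⟨g₁, hg₁⟩ := MulAction.exists_smul_eq G (cut x) p
  obtain ⟨g₂, hg₂⟩ := MulAction.exists_smul_eq G (cut y) p
  have hout : ∀ (g : G) (x : Fin (k + 1) ↪ Ω), g • cut x = p → ∀ i, p i ≠ g • x (Fin.last k) := fun g x h i e => by
    have h' : g • x i.castSucc = p i := DFunLike.congr_fun h i
    rw [e] at h'
    exact absurd (x.injective (MulAction.injective g h')) (Fin.castSucc_lt_last i).ne
  obtain ⟨l₁, hl₁, e₁⟩ := hall _ (hout g₁ x hg₁)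
  obtain ⟨l₂, hl₂, e₂⟩ := hall _ (hout g₂ y hg₂)
  refine ⟨g₂⁻¹ * (l₂ * l₁⁻¹) * g₁, Function.Embedding.ext fun i => ?_⟩
  show (g₂⁻¹ * (l₂ * l₁⁻¹) * g₁) • x i = y i
  rw [mul_smul, mul_smul, mul_smul, inv_smul_eq_iff]
  refine Fin.lastCases ?_ (fun j => ?_) i
  · rw [← e₁, inv_smul_smul, e₂]
  · have h1 : g₁ • x j.castSucc = p j := DFunLike.congr_fun hg₁ j
    have h2 : g₂ • y j.castSucc = p j := DFunLike.congr_fun hg₂ j
    have h3 : ∀ l ∈ L, l • p j = p j := fun l hl => DFunLike.congr_fun (hl : l • p = p) j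
    rw [h1, h3 _ (inv_mem hl₁), h3 _ hl₂, h2]

include W in
theorem four_trans (hG : Nat.card G = 10200960) : MulAction.IsPretransitive G (Fin 4 ↪ Ω) := by
  haveI : Fact (Nat.Prime 11) := ⟨by norm_num⟩
  haveI : Fact (Nat.Prime 7) := ⟨by norm_num⟩
  haveI : Fact (Nat.Prime 5) := ⟨by norm_num⟩
  haveI := W.pre
  have h1 : MulAction.IsPretransitive G (Fin 1 ↪ Ω) := ⟨fun x y => by
    obtain ⟨g, hg⟩ := MulAction.exists_smul_eq G (x 0) (y 0)
    exact ⟨g, Function.Embedding.ext fun i => by rw [Subsingleton.elim i 0]; exact hg⟩⟩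
  have h2 := W.step hG (k := 1) (q := 11) (by norm_num) h1
    (by rw [show Nat.descFactorial 23 1 = 23 from rfl]; norm_num) (by norm_num) W.fix_eleven
  have h3 := W.step hG (k := 2) (q := 7) (by norm_num) h2
    (by rw [show Nat.descFactorial 23 2 = 506 from rfl]; norm_num) (by norm_num) W.fix_seven
  exact W.step hG (k := 3) (q := 5) (by norm_num) h3
    (by rw [show Nat.descFactorial 23 3 = 10626 from rfl]; norm_num) (by norm_num) W.fix_five

include W in
/-- Four points of the block lie in no other image of the block. -/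
theorem block_unique [DecidableEq Ω] (hG : Nat.card G = 10200960) {p : Fin 4 ↪ Ω} (hp : ∀ i, p i ∈ W.F) {k : G}
    (hk : ∀ i, p i ∈ W.F.image (k • ·)) : W.F.image (k • ·) = W.F := by
  classical
  haveI : Fact (Nat.Prime 2) := ⟨Nat.prime_two⟩
  set L := MulAction.stabilizer G p with hL
  have hLc : Nat.card L = 48 := by
    have h := W.card_stab (W.four_trans hG) p
    rw [← hL, hG, show Nat.descFactorial 23 4 = 212520 from rfl] at h
    omega
  have hstab : MulAction.stabilizer W.B.N p = L.subgroupOf W.B.N := rfl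
  have hLN : L ≤ W.B.N := by
    set O : Finset (Fin 4 ↪ Ω) := Finset.univ.filter fun q => ∀ i, q i ∈ W.F with hO
    have horb : MulAction.orbit W.B.N p = (O : Set (Fin 4 ↪ Ω)) := by
      ext q
      simp only [hO, Finset.coe_filter, Finset.mem_univ, true_and, Set.mem_ofPred_eq]
      constructor
      · rintro ⟨n, rfl⟩ i
        exact W.stable n n.2 _ (hp i)
      · intro hq
        obtain ⟨n, hn, he⟩ := W.multi 4 (by norm_num) p q hp hq
        exact ⟨⟨n, hn⟩, he⟩
    have hOc : O.card = 840 := by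
      let e : {q : Fin 4 ↪ Ω // ∀ i, q i ∈ W.F} ≃ (Fin 4 ↪ W.F) :=
        { toFun := fun q => ⟨fun i => ⟨q.1 i, q.2 i⟩, fun i j h => q.1.injective (congrArg Subtype.val h)⟩
          invFun := fun q => ⟨⟨fun i => (q i : Ω), fun i j h => q.injective (Subtype.ext h)⟩, fun i => (q i).2⟩
          left_inv := fun q => rfl
          right_inv := fun q => rfl }
      rw [hO, ← Fintype.card_subtype, Fintype.card_congr e, Fintype.card_embedding_eq, Fintype.card_coe, W.card7,
        Fintype.card_fin]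
      rfl
    have h := Subgroup.card_mul_index (MulAction.stabilizer W.B.N p)
    have hidx : (MulAction.stabilizer W.B.N p).index = 840 := by
      rw [MulAction.index_stabilizer]
      exact (congrArg Set.ncard horb).trans ((Set.ncard_coe_finset O).trans hOc)
    rw [hidx, W.B.card, hstab, ← Subgroup.inf_subgroupOf_right,
      Nat.card_congr (Subgroup.subgroupOfEquivOfLe inf_le_right).toEquiv] at h
    have he := Subgroup.eq_of_le_of_card_ge (inf_le_left : L ⊓ W.B.N ≤ L) (by omega)
    exact inf_eq_left.1 he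
  have hfix : ∀ e ∈ W.B.S.E, e ∈ L := fun e he => Function.Embedding.ext fun i => (W.mem_F _).1 (hp i) e he
  set E' := W.B.S.E.map (MulAut.conj k).toMonoidHom with hE'
  have hE'c : Nat.card E' = 16 := by
    rw [hE', ← Nat.card_congr (W.B.S.E.equivMapOfInjective _ (MulAut.conj k).injective).toEquiv, W.B.S.card]
  have hE'L : E' ≤ L := by
    rintro _ ⟨e, he, rfl⟩
    refine Function.Embedding.ext fun i => ?_
    obtain ⟨x, hx, hxe⟩ := Finset.mem_image.1 (hk i)
    show (k * e * k⁻¹) • p i = p i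
    rw [← hxe, mul_smul, mul_smul, inv_smul_smul, (W.mem_F x).1 hx e he]
  have hp2 : ∀ A : Subgroup G, Nat.card A = 16 → IsPGroup 2 A := fun A hA =>
    IsPGroup.of_card (n := 4) (by rw [hA]; norm_num)
  obtain ⟨n, hn⟩ := (IsPGroup.iff_card).1
    ((hp2 _ hE'c).to_sup_of_normal_right' (hp2 _ W.B.S.card) ((hE'L.trans hLN).trans (le_of_eq W.B.hN)))
  have hd : Nat.card (E' ⊔ W.B.S.E : Subgroup G) ∣ 48 := hLc ▸ Subgroup.card_dvd_of_le (sup_le hE'L hfix)
  have h16 : Nat.card (E' ⊔ W.B.S.E : Subgroup G) = 16 := by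
    have h1 := Subgroup.card_dvd_of_le (le_sup_right : W.B.S.E ≤ E' ⊔ W.B.S.E)
    rw [W.B.S.card, hn] at h1
    rw [hn] at hd ⊢
    exact Nat.dvd_antisymm ((Nat.Coprime.pow_left n (by norm_num : Nat.Coprime 2 3)).dvd_of_dvd_mul_right
      (show 2 ^ n ∣ 16 * 3 from hd)) h1
  have hle : E' ≤ W.B.S.E := le_sup_left.trans
    (Subgroup.eq_of_le_of_card_ge (le_sup_right : W.B.S.E ≤ E' ⊔ W.B.S.E) (by rw [h16, W.B.S.card])).ge
  have hkN : k ∈ W.B.N := W.B.hN ▸ M22Ord.mem_normalizer_of_inv fun y hy => hle ⟨y, hy, rfl⟩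
  refine Finset.eq_of_subset_of_card_le (fun x hx => ?_) ?_
  · obtain ⟨y, hy, rfl⟩ := Finset.mem_image.1 hx
    exact W.stable k hkN y hy
  · rw [Finset.card_image_of_injective _ (MulAction.injective k)]

include W in
/-- The images of the block form a Steiner system. -/
theorem steiner [DecidableEq Ω] (hG : Nat.card G = 10200960) :
    IsSteinerSystem 4 7 (Set.range fun g : G => W.F.image (g • ·)) := by
  classical
  haveI := W.four_trans hG
  obtain ⟨em⟩ : Nonempty (Fin 7 ≃ W.F) := ⟨(Fintype.equivFinOfCardEq (by rw [Fintype.card_coe, W.card7])).symm⟩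
  let p₀ : Fin 4 ↪ Ω := ⟨fun i => (em (Fin.castLE (by norm_num) i) : Ω), fun i j h =>
    Fin.castLE_injective _ (em.injective (Subtype.ext h))⟩
  have hp₀ : ∀ i, p₀ i ∈ W.F := fun i => (em _).2
  refine ⟨?_, fun s hs => ?_⟩
  · rintro _ ⟨g, rfl⟩
    rw [Finset.card_image_of_injective _ (MulAction.injective g), W.card7]
  obtain ⟨es⟩ : Nonempty (Fin 4 ≃ s) := ⟨(Fintype.equivFinOfCardEq (by rw [Fintype.card_coe, hs])).symm⟩
  let ps : Fin 4 ↪ Ω := ⟨fun i => (es i : Ω), fun i j h => es.injective (Subtype.ext h)⟩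
  obtain ⟨g, hg⟩ := MulAction.exists_smul_eq G p₀ ps
  have hgi : ∀ i, g • p₀ i = (es i : Ω) := fun i => DFunLike.congr_fun hg i
  refine ⟨W.F.image (g • ·), ⟨⟨g, rfl⟩, fun x hx => ?_⟩, ?_⟩
  · obtain ⟨i, hi⟩ := es.surjective ⟨x, hx⟩
    exact Finset.mem_image.2 ⟨p₀ i, hp₀ i, by rw [hgi, hi]⟩
  · rintro _ ⟨⟨h, rfl⟩, hsh⟩
    have hcomp : W.F.image ((g⁻¹ * h) • ·) = (W.F.image (h • ·)).image (g⁻¹ • ·) := by
      rw [Finset.image_image]; exact Finset.image_congr fun x _ => mul_smul _ _ _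
    have hu := W.block_unique hG hp₀ (k := g⁻¹ * h) fun i => by
      rw [hcomp]
      exact Finset.mem_image.2 ⟨_, hsh (es i).2, by rw [← hgi, inv_smul_smul]⟩
    rw [hcomp] at hu
    show W.F.image (h • ·) = W.F.image (g • ·)
    conv_rhs => rw [← hu, Finset.image_image]
    symm
    refine (Finset.image_congr fun x _ => ?_).trans (Finset.image_id)
    exact smul_inv_smul g x

include W in
theorem iso_m23 (hG : Nat.card G = 10200960) : Cfsg.Spor.IsoM23 G := by
  classical
  set B : Set (Finset Ω) := Set.range fun g : G => W.F.image (g • ·) with hB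
  have hS : IsSteinerSystem 4 7 B := W.steiner hG
  haveI := W.pre
  let ψ : G →* Equiv.Perm Ω := MulAction.toPermHom G Ω
  have hinj : Function.Injective ψ := by
    rcases Subgroup.Normal.eq_bot_or_eq_top ψ.normal_ker with hk | hk
    · exact (ψ.ker_eq_bot_iff).1 hk
    · exfalso
      obtain ⟨x, y, hne⟩ := Fintype.exists_pair_of_one_lt_card (α := Ω) (by rw [W.card23]; norm_num)
      obtain ⟨g, hg⟩ := MulAction.exists_smul_eq G x y
      refine hne ?_
      rw [← hg]
      exact (Equiv.ext_iff.1 (show ψ g = (1 : Equiv.Perm Ω) from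
        MonoidHom.mem_ker.1 (hk.symm ▸ Subgroup.mem_top g : g ∈ ψ.ker)) x).symm
  have hmove : ∀ (g : G) (b : Finset Ω), b ∈ B → b.image (g • ·) ∈ B := by
    rintro g _ ⟨k, rfl⟩
    exact ⟨g * k, by rw [Finset.image_image]; exact Finset.image_congr fun x _ => mul_smul _ _ _⟩
  have haut : ∀ g, ψ g ∈ setSystemAut B := fun g => SteinerAut.mem_aut.2 fun b => ⟨fun h => by
    have h' := hmove g⁻¹ _ (show b.image (g • ·) ∈ B from h)
    rwa [Finset.image_image, show ((fun x => g⁻¹ • x) ∘ fun x : Ω => g • x) = id from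
      funext fun x => inv_smul_smul g x, Finset.image_id] at h',
    fun h => hmove g b h⟩
  obtain ⟨e, f, -⟩ := exists_aut723 W.card23 hS
  haveI h2 : MulAction.IsMultiplyPretransitive M24 GolayPt 2 := Golay.M24_pretransitive (by norm_num)
  haveI : MulAction.IsPretransitive M24 GolayPt := MulAction.isPretransitive_of_is_two_pretransitive
  obtain ⟨σ, hσ⟩ := MulAction.exists_smul_eq M24 (e none) (none : GolayPt)
  have hcard : Nat.card (setSystemAut B) = 10200960 := by
    rw [Nat.card_congr f.toEquiv, Golay.card_stabilizer_point]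
  have hbij : Function.Bijective (ψ.codRestrict (setSystemAut B) haut) :=
    Function.Injective.bijective_of_nat_card_le (fun a b h => hinj (congrArg Subtype.val h)) (by rw [hcard, hG])
  -- the stabilizer in `M24` of the extra point
  let ι : MulAction.stabilizer M24 (none : GolayPt) →* Cfsg.Spor.M23 :=
    MonoidHom.mk' (fun s => ⟨((s : M24) : Equiv.Perm GolayPt),
      Subgroup.mem_inf.2 ⟨(s : M24).2, MulAction.mem_stabilizer_iff.2 s.2⟩⟩) fun a b => rfl
  have hι : Function.Bijective ι :=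
    ⟨fun a b h => Subtype.ext (Subtype.ext (congrArg (fun s : Cfsg.Spor.M23 => (s : Equiv.Perm GolayPt)) h)),
      fun s => ⟨⟨⟨(s : Equiv.Perm GolayPt), s.2.1⟩, s.2.2⟩, rfl⟩⟩
  exact ⟨(MulEquiv.ofBijective _ hbij).trans (f.trans (((MulAction.stabilizerEquivStabilizer hσ.symm)).trans
    (MulEquiv.ofBijective ι hι)))⟩

end Blk

/-- Simple groups of order 10200960 are isomorphic to the Mathieu group of degree twenty-three. -/
theorem iso_of_order {G : Type u} [Group G] [Finite G] [IsSimpleGroup G] (hG : Nat.card G = 10200960) :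
    Cfsg.Spor.IsoM23 G := by
  haveI : Fact (Nat.Prime 5) := ⟨by norm_num⟩
  haveI : Fact (Nat.Prime 7) := ⟨by norm_num⟩
  haveI : Fact (Nat.Prime 11) := ⟨by norm_num⟩
  haveI : Fact (Nat.Prime 23) := ⟨by norm_num⟩
  obtain ⟨D⟩ := exists_data (G := G) hG
  obtain ⟨C⟩ := D.exists_classes hG
  obtain ⟨Ω, hfin, hact, ⟨W⟩⟩ := C.exists_blk D hG
  exact W.iso_m23 hG

end Cfsg.Agent.Invol.M23Ord
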